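import Groth.Prelude.Def_Found
import Mathlib

/-!
# Existence of Cohen rings (Stacks 0328)

For a field `k` of characteristic `p` we construct a complete discrete valuation ring with
uniformizer `p` and residue field `k`.  The construction: Zorn's lemma on subrings `Γ` of
`F × k`, `F` an algebraically closed field of characteristic zero, which are "graphs" of a
local ring with maximal ideal `(p)` together with a map to `k`; then complete.
-/

universe u

namespace Groth.Agent.Lib.Helper88.CohenExist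

open Polynomial IsLocalRing

section Good

variable {F k : Type*} [CommRing F] [Nontrivial F] [Field k] (p : ℕ) [CharP k p]

/-- the conditions on a subring of `F × k` -/
structure Good (Γ : Subring (F × k)) : Prop where
  inj : ∀ g ∈ Γ, g.1 = 0 → g.2 = 0
  ker : ∀ g ∈ Γ, g.2 = 0 → ∃ h ∈ Γ, g = (p : F × k) * h
  unit : ∀ g ∈ Γ, g.2 ≠ 0 → ∃ h ∈ Γ, g * h = 1

theorem good_range {A : Type*} [CommRing A] [IsLocalRing A]
    (hA : maximalIdeal A = Ideal.span {(p : A)}) (ψ : A →+* F × k) : Good p ψ.range := by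
  have hsnd : ∀ e : A, e ∈ maximalIdeal A → (ψ e).2 = 0 := by
    intro e he
    rw [hA, Ideal.mem_span_singleton] at he
    obtain ⟨e', rfl⟩ := he
    rw [map_mul, map_natCast]
    simp [CharP.cast_eq_zero k p]
  have hunit : ∀ e : A, (ψ e).2 ≠ 0 → IsUnit e := by
    intro e he
    by_contra h
    exact he (hsnd e ((mem_maximalIdeal e).mpr h))
  have hU : ∀ g ∈ ψ.range, g.2 ≠ 0 → ∃ h ∈ ψ.range, g * h = 1 := by
    rintro _ ⟨e, rfl⟩ he
    obtain ⟨u, rfl⟩ := hunit e he
    exact ⟨ψ ↑u⁻¹, ⟨_, rfl⟩, by rw [← map_mul, Units.mul_inv, map_one]⟩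
  refine ⟨?_, ?_, hU⟩
  · intro g hg h1
    by_contra h2
    obtain ⟨h, -, hh⟩ := hU g hg h2
    have := congrArg Prod.fst hh
    simp [h1] at this
  · rintro _ ⟨e, rfl⟩ he
    have hne : ¬ IsUnit e := fun hu => by
      have := (hu.map ψ).map (RingHom.snd F k)
      exact this.ne_zero he
    have hmem : e ∈ maximalIdeal A := (mem_maximalIdeal e).mpr hne
    rw [hA, Ideal.mem_span_singleton] at hmem
    obtain ⟨e', rfl⟩ := hmem
    exact ⟨ψ e', ⟨_, rfl⟩, by rw [map_mul, map_natCast]⟩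

/-- second projection on a subring -/
def sndHom (Γ : Subring (F × k)) : Γ →+* k := (RingHom.snd F k).comp Γ.subtype

/-- first projection on a subring -/
def fstHom (Γ : Subring (F × k)) : Γ →+* F := (RingHom.fst F k).comp Γ.subtype

variable {p} {Γ : Subring (F × k)}

theorem Good.isUnit_iff (hΓ : Good p Γ) (g : Γ) : IsUnit g ↔ sndHom Γ g ≠ 0 := by
  constructor
  · intro h
    exact (h.map (sndHom Γ)).ne_zero
  · intro h
    obtain ⟨h', hh', hgh⟩ := hΓ.unit g.1 g.2 h
    exact IsUnit.of_mul_eq_one ⟨h', hh'⟩ (Subtype.ext hgh)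

theorem Good.isLocalRing (hΓ : Good p Γ) : IsLocalRing Γ := by
  apply IsLocalRing.of_nonunits_add
  intro a b ha hb
  have ha' : sndHom Γ a = 0 := by
    by_contra h
    exact ha ((hΓ.isUnit_iff a).mpr h)
  have hb' : sndHom Γ b = 0 := by
    by_contra h
    exact hb ((hΓ.isUnit_iff b).mpr h)
  intro hab
  exact (hΓ.isUnit_iff _).mp hab (by rw [map_add, ha', hb', add_zero])

theorem Good.maximalIdeal_eq (hΓ : Good p Γ) :
    @maximalIdeal Γ _ hΓ.isLocalRing = Ideal.span {(p : Γ)} := by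
  haveI := hΓ.isLocalRing
  ext g
  rw [mem_maximalIdeal, mem_nonunits_iff, hΓ.isUnit_iff, not_not, Ideal.mem_span_singleton]
  constructor
  · intro h
    obtain ⟨h', hh', hgh⟩ := hΓ.ker g.1 g.2 h
    exact ⟨⟨h', hh'⟩, Subtype.ext (by simpa using hgh)⟩
  · rintro ⟨h', rfl⟩
    rw [map_mul, map_natCast, CharP.cast_eq_zero k p, zero_mul]

theorem Good.fst_injective (hΓ : Good p Γ) : Function.Injective (fstHom Γ) := by
  rw [injective_iff_map_eq_zero]
  intro g hg
  apply Subtype.ext
  exact Prod.ext hg (hΓ.inj g.1 g.2 hg)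

theorem Good.isLocalHom_sndHom (hΓ : Good p Γ) : IsLocalHom (sndHom Γ) :=
  ⟨fun g hg => (hΓ.isUnit_iff g).mpr hg.ne_zero⟩

/-- Zorn: every good subring is contained in a maximal one. -/
theorem exists_maximal_good (Γ₀ : Subring (F × k)) (h₀ : Good p Γ₀) :
    ∃ Γ : Subring (F × k), Γ₀ ≤ Γ ∧ Maximal (fun Γ => Good p Γ) Γ := by
  refine zorn_le_nonempty₀ {Γ | Good p Γ} ?_ Γ₀ h₀
  intro c hc hchain y hy
  have hne : c.Nonempty := ⟨y, hy⟩
  have hdir : DirectedOn (· ≤ ·) c := hchain.directedOn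
  refine ⟨sSup c, ⟨?_, ?_, ?_⟩, fun z hz => le_sSup hz⟩
  · intro g hg
    obtain ⟨Γ', hΓ', hg'⟩ := (Subring.mem_sSup_of_directedOn hne hdir).mp hg
    exact (hc hΓ').inj g hg'
  · intro g hg h0
    obtain ⟨Γ', hΓ', hg'⟩ := (Subring.mem_sSup_of_directedOn hne hdir).mp hg
    obtain ⟨h, hh, e⟩ := (hc hΓ').ker g hg' h0
    exact ⟨h, (Subring.mem_sSup_of_directedOn hne hdir).mpr ⟨Γ', hΓ', hh⟩, e⟩
  · intro g hg h0
    obtain ⟨Γ', hΓ', hg'⟩ := (Subring.mem_sSup_of_directedOn hne hdir).mp hg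
    obtain ⟨h, hh, e⟩ := (hc hΓ').unit g hg' h0
    exact ⟨h, (Subring.mem_sSup_of_directedOn hne hdir).mpr ⟨Γ', hΓ', hh⟩, e⟩

end Good


section Extend

variable {F k : Type*} [Field F] [IsAlgClosed F] [Field k] {p : ℕ} [CharP k p]
  {Γ : Subring (F × k)}

/-- `AdjoinRoot f` is local with maximal ideal `(p)` when `f` is a monic lift of an irreducible
polynomial over the residue field. -/
theorem adjoinRoot_local {A : Type*} [CommRing A] [IsLocalRing A]
    (hA : maximalIdeal A = Ideal.span {(p : A)}) (f : A[X]) (hf : f.Monic)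
    (hirr : Irreducible (f.map (Ideal.Quotient.mk (maximalIdeal A)))) :
    ∃ _ : IsLocalRing (AdjoinRoot f), maximalIdeal (AdjoinRoot f) = Ideal.span {(p : AdjoinRoot f)} := by
  let E := AdjoinRoot f
  haveI : Module.Finite A E := hf.finite_adjoinRoot
  let 𝔓 : Ideal E := Ideal.span {(p : E)}
  have h𝔓 : 𝔓 = (maximalIdeal A).map (AdjoinRoot.of f) := by
    rw [hA, Ideal.map_span, Set.image_singleton, map_natCast]
  have hmax : 𝔓.IsMaximal := by
    rw [h𝔓]
    let e := AdjoinRoot.quotAdjoinRootEquivQuotPolynomialQuot (maximalIdeal A) f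
    letI : Field (A ⧸ maximalIdeal A) := Ideal.Quotient.field _
    have h1 : (Ideal.span {f.map (Ideal.Quotient.mk (maximalIdeal A))}).IsMaximal :=
      PrincipalIdealRing.isMaximal_of_irreducible hirr
    have h2 : IsField ((A ⧸ maximalIdeal A)[X] ⧸
        Ideal.span {f.map (Ideal.Quotient.mk (maximalIdeal A))}) :=
      (Ideal.Quotient.maximal_ideal_iff_isField_quotient _).mp h1
    exact (Ideal.Quotient.maximal_ideal_iff_isField_quotient _).mpr
      (e.toMulEquiv.isField h2)
  have huniq : ∀ 𝔫 : Ideal E, 𝔫.IsMaximal → 𝔫 = 𝔓 := by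
    intro 𝔫 h𝔫
    have h3 : (𝔫.comap (algebraMap A E)).IsMaximal :=
      Ideal.isMaximal_comap_of_isIntegral_of_isMaximal 𝔫
    have h4 : 𝔫.comap (algebraMap A E) = maximalIdeal A := IsLocalRing.eq_maximalIdeal h3
    have h5 : 𝔓 ≤ 𝔫 := by
      rw [h𝔓, Ideal.map_le_iff_le_comap]
      exact h4.ge
    exact (hmax.eq_of_le h𝔫.ne_top h5).symm
  have hloc : IsLocalRing E := IsLocalRing.of_unique_max_ideal ⟨𝔓, hmax, huniq⟩
  exact ⟨hloc, huniq _ (maximalIdeal.isMaximal E)⟩

/-- the extension step -/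
theorem Good.exists_extension (hΓ : Good p Γ) (α : k)
    (hα : ∃ q : (↥Γ)[X], q.map (sndHom Γ) ≠ 0 ∧ eval₂ (sndHom Γ) α q = 0) :
    ∃ Γ' : Subring (F × k), Good p Γ' ∧ Γ ≤ Γ' ∧ ∃ a : F, (a, α) ∈ Γ' := by
  haveI := hΓ.isLocalRing
  have hm := hΓ.maximalIdeal_eq
  haveI : IsLocalHom (sndHom Γ) := hΓ.isLocalHom_sndHom
  let κ := ResidueField Γ
  let sbar : κ →+* k := ResidueField.lift (sndHom Γ)
  have hsbar : sbar.comp (residue Γ) = sndHom Γ := by
    ext g
    exact ResidueField.lift_residue_apply (sndHom Γ) g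
  letI : Algebra κ k := sbar.toAlgebra
  obtain ⟨q, hq0, hqα⟩ := hα
  have halg : IsAlgebraic κ α := by
    refine ⟨q.map (residue Γ), ?_, ?_⟩
    · intro h0
      apply hq0
      rw [← hsbar, ← Polynomial.map_map, h0, Polynomial.map_zero]
    · rw [aeval_def, eval₂_map]
      change eval₂ (sbar.comp (residue Γ)) α q = 0
      rw [hsbar, hqα]
  have hint : IsIntegral κ α := halg.isIntegral
  let m := minpoly κ α
  have hmirr : Irreducible m := minpoly.irreducible hint
  have hmmonic : m.Monic := minpoly.monic hint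
  obtain ⟨f, hfm, hfdeg, hfmonic⟩ := Polynomial.lifts_and_natDegree_eq_and_monic
    (f := residue Γ) (p := m)
    (Polynomial.mem_lifts_of_surjective residue_surjective m) hmmonic
  have hdeg : (f.map (fstHom Γ)).degree ≠ 0 := by
    rw [hfmonic.degree_map, Polynomial.degree_eq_natDegree hfmonic.ne_zero, hfdeg]
    exact_mod_cast (minpoly.natDegree_pos hint).ne'
  obtain ⟨a, ha⟩ := IsAlgClosed.exists_root (f.map (fstHom Γ)) hdeg
  have hθ : eval₂ Γ.subtype ((a, α) : F × k) f = 0 := by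
    apply Prod.ext
    · have := Polynomial.hom_eval₂ f Γ.subtype (RingHom.fst F k) ((a, α) : F × k)
      change (RingHom.fst F k) _ = 0
      rw [this]
      change eval₂ (fstHom Γ) a f = 0
      rw [← eval_map]
      exact ha
    · have := Polynomial.hom_eval₂ f Γ.subtype (RingHom.snd F k) ((a, α) : F × k)
      change (RingHom.snd F k) _ = 0
      rw [this]
      change eval₂ (sndHom Γ) α f = 0
      rw [← hsbar, ← eval₂_map, hfm]
      exact minpoly.aeval κ α
  obtain ⟨hloc, hE⟩ := adjoinRoot_local (p := p) hm f hfmonic (by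
    change Irreducible (f.map (residue Γ))
    rw [hfm]
    exact hmirr)
  let ψ : AdjoinRoot f →+* F × k := AdjoinRoot.lift Γ.subtype (a, α) hθ
  refine ⟨ψ.range, good_range p hE ψ, ?_, a, ⟨AdjoinRoot.root f, AdjoinRoot.lift_root hθ⟩⟩
  intro g hg
  exact ⟨AdjoinRoot.of f ⟨g, hg⟩, by simp [ψ]⟩

end Extend


section DVR

/-- A local ring whose maximal ideal is principal, generated by a non-nilpotent element, and
which is separated for the adic topology is a discrete valuation ring. -/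
theorem isDVR_of_principal {R : Type u} [CommRing R] [IsLocalRing R] (π : R)
    (hπ : maximalIdeal R = Ideal.span {π}) (hH : IsHausdorff (maximalIdeal R) R)
    (hnil : ∀ n : ℕ, π ^ n ≠ 0) : ∃ (_ : IsDomain R), IsDiscreteValuationRing R := by
  classical
  have hπm : π ∈ maximalIdeal R := by rw [hπ]; exact Ideal.mem_span_singleton_self π
  have hpow : ∀ n, maximalIdeal R ^ n = Ideal.span {π ^ n} := by
    intro n
    rw [hπ, Ideal.span_singleton_pow]
  have key : ∀ x : R, x ≠ 0 → ∃ (n : ℕ) (u : Rˣ), x = π ^ n * u := by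
    intro x hx
    have hex : ∃ n, x ∉ maximalIdeal R ^ n := by
      by_contra hcon
      push_neg at hcon
      apply hx
      apply hH.haus x
      intro n
      rw [SModEq.zero, smul_eq_mul, Ideal.mul_top]
      exact hcon n
    let n := Nat.find hex
    have hn : x ∉ maximalIdeal R ^ n := Nat.find_spec hex
    have hn0 : n ≠ 0 := by
      intro h0
      rw [h0, pow_zero, Ideal.one_eq_top] at hn
      exact hn trivial
    obtain ⟨m, hm⟩ := Nat.exists_eq_succ_of_ne_zero hn0
    have hmem : x ∈ maximalIdeal R ^ m := by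
      by_contra hcon
      exact Nat.find_min hex (show m < n by omega) hcon
    rw [hpow, Ideal.mem_span_singleton] at hmem
    obtain ⟨u, rfl⟩ := hmem
    have hu : IsUnit u := by
      by_contra hu
      apply hn
      rw [hm, pow_succ]
      exact Ideal.mul_mem_mul (by rw [hpow]; exact Ideal.mem_span_singleton_self _)
        ((mem_maximalIdeal u).mpr hu)
    exact ⟨m, hu.unit, rfl⟩
  haveI : IsDomain R := by
    haveI : NoZeroDivisors R := by
      constructor
      intro a b hab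
      by_contra hcon
      push_neg at hcon
      obtain ⟨n, u, rfl⟩ := key a hcon.1
      obtain ⟨m, v, rfl⟩ := key b hcon.2
      apply hnil (n + m)
      have : π ^ (n + m) * ((u * v : Rˣ) : R) = 0 := by
        rw [← hab, pow_add]
        push_cast
        ring
      exact (Units.mul_left_eq_zero _).mp this
    exact NoZeroDivisors.to_isDomain R
  refine ⟨inferInstance, ?_⟩
  apply IsDiscreteValuationRing.ofHasUnitMulPowIrreducibleFactorization
  refine ⟨π, ?_, ?_⟩
  · refine ⟨(mem_maximalIdeal π).mp hπm, ?_⟩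
    intro a b hab
    by_contra hcon
    push_neg at hcon
    have ha : a ∈ maximalIdeal R := (mem_maximalIdeal a).mpr hcon.1
    have hb : b ∈ maximalIdeal R := (mem_maximalIdeal b).mpr hcon.2
    rw [hπ, Ideal.mem_span_singleton] at ha hb
    obtain ⟨a', rfl⟩ := ha
    obtain ⟨b', rfl⟩ := hb
    have h1 : π * (1 - π * (a' * b')) = 0 := by
      have : π * (1 - π * (a' * b')) = π - π * a' * (π * b') := by ring
      rw [this, ← hab, sub_self]
    have h2 : IsUnit (1 - π * (a' * b')) := by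
      by_contra h
      have h3 : 1 - π * (a' * b') ∈ maximalIdeal R := (mem_maximalIdeal _).mpr h
      have h4 : (1 : R) ∈ maximalIdeal R := by
        have := Ideal.add_mem _ h3 (Ideal.mul_mem_right (a' * b') _ hπm)
        simpa using this
      exact (Ideal.ne_top_iff_one _).mp (maximalIdeal.isMaximal R).ne_top h4
    have h5 : π = 0 := by
      obtain ⟨w, hw⟩ := h2
      rw [← hw] at h1
      exact (Units.mul_left_eq_zero _).mp h1
    exact hnil 1 (by rw [pow_one, h5])
  · intro x hx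
    obtain ⟨n, u, rfl⟩ := key x hx
    exact ⟨n, u, rfl⟩

end DVR


section Main

/-- **Existence of Cohen rings.** -/
theorem exists_cohenRing (p : ℕ) [Fact p.Prime] (k : Type u) [Field k] [CharP k p] :
    ∃ (Λ : Type u) (_ : CommRing Λ) (_ : IsLocalRing Λ), CAlg.IsCohenRing Λ ∧
      Nonempty (IsLocalRing.ResidueField Λ ≃+* k) := by
  classical
  letI : Algebra (ZMod p) k := ZMod.algebra k p
  obtain ⟨ι, x, hx⟩ := exists_isTranscendenceBasis' (ZMod p) k
  let P₀ := MvPolynomial ι ℤ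
  let φ₀ : P₀ →+* k := MvPolynomial.eval₂Hom (Int.castRingHom k) x
  let c : ℤ →+* ZMod p := Int.castRingHom (ZMod p)
  have hφ₀ : ∀ g : P₀, φ₀ g = MvPolynomial.aeval x (MvPolynomial.map c g) := by
    intro g
    rw [MvPolynomial.aeval_def, MvPolynomial.eval₂_map]
    have : (algebraMap (ZMod p) k).comp c = Int.castRingHom k := RingHom.ext_int _ _
    rw [this]
    rfl
  have hinj : Function.Injective (MvPolynomial.aeval x : MvPolynomial ι (ZMod p) →ₐ[ZMod p] k) :=
    hx.1
  have hker : RingHom.ker φ₀ = Ideal.span {(p : P₀)} := by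
    ext g
    rw [RingHom.mem_ker, hφ₀, map_eq_zero_iff _ hinj, ← MvPolynomial.C_dvd_iff_zmod,
      Ideal.mem_span_singleton]
    have : (p : P₀) = MvPolynomial.C (p : ℤ) := by simp
    rw [this]
  -- the algebraic closure
  let K₀ := FractionRing P₀
  let F := AlgebraicClosure K₀
  let i₀ : P₀ →+* F := (algebraMap K₀ F).comp (algebraMap P₀ K₀)
  have hi₀ : Function.Injective i₀ :=
    (algebraMap K₀ F).injective.comp (IsFractionRing.injective P₀ K₀)
  have hpF : ∀ n : ℕ, (p : F) ^ n ≠ 0 := by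
    intro n
    apply pow_ne_zero
    have : (p : F) = i₀ (p : P₀) := by simp
    rw [this, Ne, map_eq_zero_iff _ hi₀]
    have h2 : (p : P₀) = MvPolynomial.C (p : ℤ) := by simp
    rw [h2, MvPolynomial.C_eq_zero]
    exact_mod_cast (Fact.out : p.Prime).ne_zero
  -- the base local ring
  haveI h𝔭 : (RingHom.ker φ₀).IsPrime := RingHom.ker_isPrime φ₀
  let Λ₀ := Localization.AtPrime (RingHom.ker φ₀)
  have hΛ₀ : maximalIdeal Λ₀ = Ideal.span {(p : Λ₀)} := by
    rw [← IsLocalization.AtPrime.map_eq_maximalIdeal (RingHom.ker φ₀) Λ₀]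
    have h1 : Ideal.map (algebraMap P₀ Λ₀) (RingHom.ker φ₀) =
        Ideal.map (algebraMap P₀ Λ₀) (Ideal.span {(p : P₀)}) := congrArg _ hker
    rw [h1, Ideal.map_span, Set.image_singleton, map_natCast]
  let ψ₁ : Λ₀ →+* F := IsLocalization.lift (M := (RingHom.ker φ₀).primeCompl) (g := i₀) (by
    intro y
    apply IsUnit.mk0
    rw [Ne, map_eq_zero_iff _ hi₀]
    rintro h0
    exact y.2 (by rw [h0]; exact Ideal.zero_mem _))
  let ψ₂ : Λ₀ →+* k := IsLocalization.lift (M := (RingHom.ker φ₀).primeCompl) (g := φ₀) (by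
    intro y
    apply IsUnit.mk0
    intro h0
    exact y.2 (RingHom.mem_ker.mpr h0))
  let ψ₀ : Λ₀ →+* F × k := ψ₁.prod ψ₂
  have hΓ₀ : Good p ψ₀.range := good_range p hΛ₀ ψ₀
  -- every element of `k` is algebraic over the base
  have hstar : ∀ α : k, ∃ q : Polynomial P₀, q.map φ₀ ≠ 0 ∧ Polynomial.eval₂ φ₀ α q = 0 := by
    intro α
    haveI := hx.isAlgebraic
    obtain ⟨q₁, hq₁, hq₁α⟩ :=
      Algebra.IsAlgebraic.isAlgebraic (R := Algebra.adjoin (ZMod p) (Set.range x)) α
    have hl : q₁.map (algebraMap (Algebra.adjoin (ZMod p) (Set.range x)) k) ∈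
        Polynomial.lifts φ₀ := by
      rw [Polynomial.lifts_iff_coeff_lifts]
      intro n
      rw [Polynomial.coeff_map]
      have hmem : (q₁.coeff n : k) ∈ (MvPolynomial.aeval x : _ →ₐ[ZMod p] k).range := by
        rw [← Algebra.adjoin_range_eq_range_aeval]
        exact (q₁.coeff n).2
      obtain ⟨g₁, hg₁⟩ := hmem
      obtain ⟨g, rfl⟩ := MvPolynomial.map_surjective c (ZMod.intCast_surjective) g₁
      exact ⟨g, by rw [hφ₀]; exact hg₁⟩
    obtain ⟨q, hq⟩ := (Polynomial.mem_lifts _).mp hl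
    refine ⟨q, ?_, ?_⟩
    · rw [hq, Ne, Polynomial.map_eq_zero_iff (FaithfulSMul.algebraMap_injective _ _)]
      exact hq₁
    · rw [← Polynomial.eval_map, hq, Polynomial.eval_map, ← Polynomial.aeval_def]
      exact hq₁α
  -- Zorn
  obtain ⟨Γ, hle, hmax⟩ := exists_maximal_good (p := p) ψ₀.range hΓ₀
  have hΓ : Good p Γ := hmax.prop
  let j : P₀ →+* Γ := (ψ₀.comp (algebraMap P₀ Λ₀)).codRestrict Γ (fun g => hle ⟨_, rfl⟩)
  have hj : ∀ g, sndHom Γ (j g) = φ₀ g := by
    intro g
    change ψ₂ (algebraMap P₀ Λ₀ g) = φ₀ g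
    exact IsLocalization.lift_eq _ g
  have hsurj : Function.Surjective (sndHom Γ) := by
    intro α
    obtain ⟨q, hq0, hqα⟩ := hstar α
    have hjcomp : (sndHom Γ).comp j = φ₀ := RingHom.ext hj
    obtain ⟨Γ', hΓ', hle', a, ha⟩ := hΓ.exists_extension α ⟨q.map j, by
      rw [Polynomial.map_map, hjcomp]; exact hq0, by
      rw [Polynomial.eval₂_map, hjcomp]; exact hqα⟩
    have heq : Γ' ≤ Γ := hmax.le_of_ge hΓ' hle'
    exact ⟨⟨(a, α), heq ha⟩, rfl⟩
  -- `Γ` is a local domain with maximal ideal `(p)`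
  haveI := hΓ.isLocalRing
  have hm := hΓ.maximalIdeal_eq
  haveI : IsLocalHom (sndHom Γ) := hΓ.isLocalHom_sndHom
  have hfst := hΓ.fst_injective
  have hpΓ : ∀ n : ℕ, (p : Γ) ^ n ∉ maximalIdeal Γ ^ (n + 1) := by
    intro n hn
    rw [hm, Ideal.span_singleton_pow, Ideal.mem_span_singleton] at hn
    obtain ⟨z, hz⟩ := hn
    have h1 := congrArg (fstHom Γ) hz
    rw [map_pow, map_mul, map_pow, map_natCast, pow_succ, mul_assoc] at h1
    have h2 : (1 : F) = (p : F) * fstHom Γ z := by
      apply mul_left_cancel₀ (hpF n)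
      rw [mul_one]
      exact h1
    have h3 : (1 : Γ) = (p : Γ) * z := hfst (by rw [map_one, map_mul, map_natCast]; exact h2)
    have h4 : (1 : Γ) ∈ maximalIdeal Γ := by
      rw [hm, Ideal.mem_span_singleton]
      exact ⟨z, h3⟩
    exact (Ideal.ne_top_iff_one _).mp (maximalIdeal.isMaximal Γ).ne_top h4
  -- complete
  have fg : (maximalIdeal Γ).FG := ⟨{(p : Γ)}, by rw [hm]; simp⟩
  let Λ := AdicCompletion (maximalIdeal Γ) Γ
  haveI hlocΛ : IsLocalRing Λ := AdicCompletion.isLocalRing_of_fg fg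
  have hmΛ : maximalIdeal Λ = Ideal.span {(p : Λ)} := by
    rw [AdicCompletion.maximalIdeal_eq_map_of_fg fg]
    have h1 : Ideal.map (algebraMap Γ Λ) (maximalIdeal Γ) =
        Ideal.map (algebraMap Γ Λ) (Ideal.span {(p : Γ)}) := congrArg _ hm
    rw [h1, Ideal.map_span, Set.image_singleton, map_natCast]
  have hcomplete : IsAdicComplete (maximalIdeal Λ) Λ := AdicCompletion.isAdicComplete_of_fg fg
  have hnil : ∀ n : ℕ, (p : Λ) ^ n ≠ 0 := by
    intro n h0
    have h1 := congrArg (AdicCompletion.evalₐ (maximalIdeal Γ) (n + 1)) h0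
    rw [map_pow, map_natCast, map_zero] at h1
    apply hpΓ n
    rw [← Ideal.Quotient.eq_zero_iff_mem, map_pow, map_natCast]
    exact h1
  obtain ⟨hdom, hdvr⟩ := isDVR_of_principal (R := Λ) (p : Λ) hmΛ hcomplete.toIsHausdorff hnil
  refine ⟨Λ, inferInstance, hlocΛ, ⟨hdom, hdvr, hcomplete, p, Fact.out, hmΛ⟩, ?_⟩
  haveI := AdicCompletion.algebraMap_isLocalHom_of_fg fg
  let e₁ : ResidueField Γ ≃+* ResidueField Λ :=
    RingEquiv.ofBijective _ (AdicCompletion.residueField_map_bijective_of_fg fg)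
  let e₂ : ResidueField Γ ≃+* k :=
    RingEquiv.ofBijective (ResidueField.lift (sndHom Γ)) ⟨RingHom.injective _, by
      intro α
      obtain ⟨g, hg⟩ := hsurj α
      exact ⟨residue Γ g, by rw [ResidueField.lift_residue_apply]; exact hg⟩⟩
  exact ⟨e₁.symm.trans e₂⟩

end Main

end Groth.Agent.Lib.Helper88.CohenExist
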