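import Groth.Prelude.Def_Found
import Groth.Agent.Lib.Helper88.CohenExist
import Groth.Agent.Lib.Helper96.CohenLift
import Groth.Agent.Lib.Helper13.CohenEq
import Groth.Agent.Lib.Helper76.PSComplete
import Mathlib

/-!
# Cohen structure theorem (Stacks 032A): complete local rings are quotients of power series rings
-/

universe u v

namespace Groth.Agent.Lib.Helper88.CohenStruct

open IsLocalRing Groth.Agent.Lib.Helper96

section Lift

variable {W : Type u} [CommRing W] {𝔴 : Ideal W}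
  {C : Type v} [CommRing C] [IsLocalRing C]

/-- the invariant of the construction -/
def Inv (𝔴 : Ideal W) (n : ℕ) (v : W →+* C ⧸ maximalIdeal C ^ (n + 1)) : Prop :=
  ∀ x ∈ 𝔴, v x ∈ (maximalIdeal C).map (Ideal.Quotient.mk (maximalIdeal C ^ (n + 1)))

theorem inv_step (hW : LiftSq.{u, v} W 𝔴) (n : ℕ)
    (v : W →+* C ⧸ maximalIdeal C ^ (n + 1)) (hv : Inv 𝔴 n v) :
    ∃ v' : W →+* C ⧸ maximalIdeal C ^ (n + 1 + 1), Inv 𝔴 (n + 1) v' ∧
      (Ideal.Quotient.factorPow (maximalIdeal C) (n + 1).le_succ).comp v' = v := by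
  have hsurj : Function.Surjective
      (Ideal.Quotient.factorPow (maximalIdeal C) (n + 1).le_succ) :=
    Ideal.Quotient.factor_surjective _
  have hker : RingHom.ker (Ideal.Quotient.factorPow (maximalIdeal C) (n + 1).le_succ) ^ 2 = ⊥ := by
    rw [Ideal.Quotient.factor_ker, ← Ideal.map_pow]
    refine Ideal.map_mk_eq_bot_of_le ?_
    calc (maximalIdeal C ^ (n + 1)) ^ 2 = maximalIdeal C ^ ((n + 1) * 2) := (pow_mul _ _ _).symm
      _ ≤ maximalIdeal C ^ (n + 1 + 1) := Ideal.pow_le_pow_right (by omega)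
  have hcont : ∀ x ∈ 𝔴 ^ (n + 1), v x = 0 := by
    intro x hx
    have hgm : 𝔴.map v ≤ (maximalIdeal C).map (Ideal.Quotient.mk _) := by
      rw [Ideal.map_le_iff_le_comap]
      intro x hx
      exact hv x hx
    have h1 : v x ∈ (𝔴 ^ (n + 1)).map v := Ideal.mem_map_of_mem v hx
    rw [Ideal.map_pow] at h1
    have h2 := Ideal.pow_right_mono hgm (n + 1) h1
    rw [← Ideal.map_pow, Ideal.map_mk_eq_bot_of_le le_rfl] at h2
    exact h2
  obtain ⟨χ, hχ⟩ := hW.of_surjective _ hsurj hker v ⟨n + 1, hcont⟩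
  refine ⟨χ, ?_, hχ⟩
  intro x hx
  obtain ⟨s, hs⟩ := Ideal.Quotient.mk_surjective (χ x)
  have h1 := hv x hx
  have hmn : maximalIdeal C ⊔ maximalIdeal C ^ (n + 1) = maximalIdeal C :=
    sup_eq_left.mpr (Ideal.pow_le_self (by omega))
  rw [← hχ, RingHom.comp_apply, ← hs] at h1
  change Ideal.Quotient.factor _ (Ideal.Quotient.mk _ s) ∈ _ at h1
  rw [Ideal.Quotient.factor_mk, Ideal.mem_quotient_iff_mem_sup, hmn] at h1
  rw [← hs]
  exact Ideal.mem_map_of_mem _ h1

/-- the inductively constructed compatible system of lifts -/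
noncomputable def liftSeq (hW : LiftSq.{u, v} W 𝔴)
    (v₀ : W →+* C ⧸ maximalIdeal C ^ (0 + 1)) (h₀ : Inv 𝔴 0 v₀) :
    (n : ℕ) → {v : W →+* C ⧸ maximalIdeal C ^ (n + 1) // Inv 𝔴 n v}
  | 0 => ⟨v₀, h₀⟩
  | n + 1 =>
    ⟨(inv_step hW n (liftSeq hW v₀ h₀ n).1 (liftSeq hW v₀ h₀ n).2).choose,
      (inv_step hW n (liftSeq hW v₀ h₀ n).1 (liftSeq hW v₀ h₀ n).2).choose_spec.1⟩

theorem liftSeq_compat (hW : LiftSq.{u, v} W 𝔴)
    (v₀ : W →+* C ⧸ maximalIdeal C ^ (0 + 1)) (h₀ : Inv 𝔴 0 v₀) (n : ℕ) :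
    (Ideal.Quotient.factorPow (maximalIdeal C) (n + 1).le_succ).comp (liftSeq hW v₀ h₀ (n + 1)).1 =
      (liftSeq hW v₀ h₀ n).1 :=
  (inv_step hW n (liftSeq hW v₀ h₀ n).1 (liftSeq hW v₀ h₀ n).2).choose_spec.2

/-- **Lifting to a complete local ring** (no Noetherian hypothesis): a ring `W` with the
square-zero lifting property, a map `W → C/𝔪` killing `𝔴`, lifts to `W → C`. -/
theorem exists_lift_residue [IsAdicComplete (maximalIdeal C) C] (hW : LiftSq.{u, v} W 𝔴)
    (u : W →+* ResidueField C) (hu : ∀ x ∈ 𝔴, u x = 0) :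
    ∃ v : W →+* C, (residue C).comp v = u := by
  have hpow : maximalIdeal C = maximalIdeal C ^ (0 + 1) := by rw [zero_add, pow_one]
  let e : ResidueField C ≃+* C ⧸ maximalIdeal C ^ (0 + 1) := Ideal.quotEquivOfEq hpow
  let v₀ : W →+* C ⧸ maximalIdeal C ^ (0 + 1) := (e : ResidueField C →+* _).comp u
  have h₀ : Inv (C := C) 𝔴 0 v₀ := by
    intro x hx
    have : v₀ x = 0 := by
      change e (u x) = 0
      rw [hu x hx, map_zero]
    rw [this]
    exact Ideal.zero_mem _
  have ha : StrictMono (fun n : ℕ => n + 1) := fun a b h => Nat.succ_lt_succ h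
  let v : W →+* C := IsAdicComplete.StrictMono.liftRingHom (maximalIdeal C) ha
    (fun n => (liftSeq hW v₀ h₀ n).1) (fun {n} => liftSeq_compat hW v₀ h₀ n)
  have hv : ∀ (w : W), Ideal.Quotient.mk (maximalIdeal C ^ (0 + 1)) (v w) = v₀ w := fun w =>
    IsAdicComplete.StrictMono.mk_liftRingHom (maximalIdeal C) ha
      (fun n => (liftSeq hW v₀ h₀ n).1) (fun {n} => liftSeq_compat hW v₀ h₀ n) (n := 0) w
  refine ⟨v, ?_⟩
  ext w
  have h1 := hv w
  apply e.injective
  change e (residue C (v w)) = v₀ w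
  rw [← h1]
  rfl

end Lift


section Struct

open MvPowerSeries Groth.Agent.Lib.Helper76.PSComplete

variable (R : Type u) [CommRing R] [IsLocalRing R] [IsAdicComplete (maximalIdeal R) R]

/-- a Cohen ring mapping to a complete local ring of residue characteristic `p`, inducing a
surjection on residue fields. -/
theorem exists_cohen_coefficient_ring (p : ℕ) (hp : p.Prime) [CharP (ResidueField R) p] :
    ∃ (Λ : Type u) (_ : CommRing Λ) (_ : IsDomain Λ) (_ : IsDiscreteValuationRing Λ)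
      (v : Λ →+* R), IsAdicComplete (maximalIdeal Λ) Λ ∧
      maximalIdeal Λ = Ideal.span {(p : Λ)} ∧ Function.Surjective ((residue R).comp v) := by
  haveI : Fact p.Prime := ⟨hp⟩
  obtain ⟨Λ, _, _, ⟨hdom, hdvr, hcomp, p', hp', hm⟩, ⟨e⟩⟩ :=
    CohenExist.exists_cohenRing p (ResidueField R)
  -- `p' = p`
  have hpp : p' = p := by
    have h1 : (p' : Λ) ∈ maximalIdeal Λ := by rw [hm]; exact Ideal.mem_span_singleton_self _
    have h2 : residue Λ (p' : Λ) = 0 := (residue_eq_zero_iff _).mpr h1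
    have h3 : e (residue Λ (p' : Λ)) = 0 := by rw [h2, map_zero]
    rw [map_natCast, map_natCast] at h3
    have h4 : p ∣ p' := (CharP.cast_eq_zero_iff (ResidueField R) p p').mp h3
    exact ((Nat.prime_dvd_prime_iff_eq hp hp').mp h4).symm
  subst hpp
  have hW : LiftSq.{u, u} Λ (maximalIdeal Λ) := liftSq_cohenRing Λ p' hp hm
  let u : Λ →+* ResidueField R := (e : ResidueField Λ →+* ResidueField R).comp (residue Λ)
  have hu : ∀ x ∈ maximalIdeal Λ, u x = 0 := by
    intro x hx
    change e (residue Λ x) = 0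
    rw [(residue_eq_zero_iff _).mpr hx, map_zero]
  obtain ⟨v, hv⟩ := exists_lift_residue hW u hu
  refine ⟨Λ, inferInstance, hdom, hdvr, v, hcomp, hm, ?_⟩
  rw [hv]
  exact e.surjective.comp residue_surjective

/-- **Cohen structure theorem** (Stacks 032A): a complete local ring with finitely generated
maximal ideal is a quotient of a power series ring over a field or a Cohen ring. -/
theorem exists_surjective_mvPowerSeries (hfg : (maximalIdeal R).FG) :
    ∃ (Λ : Type u) (_ : CommRing Λ) (n : ℕ) (f : MvPowerSeries (Fin n) Λ →+* R),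
      (IsField Λ ∨ CAlg.IsCohenRing Λ) ∧ Function.Surjective f := by
  obtain ⟨n, b, hb⟩ := Submodule.fg_iff_exists_fin_generating_family.mp hfg
  have hbm : ∀ i, b i ∈ maximalIdeal R := by
    intro i
    rw [← hb]
    exact Submodule.subset_span ⟨i, rfl⟩
  let p := ringChar (ResidueField R)
  haveI : CharP (ResidueField R) p := ringChar.charP _
  by_cases hp0 : (p : R) = 0
  · obtain ⟨σ, hσ⟩ := Groth.Agent.Lib.Helper13.CohenEq.exists_section_of_natCast_eq_zero
      (A := R) p hp0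
    letI : Algebra (ResidueField R) R := σ.toAlgebra
    refine ⟨ResidueField R, inferInstance, n,
      (evC (maximalIdeal R) b hbm : MvPowerSeries (Fin n) (ResidueField R) →ₐ[_] R).toRingHom,
      Or.inl (Field.toIsField _), ?_⟩
    refine evC_surjective (maximalIdeal R) b hbm hb ?_
    intro x
    exact ⟨x, hσ x⟩
  · have hp : p.Prime := by
      rcases CharP.char_is_prime_or_zero (ResidueField R) p with h | h
      · exact h
      · exact absurd (by rw [h, Nat.cast_zero]) hp0
    obtain ⟨Λ, _, hdom, hdvr, v, hcomp, hm, hsurj⟩ := exists_cohen_coefficient_ring R p hp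
    letI : Algebra Λ R := v.toAlgebra
    refine ⟨Λ, inferInstance, n,
      (evC (maximalIdeal R) b hbm : MvPowerSeries (Fin n) Λ →ₐ[_] R).toRingHom,
      Or.inr ⟨hdom, hdvr, hcomp, p, hp, hm⟩, ?_⟩
    exact evC_surjective (maximalIdeal R) b hbm hb hsurj

end Struct

end Groth.Agent.Lib.Helper88.CohenStruct
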