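import Groth.Prelude.Def_Found
import Groth.Agent.Lib.Helper88.CohenStruct
import Groth.Agent.Lib.Helper76.PSDim
import Groth.Agent.Lib.Helper11.IntegralDim
import Groth.Agent.S0544
import Mathlib

/-!
# Cohen structure theorem II (Stacks 032D): complete local domains are finite over power series rings
-/

universe u v w

namespace Groth.Agent.Lib.Helper88.CohenStruct2

open IsLocalRing

section Art

variable {R : Type u} [CommRing R] [IsLocalRing R] [IsNoetherianRing R]
  {Λ : Type v} [CommRing Λ] [Algebra Λ R]

/-- a finite `R`-module killed by the maximal ideal is finite over `Λ` when `Λ → R/𝔪` is onto -/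
theorem finite_of_smul_top_eq_bot
    (hres : Function.Surjective ((residue R).comp (algebraMap Λ R)))
    (M : Type w) [AddCommGroup M] [Module R M] [Module Λ M] [IsScalarTower Λ R M]
    [Module.Finite R M] (h : (maximalIdeal R) • (⊤ : Submodule R M) = ⊥) : Module.Finite Λ M := by
  obtain ⟨s, hs⟩ := (Module.finite_def (R := R) (M := M)).mp inferInstance
  refine ⟨s, ?_⟩
  rw [eq_top_iff]
  intro x _
  have hx : x ∈ Submodule.span R (s : Set M) := by rw [hs]; trivial
  induction hx using Submodule.span_induction with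
  | mem x hx => exact Submodule.subset_span hx
  | zero => exact Submodule.zero_mem _
  | add x y _ _ hx hy => exact Submodule.add_mem _ (hx trivial) (hy trivial)
  | smul r x _ hx =>
    obtain ⟨l, hl⟩ := hres (residue R r)
    have h1 : r - algebraMap Λ R l ∈ maximalIdeal R := by
      rw [← Ideal.Quotient.eq_zero_iff_mem, map_sub]
      rw [RingHom.comp_apply] at hl
      rw [sub_eq_zero]
      exact hl.symm
    have h2 : (r - algebraMap Λ R l) • x = 0 := by
      have : (r - algebraMap Λ R l) • x ∈ (maximalIdeal R) • (⊤ : Submodule R M) :=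
        Submodule.smul_mem_smul h1 trivial
      rw [h] at this
      exact this
    have h3 : r • x = l • x := by
      rw [sub_smul, sub_eq_zero, algebraMap_smul] at h2
      exact h2
    rw [h3]
    exact Submodule.smul_mem _ _ (hx trivial)

/-- a finite `R`-module killed by a power of the maximal ideal is finite over `Λ`. -/
theorem finite_of_pow_smul_top_eq_bot
    (hres : Function.Surjective ((residue R).comp (algebraMap Λ R))) (N : ℕ) :
    ∀ (M : Type w) [AddCommGroup M] [Module R M] [Module Λ M] [IsScalarTower Λ R M]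
    [Module.Finite R M], (maximalIdeal R) ^ N • (⊤ : Submodule R M) = ⊥ → Module.Finite Λ M := by
  induction N with
  | zero =>
    intro M _ _ _ _ _ h
    rw [pow_zero, Ideal.one_eq_top, Submodule.top_smul] at h
    haveI : Subsingleton M := by
      constructor
      intro a b
      have ha : a ∈ (⊤ : Submodule R M) := trivial
      have hb : b ∈ (⊤ : Submodule R M) := trivial
      rw [h] at ha hb
      rw [(Submodule.mem_bot R).mp ha, (Submodule.mem_bot R).mp hb]
    infer_instance
  | succ N ih =>
    intro M _ _ _ _ _ h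
    let P : Submodule R M := (maximalIdeal R) • (⊤ : Submodule R M)
    haveI : Module.Finite R P := Module.Finite.of_injective P.subtype P.injective_subtype
    have hP : (maximalIdeal R) ^ N • (⊤ : Submodule R P) = ⊥ := by
      rw [eq_bot_iff]
      intro x hx
      rw [Submodule.mem_bot]
      apply Subtype.ext
      have h1 : (x : M) ∈ Submodule.map P.subtype ((maximalIdeal R) ^ N • (⊤ : Submodule R P)) :=
        ⟨x, hx, rfl⟩
      rw [Submodule.map_smul'', Submodule.map_top, Submodule.range_subtype] at h1
      have h2 : (maximalIdeal R) ^ N • P = ⊥ := by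
        rw [← h, pow_succ, mul_smul]
      rw [h2] at h1
      exact h1
    haveI h1 : Module.Finite Λ P := ih P hP
    haveI h2 : Module.Finite Λ (M ⧸ P) := by
      apply finite_of_smul_top_eq_bot hres (M ⧸ P)
      rw [eq_bot_iff]
      intro x hx
      rw [Submodule.mem_bot]
      refine Submodule.smul_induction_on hx ?_ ?_
      · intro r hr y _
        obtain ⟨y, rfl⟩ := Submodule.Quotient.mk_surjective _ y
        rw [← Submodule.Quotient.mk_smul, Submodule.Quotient.mk_eq_zero]
        exact Submodule.smul_mem_smul hr trivial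
      · intro x y hx hy
        rw [hx, hy, add_zero]
    haveI h1' : Module.Finite Λ (P.restrictScalars Λ) := h1
    haveI h2' : Module.Finite Λ (M ⧸ P.restrictScalars Λ) :=
      Module.Finite.equiv (Submodule.Quotient.restrictScalarsEquiv Λ P).symm
    exact Module.Finite.of_submodule_quotient (P.restrictScalars Λ)

end Art


section SOP

variable (R : Type u) [CommRing R] [IsLocalRing R] [IsNoetherianRing R]

/-- a system of parameters modulo an ideal -/
theorem exists_sop_mod (I : Ideal R) (hI : I ≠ ⊤) :
    ∃ (n : ℕ) (b : Fin n → R), (∀ i, b i ∈ maximalIdeal R) ∧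
      (n : WithBot ℕ∞) = ringKrullDim (R ⧸ I) ∧
      ∃ N : ℕ, maximalIdeal R ^ N ≤ I ⊔ Ideal.span (Set.range b) := by
  classical
  haveI : Nontrivial (R ⧸ I) := Ideal.Quotient.nontrivial_iff.mpr hI
  haveI : IsLocalRing (R ⧸ I) :=
    IsLocalRing.of_surjective' (Ideal.Quotient.mk I) Ideal.Quotient.mk_surjective
  obtain ⟨s, hs, hcard⟩ :=
    Ideal.exists_finset_card_eq_height_of_isNoetherianRing (maximalIdeal (R ⧸ I))
  have hrad : maximalIdeal (R ⧸ I) ≤ (Ideal.span (s : Set (R ⧸ I))).radical := by
    rw [Ideal.radical_eq_sInf]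
    apply le_sInf
    rintro q ⟨hq1, hq2⟩
    exact hs.2 ⟨hq2, hq1⟩ (IsLocalRing.le_maximalIdeal hq2.ne_top)
  obtain ⟨N, hN⟩ := Ideal.exists_pow_le_of_le_radical_of_fg hrad (IsNoetherian.noetherian _)
  let n := s.card
  let e : Fin n ≃ s := s.equivFin.symm
  choose g hg using fun x : R ⧸ I => Ideal.Quotient.mk_surjective x
  let b : Fin n → R := fun i => g (e i : R ⧸ I)
  have hb : ∀ i, Ideal.Quotient.mk I (b i) = (e i : R ⧸ I) := fun i => hg _
  have hspan : Ideal.map (Ideal.Quotient.mk I) (Ideal.span (Set.range b)) =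
      Ideal.span (s : Set (R ⧸ I)) := by
    rw [Ideal.map_span, ← Set.range_comp]
    congr 1
    ext y
    constructor
    · rintro ⟨i, rfl⟩
      change Ideal.Quotient.mk I (b i) ∈ _
      rw [hb]
      exact (e i).2
    · intro hy
      refine ⟨e.symm ⟨y, hy⟩, ?_⟩
      change Ideal.Quotient.mk I (b _) = y
      rw [hb, Equiv.apply_symm_apply]
  have hle : Ideal.span (s : Set (R ⧸ I)) ≤ maximalIdeal (R ⧸ I) := hs.1.2
  refine ⟨n, b, ?_, ?_, N, ?_⟩
  · intro i
    by_contra hcon
    have hu : IsUnit (b i) := by
      by_contra h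
      exact hcon ((mem_maximalIdeal _).mpr h)
    have h1 : IsUnit (Ideal.Quotient.mk I (b i)) := hu.map _
    have h2 : Ideal.Quotient.mk I (b i) ∈ maximalIdeal (R ⧸ I) := by
      rw [hb]
      exact hle (Ideal.subset_span (e i).2)
    exact (mem_maximalIdeal _).mp h2 h1
  · rw [← IsLocalRing.maximalIdeal_height_eq_ringKrullDim, ← hcard]
    rfl
  · intro x hx
    have h1 : Ideal.Quotient.mk I x ∈ maximalIdeal (R ⧸ I) ^ N := by
      have h2 : Ideal.Quotient.mk I x ∈ (maximalIdeal R ^ N).map (Ideal.Quotient.mk I) :=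
        Ideal.mem_map_of_mem _ hx
      rw [Ideal.map_pow] at h2
      refine Ideal.pow_right_mono ?_ N h2
      rw [Ideal.map_le_iff_le_comap]
      intro y hy
      rw [Ideal.mem_comap]
      by_contra hcon
      have hu : IsUnit (Ideal.Quotient.mk I y) := by
        by_contra h
        exact hcon ((mem_maximalIdeal _).mpr h)
      have : IsUnit y := by
        haveI : IsLocalHom (Ideal.Quotient.mk I) :=
          IsLocalHom.of_surjective _ Ideal.Quotient.mk_surjective
        exact isUnit_of_map_unit (Ideal.Quotient.mk I) y hu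
      exact (mem_maximalIdeal _).mp hy this
    have h3 := hN h1
    rw [← hspan, Ideal.mem_map_iff_of_surjective _ Ideal.Quotient.mk_surjective] at h3
    obtain ⟨y, hy, hxy⟩ := h3
    have h4 : x - y ∈ I := by
      rw [← Ideal.Quotient.eq_zero_iff_mem, map_sub, hxy, sub_self]
    have : x = (x - y) + y := by ring
    rw [this]
    exact Ideal.add_mem _ (Ideal.mem_sup_left h4) (Ideal.mem_sup_right hy)

end SOP

section Inj

/-- a finite ring map from a domain of dimension `≤ N` to a ring of dimension `≥ N` is injective -/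
theorem injective_of_finite_of_dim {A R : Type*} [CommRing A] [IsDomain A] [CommRing R]
    (N : ℕ) (hA : ringKrullDim A ≤ N) (f : A →+* R) (hf : f.Finite)
    (hR : (N : WithBot ℕ∞) ≤ ringKrullDim R) : Function.Injective f := by
  rw [injective_iff_map_eq_zero]
  intro x hx
  by_contra hne
  let Abar := A ⧸ RingHom.ker f
  have h1 : ringKrullDim Abar + 1 ≤ ringKrullDim A :=
    ringKrullDim_succ_le_of_surjective (Ideal.Quotient.mk (RingHom.ker f))
      Ideal.Quotient.mk_surjective (mem_nonZeroDivisors_of_ne_zero hne)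
      (Ideal.Quotient.eq_zero_iff_mem.mpr hx)
  letI : Algebra Abar R := (RingHom.kerLift f).toAlgebra
  haveI : Algebra.IsIntegral Abar R := by
    letI := f.toAlgebra
    haveI : Module.Finite A R := hf
    constructor
    intro r
    have hr : IsIntegral A r := Algebra.IsIntegral.isIntegral r
    obtain ⟨q, hq, hqr⟩ := hr
    refine ⟨q.map (Ideal.Quotient.mk (RingHom.ker f)), hq.map _, ?_⟩
    rw [Polynomial.eval₂_map]
    exact hqr
  have h2 : ringKrullDim R ≤ ringKrullDim Abar :=
    Groth.Agent.Lib.Helper11.IntegralDim.ringKrullDim_le_of_isIntegral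
  have h3 : (N : WithBot ℕ∞) + 1 ≤ N :=
    (add_le_add_left (hR.trans h2) 1).trans (h1.trans hA)
  have h4 : ((N + 1 : ℕ) : WithBot ℕ∞) ≤ ((N : ℕ) : WithBot ℕ∞) := by exact_mod_cast h3
  have h5 : N + 1 ≤ N := by exact_mod_cast h4
  omega

end Inj


section Dim

open MvPowerSeries Groth.Agent.Lib.Helper76.PSComplete Groth.Agent.Lib.Helper76.LT

/-- the dimension of a power series ring over a local Noetherian ring with principal maximal
ideal is at most `n + 1` -/
theorem ringKrullDim_mvPowerSeries_le (Λ : Type*) [CommRing Λ] [IsLocalRing Λ]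
    [IsNoetherianRing Λ] (π : Λ) (hπ : maximalIdeal Λ = Ideal.span {π}) (n : ℕ) :
    ringKrullDim (MvPowerSeries (Fin n) Λ) ≤ (n + 1 : ℕ) := by
  classical
  refine (ringKrullDim_le_spanFinrank_maximalIdeal _).trans ?_
  have hmax : maximalIdeal (MvPowerSeries (Fin n) Λ) =
      Ideal.span (insert (C π) (Set.range (X : Fin n → MvPowerSeries (Fin n) Λ))) := by
    apply le_antisymm
    · intro x hx
      have h0 : constantCoeff x ∈ maximalIdeal Λ := by
        rw [mem_maximalIdeal, mem_nonunits_iff]
        intro h
        exact (mem_maximalIdeal _).mp hx (MvPowerSeries.isUnit_iff_constantCoeff.mpr h)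
      rw [hπ, Ideal.mem_span_singleton] at h0
      obtain ⟨c, hc⟩ := h0
      have h1 : x - C (constantCoeff x) ∈ varIdeal (Fin n) Λ := by
        have := mem_varIdeal_pow_of_ord (σ := Fin n) (A := Λ) (n := 1)
          (G := x - C (constantCoeff x)) (ord_one_iff.mpr (by simp))
        rwa [pow_one] at this
      have h2 : x = C π * C c + (x - C (constantCoeff x)) := by
        rw [← map_mul, ← hc]; ring
      rw [h2]
      refine Ideal.add_mem _ (Ideal.mul_mem_right _ _ (Ideal.subset_span (Set.mem_insert _ _))) ?_
      exact Ideal.span_mono (Set.subset_insert _ _) h1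
    · rw [Ideal.span_le]
      intro y hy
      rw [SetLike.mem_coe, mem_maximalIdeal, mem_nonunits_iff,
        MvPowerSeries.isUnit_iff_constantCoeff]
      rcases hy with rfl | ⟨i, rfl⟩
      · rw [constantCoeff_C]
        have : π ∈ maximalIdeal Λ := by rw [hπ]; exact Ideal.mem_span_singleton_self _
        exact (mem_maximalIdeal _).mp this
      · rw [constantCoeff_X]
        exact not_isUnit_zero
  rw [hmax]
  have hfin : (insert (C π) (Set.range (X : Fin n → MvPowerSeries (Fin n) Λ))).Finite :=
    (Set.finite_range _).insert _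
  have h1 := Submodule.spanFinrank_span_le_ncard_of_finite (R := MvPowerSeries (Fin n) Λ) hfin
  have h2 : (insert (C π) (Set.range (X : Fin n → MvPowerSeries (Fin n) Λ))).ncard ≤ n + 1 := by
    refine (Set.ncard_insert_le _ _).trans ?_
    have : (Set.range (X : Fin n → MvPowerSeries (Fin n) Λ)).ncard ≤ n := by
      rw [← Set.image_univ]
      refine (Set.ncard_image_le (Set.finite_univ)).trans ?_
      simp
    omega
  exact_mod_cast h1.trans h2

end Dim

section Fin

open MvPowerSeries Groth.Agent.Lib.Helper76.PSComplete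

variable {Λ : Type u} [CommRing Λ] (𝔞 : Ideal Λ) [IsAdicComplete 𝔞 Λ]
  {R : Type u} [CommRing R] [IsLocalRing R] [IsNoetherianRing R]
  [IsAdicComplete (maximalIdeal R) R] [Algebra Λ R]

/-- finiteness of a complete local ring over a power series ring on a system of parameters -/
theorem finite_evC (hres : Function.Surjective ((residue R).comp (algebraMap Λ R)))
    (h𝔞 : 𝔞.map (algebraMap Λ R) ≤ maximalIdeal R)
    {n : ℕ} (b : Fin n → R) (hb : ∀ i, b i ∈ maximalIdeal R) (N : ℕ)
    (hN : maximalIdeal R ^ N ≤ 𝔞.map (algebraMap Λ R) ⊔ Ideal.span (Set.range b)) :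
    ((evC (maximalIdeal R) b hb : MvPowerSeries (Fin n) Λ →ₐ[Λ] R) :
      MvPowerSeries (Fin n) Λ →+* R).Finite := by
  let J : Ideal R := Ideal.span (Set.range b)
  have hJ : J ≤ maximalIdeal R := by
    rw [Ideal.span_le]
    rintro _ ⟨i, rfl⟩
    exact hb i
  let M₁ := R ⧸ J
  -- Step 1: `R ⧸ J` is finite over `Λ`
  have hne : 𝔞.map (algebraMap Λ R) ≠ ⊤ := fun h =>
    (maximalIdeal.isMaximal R).ne_top (top_le_iff.mp (h ▸ h𝔞))
  haveI : IsHausdorff (𝔞.map (algebraMap Λ R)) M₁ := IsHausdorff.of_isLocalRing _ _ hne
  haveI : IsHausdorff 𝔞 M₁ := (IsHausdorff.map_algebraMap_iff (S := R)).mp inferInstance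
  have hstep1 : Module.Finite Λ M₁ := by
    apply Groth.Agent.S0544.result Λ 𝔞 M₁
    let P : Submodule R M₁ := (𝔞.map (algebraMap Λ R)) • (⊤ : Submodule R M₁)
    have hPeq : (𝔞 • ⊤ : Submodule Λ M₁) = P.restrictScalars Λ := by
      rw [Ideal.smul_restrictScalars, Submodule.restrictScalars_top]
    have hkill : (maximalIdeal R) ^ N • (⊤ : Submodule R (M₁ ⧸ P)) = ⊥ := by
      rw [eq_bot_iff]
      intro x hx
      rw [Submodule.mem_bot]
      refine Submodule.smul_induction_on hx ?_ ?_
      · intro r hr y _
        obtain ⟨y, rfl⟩ := Submodule.Quotient.mk_surjective _ y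
        obtain ⟨y, rfl⟩ := Ideal.Quotient.mk_surjective y
        rw [← Submodule.Quotient.mk_smul, Submodule.Quotient.mk_eq_zero]
        obtain ⟨a, ha, j, hj, rfl⟩ := Submodule.mem_sup.mp (hN hr)
        rw [add_smul]
        refine Submodule.add_mem _ (Submodule.smul_mem_smul ha trivial) ?_
        have : j • (Ideal.Quotient.mk J y) = 0 := by
          change Ideal.Quotient.mk J (j * y) = 0
          exact Ideal.Quotient.eq_zero_iff_mem.mpr (J.mul_mem_right _ hj)
        rw [this]
        exact Submodule.zero_mem _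
      · intro x y hx hy
        rw [hx, hy, add_zero]
    haveI h1 : Module.Finite Λ (M₁ ⧸ P) := finite_of_pow_smul_top_eq_bot hres N (M₁ ⧸ P) hkill
    haveI h2 : Module.Finite Λ (M₁ ⧸ P.restrictScalars Λ) :=
      Module.Finite.equiv (Submodule.Quotient.restrictScalarsEquiv Λ P).symm
    exact Module.Finite.equiv (Submodule.quotEquivOfEq _ _ hPeq.symm)
  -- Step 2
  let A := MvPowerSeries (Fin n) Λ
  let f : A →ₐ[Λ] R := evC (maximalIdeal R) b hb
  letI : Algebra A R := (f : A →+* R).toAlgebra
  haveI : IsScalarTower Λ A R := IsScalarTower.of_algebraMap_eq (fun l => (f.commutes l).symm)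
  change Module.Finite A R
  let IX : Ideal A := Ideal.span (Set.range (X : Fin n → A))
  have hmap : IX.map (algebraMap A R) = J := by
    rw [Ideal.map_span, ← Set.range_comp]
    congr 1
    ext y
    constructor
    · rintro ⟨i, rfl⟩
      exact ⟨i, (evC_X (maximalIdeal R) b hb i).symm⟩
    · rintro ⟨i, rfl⟩
      exact ⟨i, evC_X (maximalIdeal R) b hb i⟩
  have hJne : J ≠ ⊤ := fun h => (maximalIdeal.isMaximal R).ne_top (top_le_iff.mp (h ▸ hJ))
  haveI : IsHausdorff (IX.map (algebraMap A R)) R := by
    rw [hmap]
    exact IsHausdorff.of_isLocalRing _ _ hJne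
  haveI : IsHausdorff IX R := (IsHausdorff.map_algebraMap_iff (S := R)).mp inferInstance
  apply Groth.Agent.S0544.result A IX R
  have h1 : (IX • ⊤ : Submodule A R) = J.restrictScalars A := by
    rw [Ideal.smul_top_eq_map, hmap]
  haveI : Module.Finite A M₁ := Module.Finite.of_restrictScalars_finite Λ A M₁
  haveI : Module.Finite A (R ⧸ J.restrictScalars A) :=
    Module.Finite.equiv (Submodule.Quotient.restrictScalarsEquiv A J).symm
  exact Module.Finite.equiv (Submodule.quotEquivOfEq _ _ h1.symm)

end Fin


section Main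

open MvPowerSeries Groth.Agent.Lib.Helper76.PSComplete

/-- **Cohen structure theorem for domains** (Stacks 032D). The extra clause records that, in
the Cohen ring case, the coefficient ring has characteristic zero. -/
theorem exists_finite_injective (R : Type u) [CommRing R] [IsDomain R] [IsLocalRing R]
    [IsNoetherianRing R] [IsAdicComplete (maximalIdeal R) R] :
    ∃ (Λ : Type u) (_ : CommRing Λ) (n : ℕ) (f : MvPowerSeries (Fin n) Λ →+* R),
      (IsField Λ ∨ (CAlg.IsCohenRing Λ ∧ CharZero Λ)) ∧ Function.Injective f ∧ f.Finite ∧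
      Function.Surjective ((residue R).comp f) := by
  classical
  let p := ringChar (ResidueField R)
  haveI : CharP (ResidueField R) p := ringChar.charP _
  by_cases hp0 : (p : R) = 0
  · obtain ⟨σ, hσ⟩ := Groth.Agent.Lib.Helper13.CohenEq.exists_section_of_natCast_eq_zero
      (A := R) p hp0
    let 𝔞 : Ideal (ResidueField R) := ⊥
    haveI : IsAdicComplete 𝔞 (ResidueField R) := inferInstanceAs (IsAdicComplete ⊥ _)
    have h𝔞 : 𝔞 = ⊥ := rfl
    letI : Algebra (ResidueField R) R := σ.toAlgebra
    have hres : Function.Surjective ((residue R).comp (algebraMap (ResidueField R) R)) :=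
      fun x => ⟨x, hσ x⟩
    obtain ⟨n, b, hb, hdim, N, hN⟩ := exists_sop_mod R ⊥ bot_ne_top
    have hdimR : (n : WithBot ℕ∞) = ringKrullDim R := by
      rw [hdim]
      exact ringKrullDim_eq_of_ringEquiv (RingEquiv.quotientBot R)
    haveI : IsDomain (MvPowerSeries (Fin n) (ResidueField R)) := NoZeroDivisors.to_isDomain _
    let f : MvPowerSeries (Fin n) (ResidueField R) →ₐ[ResidueField R] R :=
      evC (maximalIdeal R) b hb
    have hfin : (f : MvPowerSeries (Fin n) (ResidueField R) →+* R).Finite :=
      finite_evC 𝔞 hres (by rw [h𝔞, Ideal.map_bot]; exact bot_le) b hb N (by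
        rw [h𝔞, Ideal.map_bot]; exact hN)
    refine ⟨ResidueField R, inferInstance, n, (f : _ →+* R), Or.inl (Field.toIsField _), ?_,
      hfin, ?_⟩
    · exact injective_of_finite_of_dim n (ringKrullDim_le_card (ResidueField R) n) _ hfin
        hdimR.le
    · intro x
      refine ⟨C x, ?_⟩
      have := f.commutes x
      rw [MvPowerSeries.algebraMap_apply, Algebra.algebraMap_self, RingHom.id_apply] at this
      change residue R (f (C x)) = x
      rw [this]
      exact hσ x
  · have hp : p.Prime := by
      rcases CharP.char_is_prime_or_zero (ResidueField R) p with h | h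
      · exact h
      · exact absurd (by rw [h, Nat.cast_zero]) hp0
    obtain ⟨Λ, _, hdom, hdvr, v, hcomp, hm, hres⟩ :=
      CohenStruct.exists_cohen_coefficient_ring R p hp
    letI : Algebra Λ R := v.toAlgebra
    have hpm : (p : R) ∈ maximalIdeal R := by
      rw [← residue_eq_zero_iff, map_natCast]
      exact CharP.cast_eq_zero _ p
    have hmap : (maximalIdeal Λ).map (algebraMap Λ R) = Ideal.span {(p : R)} := by
      rw [hm, Ideal.map_span, Set.image_singleton, map_natCast]
    have hle : (maximalIdeal Λ).map (algebraMap Λ R) ≤ maximalIdeal R := by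
      rw [hmap, Ideal.span_singleton_le_iff_mem]
      exact hpm
    have hne : Ideal.span {(p : R)} ≠ ⊤ := fun h =>
      (maximalIdeal.isMaximal R).ne_top (top_le_iff.mp (h ▸ (hmap ▸ hle)))
    obtain ⟨n, b, hb, hdim, N, hN⟩ := exists_sop_mod R (Ideal.span {(p : R)}) hne
    have hdimR : ((n + 1 : ℕ) : WithBot ℕ∞) ≤ ringKrullDim R := by
      have h1 := ringKrullDim_quotient_succ_le_of_nonZeroDivisor
        (mem_nonZeroDivisors_of_ne_zero hp0)
      rw [← hdim] at h1
      exact_mod_cast h1
    let f : MvPowerSeries (Fin n) Λ →ₐ[Λ] R := evC (maximalIdeal R) b hb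
    have hfin : (f : MvPowerSeries (Fin n) Λ →+* R).Finite :=
      finite_evC (maximalIdeal Λ) hres hle b hb N (by rw [hmap]; exact hN)
    have hchar : CharZero Λ := by
      obtain ⟨q, hq⟩ := CharP.exists Λ
      rcases CharP.char_is_prime_or_zero Λ q with hq' | hq'
      · exfalso
        have h1 : (q : Λ) = 0 := CharP.cast_eq_zero Λ q
        have h2 : (q : R) = 0 := by
          have := congrArg v h1
          rwa [map_natCast, map_zero] at this
        have h3 : (q : ResidueField R) = 0 := by
          have := congrArg (residue R) h2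
          rwa [map_natCast, map_zero] at this
        have h4 : p ∣ q := (CharP.cast_eq_zero_iff (ResidueField R) p q).mp h3
        have h5 : p = q := (Nat.prime_dvd_prime_iff_eq hp hq').mp h4
        exact hp0 (h5 ▸ h2)
      · subst hq'
        exact CharP.charP_to_charZero Λ
    haveI : IsDomain (MvPowerSeries (Fin n) Λ) := NoZeroDivisors.to_isDomain _
    refine ⟨Λ, inferInstance, n, (f : _ →+* R), Or.inr ⟨⟨hdom, hdvr, hcomp, p, hp, hm⟩, hchar⟩, ?_,
      hfin, ?_⟩
    · exact injective_of_finite_of_dim (n + 1) (ringKrullDim_mvPowerSeries_le Λ (p : Λ) hm n) _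
        hfin hdimR
    · intro x
      obtain ⟨l, hl⟩ := hres x
      refine ⟨C l, ?_⟩
      have := f.commutes l
      rw [MvPowerSeries.algebraMap_apply, Algebra.algebraMap_self, RingHom.id_apply] at this
      change residue R (f (C l)) = x
      rw [this]
      exact hl

end Main

end Groth.Agent.Lib.Helper88.CohenStruct2
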