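import Mathlib

/-!
# Integral closures and finiteness: localization lemmas (towards N-1 / N-2 rings)
-/

universe u

namespace Groth.Agent.Lib.Helper88

open scoped Pointwise

/-- If the integral closure of `R_{f_i}` in `L` is a finite `R_{f_i}`-module for a finite family
`f_i` spanning the unit ideal, then the integral closure of `R` in `L` is a finite `R`-module. -/
theorem finite_integralClosure_of_localizationSpan {R L : Type*} [CommRing R] [CommRing L]
    [Algebra R L] {ι : Type*} [Finite ι] (f : ι → R) (hf : Ideal.span (Set.range f) = ⊤)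
    (Rf : ι → Type*) [∀ i, CommRing (Rf i)] [∀ i, Algebra R (Rf i)] [∀ i, Algebra (Rf i) L]
    [∀ i, IsScalarTower R (Rf i) L] [∀ i, IsLocalization.Away (f i) (Rf i)]
    (H : ∀ i, Module.Finite (Rf i) (integralClosure (Rf i) L)) :
    Module.Finite R (integralClosure R L) := by
  classical
  -- generators of the local integral closures
  have hfg : ∀ i, (Subalgebra.toSubmodule (integralClosure (Rf i) L)).FG := fun i =>
    (Submodule.fg_top _).mp ((Module.finite_def).mp (H i))
  choose T hT using hfg
  -- clear denominators of the generators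
  have hmul : ∀ i (y : L), y ∈ T i →
      ∃ m : Submonoid.powers (f i), IsIntegral R (m • y) := by
    intro i y hy
    have hy' : IsIntegral (Rf i) y := by
      have : y ∈ Subalgebra.toSubmodule (integralClosure (Rf i) L) := by
        rw [← hT i]; exact Submodule.subset_span hy
      exact this
    exact IsIntegral.exists_multiple_integral_of_isLocalization (Submonoid.powers (f i)) y hy'
  choose m hm using hmul
  let T' : ι → Set L := fun i => {z | ∃ (y : L) (hy : y ∈ T i), z = (m i y hy) • y}
  have hT'fin : ∀ i, (T' i).Finite := by
    intro i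
    have : T' i = Set.range (fun y : T i => (m i y.1 y.2) • (y.1 : L)) := by
      ext z
      constructor
      · rintro ⟨y, hy, rfl⟩
        exact ⟨⟨y, hy⟩, rfl⟩
      · rintro ⟨⟨y, hy⟩, rfl⟩
        exact ⟨y, hy, rfl⟩
    rw [this]
    exact Set.finite_range _
  let N : Submodule R L := Submodule.span R (⋃ i, T' i)
  have hNfg : N.FG := Submodule.fg_span (Set.finite_iUnion hT'fin)
  have hle : N ≤ Subalgebra.toSubmodule (integralClosure R L) := by
    apply Submodule.span_le.mpr
    intro z hz
    obtain ⟨i, y, hy, rfl⟩ := Set.mem_iUnion.mp hz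
    exact hm i y hy
  have hge : Subalgebra.toSubmodule (integralClosure R L) ≤ N := by
    intro c hc
    have hc' : IsIntegral R c := hc
    apply Submodule.mem_of_span_eq_top_of_smul_pow_mem N (Set.range f) hf c
    rintro ⟨_, i, rfl⟩
    have hci : c ∈ Submodule.span (Rf i) (T i : Set L) := by
      rw [hT i]
      exact (hc'.tower_top : IsIntegral (Rf i) c)
    have hsub : Submodule.span (Rf i) (T i : Set L) ≤ Submodule.span (Rf i) (T' i) := by
      apply Submodule.span_le.mpr
      intro y hy
      have hunit : IsUnit (algebraMap R (Rf i) (m i y hy : R)) :=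
        IsLocalization.map_units (Rf i) (m i y hy)
      obtain ⟨u, hu⟩ := hunit
      have hmem : ((m i y hy) • y : L) ∈ Submodule.span (Rf i) (T' i) :=
        Submodule.subset_span ⟨y, hy, rfl⟩
      have := Submodule.smul_mem _ (↑u⁻¹ : Rf i) hmem
      have heq : (↑u⁻¹ : Rf i) • ((m i y hy) • y : L) = y := by
        rw [Submonoid.smul_def, ← algebraMap_smul (Rf i) ((m i y hy : R)) y, ← hu, smul_smul,
          Units.inv_mul, one_smul]
      rw [heq] at this
      exact this
    obtain ⟨⟨_, n, rfl⟩, ht⟩ := multiple_mem_span_of_mem_localization_span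
      (Submonoid.powers (f i)) (Rf i) (T' i) c (hsub hci)
    refine ⟨n, ?_⟩
    rw [Submonoid.smul_def] at ht
    exact Submodule.span_mono (Set.subset_iUnion T' i) ht
  have heq : Subalgebra.toSubmodule (integralClosure R L) = N := le_antisymm hge hle
  have : (Subalgebra.toSubmodule (integralClosure R L)).FG := heq ▸ hNfg
  exact Module.Finite.of_fg this

end Groth.Agent.Lib.Helper88
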