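import Groth.Prelude.Def_Found
import Groth.Agent.Lib.Helper88.Japanese
import Mathlib

/-!
# N-1 and N-2 domains: independence of the fraction field, localization
-/

universe u

namespace Groth.Agent.Lib.Helper88

open CAlg

/-- N-1, for an arbitrary fraction field. -/
def IsN1' (R : Type u) [CommRing R] [IsDomain R] : Prop :=
  ∀ (K : Type u) [Field K] [Algebra R K] [IsFractionRing R K],
    Module.Finite R (integralClosure R K)

/-- N-2, for an arbitrary fraction field. -/
def IsN2' (R : Type u) [CommRing R] [IsDomain R] : Prop :=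
  ∀ (K L : Type u) [Field K] [Field L] [Algebra R K] [IsFractionRing R K] [Algebra R L]
    [Algebra K L] [IsScalarTower R K L], FiniteDimensional K L →
    Module.Finite R (integralClosure R L)

theorem isN1_iff (R : Type u) [CommRing R] [IsDomain R] : CAlg.IsN1 R ↔ IsN1' R := by
  constructor
  · intro h K _ _ _
    let e : FractionRing R ≃ₐ[R] K := FractionRing.algEquiv R K
    have : Module.Finite R (integralClosure R (FractionRing R)) := h
    exact Module.Finite.equiv e.mapIntegralClosure.toLinearEquiv
  · intro h
    exact h (FractionRing R)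

theorem isN2_iff (R : Type u) [CommRing R] [IsDomain R] : CAlg.IsN2 R ↔ IsN2' R := by
  constructor
  · intro h K L _ _ _ _ _ _ _ hfin
    let e : FractionRing R ≃ₐ[R] K := FractionRing.algEquiv R K
    letI : Algebra (FractionRing R) L := ((algebraMap K L).comp (e : FractionRing R →+* K)).toAlgebra
    haveI : IsScalarTower R (FractionRing R) L := IsScalarTower.of_algebraMap_eq (fun x => by
      change algebraMap R L x = algebraMap K L (e (algebraMap R (FractionRing R) x))
      rw [e.commutes, ← IsScalarTower.algebraMap_apply R K L])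
    have hfin' : FiniteDimensional (FractionRing R) L :=
      Module.Finite.of_equiv_equiv (A₁ := K) (B₁ := L) (A₂ := FractionRing R) (B₂ := L)
        e.symm.toRingEquiv (RingEquiv.refl L) (by
          ext x
          change algebraMap K L (e (e.symm x)) = algebraMap K L x
          rw [e.apply_symm_apply])
    exact h L hfin'
  · intro h L _ _ _ _ hfin
    exact h (FractionRing R) L hfin

section Away

variable (R : Type u) [CommRing R] [IsDomain R] (K : Type u) [Field K] [Algebra R K]
  [IsFractionRing R K]

/-- an element whose localization is a nontrivial ring is nonzero -/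
theorem ne_zero_of_away_nontrivial (f : R) (Rf : Type*) [CommRing Rf] [Nontrivial Rf] [Algebra R Rf]
    [IsLocalization.Away f Rf] : f ≠ 0 := by
  rintro rfl
  have h : IsUnit (algebraMap R Rf 0) := IsLocalization.Away.algebraMap_isUnit (0 : R)
  rw [map_zero] at h
  exact not_isUnit_zero h

theorem isUnit_algebraMap_of_away (f : R) (Rf : Type*) [CommRing Rf] [Nontrivial Rf] [Algebra R Rf]
    [IsLocalization.Away f Rf] : IsUnit (algebraMap R K f) := by
  have hf : f ≠ 0 := ne_zero_of_away_nontrivial R f Rf
  exact IsUnit.mk0 _ (by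
    rw [Ne, map_eq_zero_iff _ (IsFractionRing.injective R K)]
    exact hf)

/-- the canonical map from a localization `R_f` of a domain to a fraction field of `R` -/
noncomputable def awayLift (f : R) (Rf : Type*) [CommRing Rf] [Nontrivial Rf] [Algebra R Rf]
    [IsLocalization.Away f Rf] : Rf →+* K :=
  IsLocalization.Away.lift f (isUnit_algebraMap_of_away R K f Rf)

theorem awayLift_algebraMap (f : R) (Rf : Type*) [CommRing Rf] [Nontrivial Rf] [Algebra R Rf]
    [IsLocalization.Away f Rf] (x : R) :
    awayLift R K f Rf (algebraMap R Rf x) = algebraMap R K x :=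
  IsLocalization.Away.lift_eq f _ x

end Away

/-- N-1 is local on a finite cover by principal opens. -/
theorem isN1'_of_localizationSpan (R : Type u) [CommRing R] [IsDomain R]
    {ι : Type*} [Finite ι] (f : ι → R) (hf : Ideal.span (Set.range f) = ⊤)
    (Rf : ι → Type u) [∀ i, CommRing (Rf i)] [∀ i, IsDomain (Rf i)] [∀ i, Algebra R (Rf i)]
    [∀ i, IsLocalization.Away (f i) (Rf i)] (h : ∀ i, IsN1' (Rf i)) : IsN1' R := by
  intro K _ _ _
  letI : ∀ i, Algebra (Rf i) K := fun i => (awayLift R K (f i) (Rf i)).toAlgebra
  haveI : ∀ i, IsScalarTower R (Rf i) K := fun i =>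
    IsScalarTower.of_algebraMap_eq (fun x => (awayLift_algebraMap R K (f i) (Rf i) x).symm)
  haveI : ∀ i, IsFractionRing (Rf i) K := fun i =>
    IsFractionRing.isFractionRing_of_isDomain_of_isLocalization (Submonoid.powers (f i)) (Rf i) K
  exact finite_integralClosure_of_localizationSpan f hf Rf (fun i => h i K)

/-- N-2 is local on a finite cover by principal opens. -/
theorem isN2'_of_localizationSpan (R : Type u) [CommRing R] [IsDomain R]
    {ι : Type*} [Finite ι] (f : ι → R) (hf : Ideal.span (Set.range f) = ⊤)
    (Rf : ι → Type u) [∀ i, CommRing (Rf i)] [∀ i, IsDomain (Rf i)] [∀ i, Algebra R (Rf i)]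
    [∀ i, IsLocalization.Away (f i) (Rf i)] (h : ∀ i, IsN2' (Rf i)) : IsN2' R := by
  intro K L _ _ _ _ _ _ _ hfin
  letI : ∀ i, Algebra (Rf i) K := fun i => (awayLift R K (f i) (Rf i)).toAlgebra
  haveI : ∀ i, IsScalarTower R (Rf i) K := fun i =>
    IsScalarTower.of_algebraMap_eq (fun x => (awayLift_algebraMap R K (f i) (Rf i) x).symm)
  haveI : ∀ i, IsFractionRing (Rf i) K := fun i =>
    IsFractionRing.isFractionRing_of_isDomain_of_isLocalization (Submonoid.powers (f i)) (Rf i) K
  letI : ∀ i, Algebra (Rf i) L := fun i =>
    ((algebraMap K L).comp (awayLift R K (f i) (Rf i))).toAlgebra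
  haveI : ∀ i, IsScalarTower (Rf i) K L := fun i =>
    IsScalarTower.of_algebraMap_eq (fun _ => rfl)
  haveI : ∀ i, IsScalarTower R (Rf i) L := fun i =>
    IsScalarTower.of_algebraMap_eq (fun x => by
      change algebraMap R L x = algebraMap K L (awayLift R K (f i) (Rf i) (algebraMap R (Rf i) x))
      rw [awayLift_algebraMap, ← IsScalarTower.algebraMap_apply R K L])
  exact finite_integralClosure_of_localizationSpan f hf Rf (fun i => h i K L hfin)

end Groth.Agent.Lib.Helper88
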