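import Groth.Prelude.Def_Found
import Groth.Agent.Lib.Helper88.Japanese2
import Mathlib

/-!
# N-1 and N-2 pass to localizations
-/

universe u

namespace Groth.Agent.Lib.Helper88

open CAlg

/-- If the integral closure of `R` in `L` is a finite `R`-module, the integral closure of a
localization `R'` of `R` in `L` is a finite `R'`-module. -/
theorem finite_integralClosure_of_isLocalization {R L : Type*} [CommRing R] [CommRing L]
    [Algebra R L] (M : Submonoid R) (R' : Type*) [CommRing R'] [Algebra R R'] [Algebra R' L]
    [IsScalarTower R R' L] [IsLocalization M R']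
    (h : Module.Finite R (integralClosure R L)) :
    Module.Finite R' (integralClosure R' L) := by
  classical
  have hfg : (Subalgebra.toSubmodule (integralClosure R L)).FG :=
    (Submodule.fg_top _).mp ((Module.finite_def).mp h)
  obtain ⟨T, hT⟩ := hfg
  have heq : Subalgebra.toSubmodule (integralClosure R' L) = Submodule.span R' (T : Set L) := by
    apply le_antisymm
    · intro c hc
      have hc' : IsIntegral R' c := hc
      obtain ⟨m, hm⟩ := IsIntegral.exists_multiple_integral_of_isLocalization M c hc'
      have h1 : (m • c : L) ∈ Submodule.span R (T : Set L) := by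
        rw [hT]; exact hm
      have h2 : (m • c : L) ∈ Submodule.span R' (T : Set L) :=
        Submodule.span_le_restrictScalars R R' (T : Set L) h1
      obtain ⟨u, hu⟩ := IsLocalization.map_units R' m
      have h3 := Submodule.smul_mem _ (↑u⁻¹ : R') h2
      have h4 : (↑u⁻¹ : R') • (m • c : L) = c := by
        rw [Submonoid.smul_def, ← algebraMap_smul R' ((m : R)) c, ← hu, smul_smul,
          Units.inv_mul, one_smul]
      rw [h4] at h3
      exact h3
    · apply Submodule.span_le.mpr
      intro t ht
      have : t ∈ Subalgebra.toSubmodule (integralClosure R L) := by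
        rw [← hT]; exact Submodule.subset_span ht
      have ht' : IsIntegral R t := this
      exact (ht'.tower_top : IsIntegral R' t)
  have : (Subalgebra.toSubmodule (integralClosure R' L)).FG := ⟨T, heq.symm⟩
  exact Module.Finite.of_fg this

section

variable (R : Type u) [CommRing R] [IsDomain R] (M : Submonoid R) (R' : Type u) [CommRing R']
  [IsDomain R'] [Algebra R R'] [IsLocalization M R']

include M in
theorem injective_algebraMap_of_isLocalization_of_isDomain :
    Function.Injective (algebraMap R R') := by
  apply IsLocalization.injective R' (M := M)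
  intro x hx
  rw [mem_nonZeroDivisors_iff_ne_zero]
  rintro rfl
  have h : IsUnit (algebraMap R R' 0) := IsLocalization.map_units R' ⟨0, hx⟩
  rw [map_zero] at h
  exact not_isUnit_zero h

include M in
/-- a fraction field of a localization of a domain is a fraction field of the domain -/
theorem isFractionRing_of_isLocalization_of_isFractionRing (K : Type*) [Field K] [Algebra R' K]
    [IsFractionRing R' K] [Algebra R K] [IsScalarTower R R' K] : IsFractionRing R K := by
  have hinj := injective_algebraMap_of_isLocalization_of_isDomain R M R'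
  have h1 : IsLocalization ((nonZeroDivisors R').comap (algebraMap R R')) K :=
    IsLocalization.localization_localization_isLocalization_of_has_all_units M
      (nonZeroDivisors R') K (fun x hx => hx.mem_nonZeroDivisors)
  have h2 : (nonZeroDivisors R').comap (algebraMap R R') = nonZeroDivisors R := by
    ext x
    rw [Submonoid.mem_comap, mem_nonZeroDivisors_iff_ne_zero, mem_nonZeroDivisors_iff_ne_zero,
      Ne, Ne, map_eq_zero_iff _ hinj]
  rw [h2] at h1
  exact h1

include M in
/-- N-1 passes to localizations. -/
theorem isN1'_of_isLocalization (h : IsN1' R) : IsN1' R' := by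
  intro K _ _ _
  letI : Algebra R K := ((algebraMap R' K).comp (algebraMap R R')).toAlgebra
  haveI : IsScalarTower R R' K := IsScalarTower.of_algebraMap_eq (fun _ => rfl)
  haveI : IsFractionRing R K := isFractionRing_of_isLocalization_of_isFractionRing R M R' K
  exact finite_integralClosure_of_isLocalization M R' (h K)

include M in
/-- N-2 passes to localizations. -/
theorem isN2'_of_isLocalization (h : IsN2' R) : IsN2' R' := by
  intro K L _ _ _ _ _ _ _ hfin
  letI : Algebra R K := ((algebraMap R' K).comp (algebraMap R R')).toAlgebra
  haveI : IsScalarTower R R' K := IsScalarTower.of_algebraMap_eq (fun _ => rfl)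
  haveI : IsFractionRing R K := isFractionRing_of_isLocalization_of_isFractionRing R M R' K
  letI : Algebra R L := ((algebraMap R' L).comp (algebraMap R R')).toAlgebra
  haveI : IsScalarTower R R' L := IsScalarTower.of_algebraMap_eq (fun _ => rfl)
  haveI : IsScalarTower R K L := IsScalarTower.of_algebraMap_eq (fun x => by
    change algebraMap R' L (algebraMap R R' x) = algebraMap K L (algebraMap R' K (algebraMap R R' x))
    rw [← IsScalarTower.algebraMap_apply R' K L])
  exact finite_integralClosure_of_isLocalization M R' (h K L hfin)

end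

/-- N-1 transfers along ring isomorphisms. -/
theorem isN1'_of_ringEquiv {R R' : Type u} [CommRing R] [IsDomain R] [CommRing R'] [IsDomain R']
    (e : R ≃+* R') (h : IsN1' R) : IsN1' R' := by
  letI : Algebra R R' := e.toRingHom.toAlgebra
  haveI : IsLocalization (⊥ : Submonoid R) R' :=
    IsLocalization.of_le_isUnit_of_bijective (by
      rintro _ ⟨x, hx, rfl⟩
      rw [Submonoid.mem_bot.mp hx, map_one]
      exact isUnit_one) e.bijective
  exact isN1'_of_isLocalization R ⊥ R' h

/-- N-2 transfers along ring isomorphisms. -/
theorem isN2'_of_ringEquiv {R R' : Type u} [CommRing R] [IsDomain R] [CommRing R'] [IsDomain R']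
    (e : R ≃+* R') (h : IsN2' R) : IsN2' R' := by
  letI : Algebra R R' := e.toRingHom.toAlgebra
  haveI : IsLocalization (⊥ : Submonoid R) R' :=
    IsLocalization.of_le_isUnit_of_bijective (by
      rintro _ ⟨x, hx, rfl⟩
      rw [Submonoid.mem_bot.mp hx, map_one]
      exact isUnit_one) e.bijective
  exact isN2'_of_isLocalization R ⊥ R' h

theorem isN2_of_ringEquiv {R R' : Type u} [CommRing R] [IsDomain R] [CommRing R'] [IsDomain R']
    (e : R ≃+* R') (h : CAlg.IsN2 R) : CAlg.IsN2 R' :=
  (isN2_iff R').mpr (isN2'_of_ringEquiv e ((isN2_iff R).mp h))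

theorem isN1_of_ringEquiv {R R' : Type u} [CommRing R] [IsDomain R] [CommRing R'] [IsDomain R']
    (e : R ≃+* R') (h : CAlg.IsN1 R) : CAlg.IsN1 R' :=
  (isN1_iff R').mpr (isN1'_of_ringEquiv e ((isN1_iff R).mp h))

theorem isN2_of_isLocalization (R : Type u) [CommRing R] [IsDomain R] (M : Submonoid R)
    (R' : Type u) [CommRing R'] [IsDomain R'] [Algebra R R'] [IsLocalization M R']
    (h : CAlg.IsN2 R) : CAlg.IsN2 R' :=
  (isN2_iff R').mpr (isN2'_of_isLocalization R M R' ((isN2_iff R).mp h))

theorem isN1_of_isLocalization (R : Type u) [CommRing R] [IsDomain R] (M : Submonoid R)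
    (R' : Type u) [CommRing R'] [IsDomain R'] [Algebra R R'] [IsLocalization M R']
    (h : CAlg.IsN1 R) : CAlg.IsN1 R' :=
  (isN1_iff R').mpr (isN1'_of_isLocalization R M R' ((isN1_iff R).mp h))

/-- Nagata rings are stable under localization. -/
theorem isNagata_of_isLocalization (A : Type u) [CommRing A] (S : Submonoid A) (B : Type u)
    [CommRing B] [Algebra A B] [IsLocalization S B] (hA : CAlg.IsNagata A) : CAlg.IsNagata B := by
  obtain ⟨hnoeth, hq⟩ := hA
  refine ⟨IsLocalization.isNoetherianRing S B hnoeth, ?_⟩
  intro q hqprime
  let p : Ideal A := q.comap (algebraMap A B)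
  have hpq : p.map (algebraMap A B) = q := IsLocalization.map_under S B q
  haveI : p.IsPrime := Ideal.IsPrime.comap _
  haveI : (p.map (algebraMap A B)).IsPrime := hpq ▸ hqprime
  have h1 : CAlg.IsN2 (A ⧸ p) := hq p
  have h2 : CAlg.IsN2 (B ⧸ p.map (algebraMap A B)) :=
    isN2_of_isLocalization (A ⧸ p) (Algebra.algebraMapSubmonoid (A ⧸ p) S) _ h1
  exact isN2_of_ringEquiv (Ideal.quotEquivOfEq hpq) h2

end Groth.Agent.Lib.Helper88
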