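import Groth.Prelude.Def_Found
import Groth.Agent.Lib.Helper88.Japanese3
import Mathlib

/-!
# N-2 passes to finite extension domains
-/

universe u

namespace Groth.Agent.Lib.Helper88

open CAlg

attribute [local instance] FractionRing.liftAlgebra in
/-- A domain finite over an N-2 domain (injectively) is N-2. -/
theorem isN2_of_finite_extension (R S : Type u) [CommRing R] [IsDomain R] [CommRing S]
    [IsDomain S] [Algebra R S] (hinj : Function.Injective (algebraMap R S)) [Module.Finite R S]
    (hR : CAlg.IsN2 R) : CAlg.IsN2 S := by
  intro L _ _ _ _ hfin
  haveI : Module.IsTorsionFree R S := by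
    haveI : FaithfulSMul R S := (faithfulSMul_iff_algebraMap_injective R S).mpr hinj
    infer_instance
  haveI : FiniteDimensional (FractionRing R) (FractionRing S) := inferInstance
  letI : Algebra R L := ((algebraMap S L).comp (algebraMap R S)).toAlgebra
  haveI : IsScalarTower R S L := IsScalarTower.of_algebraMap_eq (fun _ => rfl)
  letI : Algebra (FractionRing R) L :=
    ((algebraMap (FractionRing S) L).comp (algebraMap (FractionRing R) (FractionRing S))).toAlgebra
  haveI : IsScalarTower (FractionRing R) (FractionRing S) L :=
    IsScalarTower.of_algebraMap_eq (fun _ => rfl)
  haveI : IsScalarTower R (FractionRing R) L := IsScalarTower.of_algebraMap_eq (fun x => by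
    change algebraMap S L (algebraMap R S x) =
      algebraMap (FractionRing S) L (algebraMap (FractionRing R) (FractionRing S)
        (algebraMap R (FractionRing R) x))
    rw [← IsScalarTower.algebraMap_apply R (FractionRing R) (FractionRing S),
      IsScalarTower.algebraMap_apply R S (FractionRing S),
      ← IsScalarTower.algebraMap_apply S (FractionRing S) L])
  haveI : FiniteDimensional (FractionRing R) L :=
    FiniteDimensional.trans (FractionRing R) (FractionRing S) L
  have h1 : Module.Finite R (integralClosure R L) := hR L inferInstance
  have hfg : (Subalgebra.toSubmodule (integralClosure R L)).FG :=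
    (Submodule.fg_top _).mp ((Module.finite_def).mp h1)
  have heq : (Subalgebra.toSubmodule (integralClosure S L)).restrictScalars R =
      Subalgebra.toSubmodule (integralClosure R L) := by
    ext x
    simp only [Submodule.restrictScalars_mem, Subalgebra.mem_toSubmodule,
      mem_integralClosure_iff]
    haveI : Algebra.IsIntegral R S := Algebra.IsIntegral.of_finite R S
    exact ⟨fun h => isIntegral_trans x h, fun h => h.tower_top⟩
  have : (Subalgebra.toSubmodule (integralClosure S L)).FG := by
    apply Submodule.FG.of_restrictScalars R
    rw [heq]; exact hfg
  exact Module.Finite.of_fg this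

end Groth.Agent.Lib.Helper88
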