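import Groth.Prelude.Def_Found
import Groth.Agent.Lib.Helper88.Japanese3
import Mathlib

/-!
# Nagata and universally Japanese rings are local on principal open covers
-/

universe u

namespace Groth.Agent.Lib.Helper88

open CAlg

/-- dropping the zero members of a spanning family -/
theorem span_range_subtype_ne_zero {S : Type*} [CommRing S] {ι : Type*} (g : ι → S)
    (hg : Ideal.span (Set.range g) = ⊤) :
    Ideal.span (Set.range (fun i : {i : ι // g i ≠ 0} => g i.1)) = ⊤ := by
  rw [eq_top_iff, ← hg]
  apply Ideal.span_le.mpr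
  rintro _ ⟨i, rfl⟩
  by_cases h : g i = 0
  · rw [h]; exact Ideal.zero_mem _
  · exact Ideal.subset_span ⟨⟨i, h⟩, rfl⟩

/-- Noetherianity is local on a finite principal open cover (general localizations). -/
theorem isNoetherianRing_of_localizationSpan (R : Type u) [CommRing R] {ι : Type*} [Finite ι]
    (f : ι → R) (hf : Ideal.span (Set.range f) = ⊤)
    (Rf : ι → Type u) [∀ i, CommRing (Rf i)] [∀ i, Algebra R (Rf i)]
    [∀ i, IsLocalization.Away (f i) (Rf i)] (h : ∀ i, IsNoetherianRing (Rf i)) :
    IsNoetherianRing R := by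
  classical
  have hfin : (Set.range f).Finite := Set.finite_range f
  apply AlgebraicGeometry.isNoetherianRing_of_away hfin.toFinset (by
    rw [Set.Finite.coe_toFinset]; exact hf)
  rintro ⟨s, hs⟩
  obtain ⟨i, rfl⟩ := (Set.Finite.mem_toFinset hfin).mp hs
  have e : Rf i ≃ₐ[R] Localization.Away (f i) :=
    IsLocalization.algEquiv (Submonoid.powers (f i)) (Rf i) (Localization.Away (f i))
  exact isNoetherianRing_of_ringEquiv (Rf i) e.toRingEquiv

/-- Being Nagata is local on a finite principal open cover. -/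
theorem isNagata_of_localizationSpan (R : Type u) [CommRing R] {ι : Type u} [Finite ι]
    (f : ι → R) (hf : Ideal.span (Set.range f) = ⊤)
    (Rf : ι → Type u) [∀ i, CommRing (Rf i)] [∀ i, Algebra R (Rf i)]
    [∀ i, IsLocalization.Away (f i) (Rf i)] (h : ∀ i, CAlg.IsNagata (Rf i)) :
    CAlg.IsNagata R := by
  refine ⟨isNoetherianRing_of_localizationSpan R f hf Rf (fun i => (h i).1), ?_⟩
  intro p hp
  -- restrict to the indices with `f i ∉ p`
  let g : {i : ι // Ideal.Quotient.mk p (f i) ≠ 0} → R ⧸ p := fun i => Ideal.Quotient.mk p (f i.1)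
  have hg : Ideal.span (Set.range g) = ⊤ := by
    apply span_range_subtype_ne_zero (fun i => Ideal.Quotient.mk p (f i))
    have : Set.range (fun i => Ideal.Quotient.mk p (f i)) = (Ideal.Quotient.mk p) '' Set.range f := by
      rw [← Set.range_comp]; rfl
    rw [this, ← Ideal.map_span, hf, Ideal.map_top]
  haveI hprime : ∀ i : {i : ι // Ideal.Quotient.mk p (f i) ≠ 0},
      (p.map (algebraMap R (Rf i.1))).IsPrime := by
    intro i
    apply IsLocalization.isPrime_of_isPrime_disjoint (Submonoid.powers (f i.1)) (Rf i.1) p hp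
    rw [Ideal.disjoint_powers_iff_notMem _ hp.isRadical]
    intro hmem
    exact i.2 (Ideal.Quotient.eq_zero_iff_mem.mpr hmem)
  haveI : ∀ i : {i : ι // Ideal.Quotient.mk p (f i) ≠ 0},
      IsLocalization.Away (g i) (Rf i.1 ⧸ p.map (algebraMap R (Rf i.1))) := by
    intro i
    have h1 : IsLocalization (Algebra.algebraMapSubmonoid (R ⧸ p) (Submonoid.powers (f i.1)))
        (Rf i.1 ⧸ p.map (algebraMap R (Rf i.1))) := inferInstance
    have h2 : Algebra.algebraMapSubmonoid (R ⧸ p) (Submonoid.powers (f i.1)) =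
        Submonoid.powers (g i) := by
      rw [Algebra.algebraMapSubmonoid, Submonoid.map_powers]
      rfl
    rw [h2] at h1
    exact h1
  have hN2 : ∀ i : {i : ι // Ideal.Quotient.mk p (f i) ≠ 0},
      IsN2' (Rf i.1 ⧸ p.map (algebraMap R (Rf i.1))) := fun i =>
    (isN2_iff _).mp ((h i.1).2 (p.map (algebraMap R (Rf i.1))))
  exact (isN2_iff _).mpr (isN2'_of_localizationSpan (R ⧸ p) g hg
    (fun i => Rf i.1 ⧸ p.map (algebraMap R (Rf i.1))) hN2)

end Groth.Agent.Lib.Helper88
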