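import Groth.Prelude.Def_Found
import Groth.Agent.Lib.Helper88.Japanese4
import Mathlib

/-!
# Universally Japanese rings are local on principal open covers
-/

universe u

namespace Groth.Agent.Lib.Helper88

open CAlg

/-- Being universally Japanese is local on a finite principal open cover. -/
theorem isUniversallyJapanese_of_localizationSpan (R : Type u) [CommRing R] {ι : Type u} [Finite ι]
    (f : ι → R) (hf : Ideal.span (Set.range f) = ⊤)
    (Rf : ι → Type u) [∀ i, CommRing (Rf i)] [∀ i, Algebra R (Rf i)]
    [∀ i, IsLocalization.Away (f i) (Rf i)] (h : ∀ i, CAlg.IsUniversallyJapanese (Rf i)) :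
    CAlg.IsUniversallyJapanese R := by
  intro S _ _ _ hft
  let g : {i : ι // algebraMap R S (f i) ≠ 0} → S := fun i => algebraMap R S (f i.1)
  have hg : Ideal.span (Set.range g) = ⊤ := by
    apply span_range_subtype_ne_zero (fun i => algebraMap R S (f i))
    have : Set.range (fun i => algebraMap R S (f i)) = (algebraMap R S) '' Set.range f := by
      rw [← Set.range_comp]; rfl
    rw [this, ← Ideal.map_span, hf, Ideal.map_top]
  haveI : ∀ i : {i : ι // algebraMap R S (f i) ≠ 0}, IsDomain (Localization.Away (g i)) :=
    fun i => IsLocalization.isDomain_localization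
      (powers_le_nonZeroDivisors_of_noZeroDivisors i.2)
  let φ : ∀ i : {i : ι // algebraMap R S (f i) ≠ 0}, Rf i.1 →+* Localization.Away (g i) :=
    fun i => IsLocalization.Away.lift (f i.1)
      (g := (algebraMap S (Localization.Away (g i))).comp (algebraMap R S))
      (IsLocalization.Away.algebraMap_isUnit (g i))
  letI : ∀ i : {i : ι // algebraMap R S (f i) ≠ 0}, Algebra (Rf i.1) (Localization.Away (g i)) :=
    fun i => (φ i).toAlgebra
  haveI : ∀ i : {i : ι // algebraMap R S (f i) ≠ 0},
      IsScalarTower R (Rf i.1) (Localization.Away (g i)) := fun i =>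
    IsScalarTower.of_algebraMap_eq (fun x => by
      change algebraMap R (Localization.Away (g i)) x = φ i (algebraMap R (Rf i.1) x)
      rw [IsLocalization.Away.lift_eq, RingHom.comp_apply,
        ← IsScalarTower.algebraMap_apply R S (Localization.Away (g i))])
  have hN2 : ∀ i : {i : ι // algebraMap R S (f i) ≠ 0}, IsN2' (Localization.Away (g i)) := by
    intro i
    apply (isN2_iff _).mp
    apply h i.1 (Localization.Away (g i))
    haveI : Algebra.FiniteType S (Localization.Away (g i)) :=
      IsLocalization.finiteType_of_monoid_fg (Submonoid.powers (g i)) _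
    haveI : Algebra.FiniteType R S := hft
    haveI : Algebra.FiniteType R (Localization.Away (g i)) := Algebra.FiniteType.trans ‹_› ‹_›
    exact Algebra.FiniteType.of_restrictScalars_finiteType R (Rf i.1) (Localization.Away (g i))
  exact (isN2_iff _).mpr (isN2'_of_localizationSpan S g hg
    (fun i => Localization.Away (g i)) hN2)

end Groth.Agent.Lib.Helper88
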