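import Groth.Prelude.Def_Found
import Groth.Agent.Lib.Helper88.Japanese5
import Mathlib

/-!
# N-1 for all finite-type domains implies universally Japanese
-/

universe u

namespace Groth.Agent.Lib.Helper88

open CAlg

/-- A finite extension `L` of the fraction field `K` of a domain `S` is the fraction field of a
subalgebra `S' ⊆ L` which is module-finite over `S`. -/
theorem exists_finite_subalgebra_isFractionRing (S : Type u) [CommRing S] [IsDomain S]
    (K L : Type u) [Field K] [Field L] [Algebra S K] [IsFractionRing S K] [Algebra S L]
    [Algebra K L] [IsScalarTower S K L] [FiniteDimensional K L] :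
    ∃ S' : Subalgebra S L, S'.FG ∧ Module.Finite S S' ∧ IsFractionRing S' L := by
  classical
  obtain ⟨s, b, hb⟩ := FiniteDimensional.exists_is_basis_integral S K L
  let S' : Subalgebra S L := Algebra.adjoin S (Set.range b)
  have hfin : (Set.range b).Finite := Set.finite_range b
  have hfg : S'.FG := ⟨hfin.toFinset, by rw [Set.Finite.coe_toFinset]⟩
  have hmod : Module.Finite S S' := by
    have h0 : (Subalgebra.toSubmodule S').FG := by
      apply fg_adjoin_of_finite hfin
      rintro _ ⟨i, rfl⟩
      exact hb i
    exact Module.Finite.of_fg h0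
  refine ⟨S', hfg, hmod, ?_⟩
  have hinjSL : Function.Injective (algebraMap S L) := by
    rw [IsScalarTower.algebraMap_eq S K L]
    exact (algebraMap K L).injective.comp (IsFractionRing.injective S K)
  haveI : FaithfulSMul S' L := (faithfulSMul_iff_algebraMap_injective S' L).mpr Subtype.val_injective
  apply IsFractionRing.of_field
  intro z
  obtain ⟨d, hd⟩ := IsLocalization.exist_integer_multiples (nonZeroDivisors S) (Finset.univ : Finset s)
    (fun i => b.repr z i)
  have hd' : ∀ i : s, ∃ n : S, algebraMap S K n = (d : S) • b.repr z i := fun i =>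
    hd i (Finset.mem_univ i)
  choose n hn using hd'
  have hbmem : ∀ i : s, b i ∈ S' := fun i => Algebra.subset_adjoin ⟨i, rfl⟩
  let x : S' := ∑ i, n i • (⟨b i, hbmem i⟩ : S')
  have hx : (x : L) = (d : S) • z := by
    have h1 : (x : L) = ∑ i, n i • b i := by
      simp only [x, AddSubmonoidClass.coe_finsetSum]
      rfl
    rw [h1]
    conv_rhs => rw [← b.sum_repr z, Finset.smul_sum]
    apply Finset.sum_congr rfl
    intro i _
    rw [← smul_assoc, ← hn i, algebraMap_smul]
  have hd0 : algebraMap S L (d : S) ≠ 0 := by
    rw [Ne, map_eq_zero_iff _ hinjSL]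
    exact nonZeroDivisors.ne_zero d.2
  refine ⟨x, algebraMap S S' (d : S), ?_⟩
  have h2 : algebraMap S' L (algebraMap S S' (d : S)) = algebraMap S L (d : S) := rfl
  have h3 : algebraMap S' L x = (d : S) • z := hx
  rw [h2, h3, Algebra.smul_def, mul_div_cancel_left₀ _ hd0]

/-- If every module-finite subalgebra of `L` with fraction field `L` has finite integral closure
in `L`, then so does `S`. -/
theorem finite_integralClosure_of_forall_subalgebra (S : Type u) [CommRing S] [IsDomain S]
    (K L : Type u) [Field K] [Field L] [Algebra S K] [IsFractionRing S K] [Algebra S L]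
    [Algebra K L] [IsScalarTower S K L] [FiniteDimensional K L]
    (H : ∀ S' : Subalgebra S L, S'.FG → IsFractionRing S' L →
      Module.Finite S' (integralClosure S' L)) :
    Module.Finite S (integralClosure S L) := by
  obtain ⟨S', hfg, hmod, hfr⟩ := exists_finite_subalgebra_isFractionRing S K L
  have h1 : Module.Finite S' (integralClosure S' L) := H S' hfg hfr
  have h2 : Module.Finite S (integralClosure S' L) := Module.Finite.trans S' _
  haveI : Algebra.IsIntegral S S' := Algebra.IsIntegral.of_finite S S'
  let f : integralClosure S' L →ₗ[S] integralClosure S L :=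
    { toFun := fun x => ⟨(x : L), isIntegral_trans (x : L) x.2⟩
      map_add' := fun x y => rfl
      map_smul' := fun a x => rfl }
  have hf : Function.Surjective f := by
    intro y
    exact ⟨⟨(y : L), (y.2 : IsIntegral S (y : L)).tower_top⟩, rfl⟩
  exact Module.Finite.of_surjective f hf

end Groth.Agent.Lib.Helper88
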