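import Groth.Prelude.Def_Found
import Groth.Agent.Lib.Helper88.Japanese6
import Groth.Agent.Lib.Helper88.Japanese8
import Mathlib

/-!
# More on N-1 / N-2: N-2 implies N-1, integral closures and localizations of integral extensions
-/

universe u

namespace Groth.Agent.Lib.Helper88

open CAlg

/-- N-2 implies N-1. -/
theorem isN1_of_isN2 {R : Type u} [CommRing R] [IsDomain R] (h : CAlg.IsN2 R) : CAlg.IsN1 R :=
  h (FractionRing R) inferInstance

/-- Variant of `finite_integralClosure_of_forall_subalgebra` recording module-finiteness. -/
theorem finite_integralClosure_of_forall_subalgebra' (S : Type u) [CommRing S] [IsDomain S]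
    (K L : Type u) [Field K] [Field L] [Algebra S K] [IsFractionRing S K] [Algebra S L]
    [Algebra K L] [IsScalarTower S K L] [FiniteDimensional K L]
    (H : ∀ S' : Subalgebra S L, Module.Finite S S' → IsFractionRing S' L →
      Module.Finite S' (integralClosure S' L)) :
    Module.Finite S (integralClosure S L) := by
  obtain ⟨S', _, hmod, hfr⟩ := exists_finite_subalgebra_isFractionRing S K L
  have h1 : Module.Finite S' (integralClosure S' L) := H S' hmod hfr
  have h2 : Module.Finite S (integralClosure S' L) := Module.Finite.trans S' _
  haveI : Algebra.IsIntegral S S' := Algebra.IsIntegral.of_finite S S'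
  let f : integralClosure S' L →ₗ[S] integralClosure S L :=
    { toFun := fun x => ⟨(x : L), isIntegral_trans (x : L) x.2⟩
      map_add' := fun x y => rfl
      map_smul' := fun a x => rfl }
  have hf : Function.Surjective f := by
    intro y
    exact ⟨⟨(y : L), (y.2 : IsIntegral S (y : L)).tower_top⟩, rfl⟩
  exact Module.Finite.of_surjective f hf

/-- Let `B → T` be integral, `C = M⁻¹B`, `T' = N⁻¹T` with `M ⊆ N` (via `B → T`), all mapping
compatibly to `L`.  If the integral closure of `C` in `L` is a finite `C`-module, then the
integral closure of `T'` in `L` is a finite `T'`-module. -/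
theorem finite_integralClosure_of_localization_tower {B T L : Type*} [CommRing B] [CommRing T]
    [CommRing L] [Algebra B T] [Algebra.IsIntegral B T] [Algebra B L] [Algebra T L]
    [IsScalarTower B T L]
    (M : Submonoid B) (C : Type*) [CommRing C] [Algebra B C] [IsLocalization M C] [Algebra C L]
    [IsScalarTower B C L]
    (N : Submonoid T) (T' : Type*) [CommRing T'] [Algebra T T'] [IsLocalization N T']
    [Algebra T' L] [IsScalarTower T T' L]
    (hMN : ∀ t ∈ M, algebraMap B T t ∈ N)
    (h : Module.Finite C (integralClosure C L)) :
    Module.Finite T' (integralClosure T' L) := by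
  classical
  have hfg : (Subalgebra.toSubmodule (integralClosure C L)).FG :=
    (Submodule.fg_top _).mp ((Module.finite_def).mp h)
  obtain ⟨G, hG⟩ := hfg
  -- elements of `M` become units of `T'`, compatibly in `L`
  have hunit : ∀ t ∈ M, ∃ u : T'ˣ, algebraMap T' L (u : T') = algebraMap B L t := by
    intro t ht
    obtain ⟨u, hu⟩ := IsLocalization.map_units T' (⟨algebraMap B T t, hMN t ht⟩ : N)
    refine ⟨u, ?_⟩
    rw [hu, ← IsScalarTower.algebraMap_apply T T' L, ← IsScalarTower.algebraMap_apply B T L]
  -- images of `B` in `L` come from `T'`
  have hB : ∀ b : B, algebraMap B L b = algebraMap T' L (algebraMap T T' (algebraMap B T b)) := by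
    intro b
    rw [← IsScalarTower.algebraMap_apply T T' L, ← IsScalarTower.algebraMap_apply B T L]
  -- images of `C` in `L` come from `T'`
  have hC : ∀ c : C, ∃ c' : T', algebraMap T' L c' = algebraMap C L c := by
    intro c
    obtain ⟨⟨b, t⟩, hbt⟩ := IsLocalization.surj M c
    obtain ⟨u, hu⟩ := hunit t t.2
    refine ⟨algebraMap T T' (algebraMap B T b) * (↑u⁻¹ : T'), ?_⟩
    have h1 : algebraMap C L c * algebraMap B L t = algebraMap B L b := by
      rw [IsScalarTower.algebraMap_apply B C L, IsScalarTower.algebraMap_apply B C L, ← map_mul]
      exact congrArg _ hbt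
    rw [map_mul, ← hB, ← h1, ← hu, mul_assoc, ← map_mul, Units.mul_inv, map_one, mul_one]
  have heq : Subalgebra.toSubmodule (integralClosure T' L) = Submodule.span T' (G : Set L) := by
    apply le_antisymm
    · intro y hy
      have hy' : IsIntegral T' y := hy
      obtain ⟨s, hs⟩ := IsIntegral.exists_multiple_integral_of_isLocalization N y hy'
      have hsB : IsIntegral B (s • y) := isIntegral_trans _ hs
      have hsC : IsIntegral C (s • y) := hsB.tower_top
      have h1 : (s • y : L) ∈ Submodule.span C (G : Set L) := by
        rw [hG]; exact hsC
      -- `span_C G ⊆ span_{T'} G`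
      have h2 : ∀ z ∈ Submodule.span C (G : Set L), z ∈ Submodule.span T' (G : Set L) := by
        intro z hz
        induction hz using Submodule.span_induction with
        | mem z hz => exact Submodule.subset_span hz
        | zero => exact Submodule.zero_mem _
        | add a b _ _ iha ihb => exact Submodule.add_mem _ iha ihb
        | smul c z _ ih =>
          obtain ⟨c', hc'⟩ := hC c
          have : c • z = c' • z := by rw [Algebra.smul_def, Algebra.smul_def, hc']
          rw [this]
          exact Submodule.smul_mem _ _ ih
      have h3 := h2 _ h1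
      obtain ⟨u, hu⟩ := IsLocalization.map_units T' s
      have h4 := Submodule.smul_mem _ (↑u⁻¹ : T') h3
      have h5 : (↑u⁻¹ : T') • (s • y : L) = y := by
        rw [Submonoid.smul_def, ← algebraMap_smul T' ((s : T)) y, ← hu, smul_smul,
          Units.inv_mul, one_smul]
      rw [h5] at h4
      exact h4
    · apply Submodule.span_le.mpr
      intro g hg
      have hgC : IsIntegral C g := by
        have : g ∈ Subalgebra.toSubmodule (integralClosure C L) := by
          rw [← hG]; exact Submodule.subset_span hg
        exact this
      obtain ⟨t, ht⟩ := IsIntegral.exists_multiple_integral_of_isLocalization M g hgC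
      have ht1 : IsIntegral T (t • g) := ht.tower_top
      have ht2 : IsIntegral T' (t • g) := ht1.tower_top
      obtain ⟨u, hu⟩ := hunit t t.2
      have h6 : g = algebraMap T' L (↑u⁻¹ : T') * (t • g) := by
        rw [Submonoid.smul_def, Algebra.smul_def, ← hu, ← mul_assoc, ← map_mul, Units.inv_mul,
          map_one, one_mul]
      change IsIntegral T' g
      rw [h6]
      exact isIntegral_algebraMap.mul ht2
  have : (Subalgebra.toSubmodule (integralClosure T' L)).FG := ⟨G, heq.symm⟩
  exact Module.Finite.of_fg this

/-- N-1 can be checked in any fraction field. -/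
theorem isN1_of_finite_integralClosure (R : Type u) [CommRing R] [IsDomain R] (K : Type u)
    [Field K] [Algebra R K] [IsFractionRing R K] (h : Module.Finite R (integralClosure R K)) :
    CAlg.IsN1 R := by
  let e : K ≃ₐ[R] FractionRing R := (FractionRing.algEquiv R K).symm
  exact Module.Finite.equiv e.mapIntegralClosure.toLinearEquiv

end Groth.Agent.Lib.Helper88
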