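import Groth.Prelude.Def_Found
import Groth.Agent.Lib.Helper88.Japanese3
import Mathlib

/-!
# N-2 descends along finite extensions of domains (Stacks 032I / 10.161.7)
-/

universe u

namespace Groth.Agent.Lib.Helper88

open CAlg TensorProduct

attribute [local instance] FractionRing.liftAlgebra in
/-- If `R ⊆ S` is a finite extension of domains, `R` Noetherian and `S` is N-2, then `R` is N-2. -/
theorem isN2_of_finite_extension_down (R S : Type u) [CommRing R] [IsDomain R]
    [IsNoetherianRing R] [CommRing S]
    [IsDomain S] [Algebra R S] (hinj : Function.Injective (algebraMap R S)) [Module.Finite R S]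
    (hS : CAlg.IsN2 S) : CAlg.IsN2 R := by
  intro L _ _ _ _ hfin
  haveI : FaithfulSMul R S := (faithfulSMul_iff_algebraMap_injective R S).mpr hinj
  let K := FractionRing R
  let KS := FractionRing S
  let T := KS ⊗[K] L
  haveI : Nontrivial T := inferInstance
  haveI : Module.Finite KS T := inferInstance
  obtain ⟨m, hm⟩ := Ideal.exists_maximal T
  letI : Field (T ⧸ m) := Ideal.Quotient.field m
  let L' := T ⧸ m
  haveI : FiniteDimensional KS L' := Module.Finite.of_surjective
    (Ideal.Quotient.mkₐ KS m).toLinearMap (Ideal.Quotient.mkₐ_surjective KS m)
  have h1 : Module.Finite S (integralClosure S L') := hS L' inferInstance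
  let ψ : L →ₐ[R] L' :=
    ((Ideal.Quotient.mkₐ K m).comp Algebra.TensorProduct.includeRight).restrictScalars R
  have hψ : Function.Injective ψ := (ψ : L →+* L').injective
  haveI : Module.Finite R (integralClosure S L') := Module.Finite.trans S _
  haveI : IsNoetherian R (integralClosure S L') := isNoetherian_of_isNoetherianRing_of_finite R _
  let g : integralClosure R L →ₗ[R] integralClosure S L' :=
    { toFun := fun a => ⟨ψ a, (a.2.map ψ).tower_top⟩
      map_add' := fun a b => Subtype.ext (by simp)
      map_smul' := fun r a => Subtype.ext (by simp) }
  have hg : Function.Injective g := by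
    intro a b hab
    apply Subtype.ext
    exact hψ (congrArg Subtype.val hab)
  exact Module.Finite.of_injective g hg

end Groth.Agent.Lib.Helper88
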