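import Groth.Prelude.Def_Found
import Groth.Agent.Lib.Helper88.Japanese3
import Groth.Agent.S2291
import Mathlib

/-!
# Tate's lemma (Stacks 032P): core argument

`R` a Noetherian domain, `x ∈ R` a nonzero prime element with `R` complete w.r.t. `xR` and `R/xR`
N-2.  Let `L` be a field containing `R` of "finite rank" such that the `q`-th power of every
element of `L` integral over `R` lies in `R`, and which contains a `q`-th root `y` of `x`.
Then the integral closure of `R` in `L` is a finite `R`-module.
-/

universe u

namespace Groth.Agent.Lib.Helper88.Tate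

open CAlg

/-- linear independence lifts from `S/yS` over `R/xR` to `L` over `R` -/
theorem linearIndependent_of_quotient {R : Type*} [CommRing R] [IsDomain R] [IsNoetherianRing R]
    {L : Type*} [Field L] [Algebra R L] (hinj : Function.Injective (algebraMap R L))
    (x : R) (hx0 : x ≠ 0) (hxtop : Ideal.span ({x} : Set R) ≠ ⊤)
    {ι : Type*} [Fintype ι] (a : ι → L)
    (hmod : ∀ d : ι → R, ∑ i, d i • a i = 0 → ∀ i, d i ∈ Ideal.span ({x} : Set R)) :
    LinearIndependent R a := by
  classical
  rw [Fintype.linearIndependent_iff]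
  intro c hc
  have key : ∀ n : ℕ, ∀ c : ι → R, ∑ i, c i • a i = 0 → ∀ i, c i ∈ Ideal.span ({x} : Set R) ^ n := by
    intro n
    induction n with
    | zero => intro c _ i; simp
    | succ n ih =>
      intro c hc i
      have h1 := ih c hc
      have h2 : ∀ i, ∃ d : R, c i = x ^ n * d := by
        intro i
        have := h1 i
        rw [Ideal.span_singleton_pow, Ideal.mem_span_singleton'] at this
        obtain ⟨d, hd⟩ := this
        exact ⟨d, by rw [← hd, mul_comm]⟩
      choose d hd using h2
      have h3 : ∑ i, d i • a i = 0 := by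
        have h4 : (x ^ n) • ∑ i, d i • a i = 0 := by
          rw [Finset.smul_sum, ← hc]
          apply Finset.sum_congr rfl
          intro i _
          rw [smul_smul, ← hd i]
        rw [Algebra.smul_def] at h4
        rcases mul_eq_zero.mp h4 with h | h
        · exfalso
          rw [map_eq_zero_iff _ hinj] at h
          exact hx0 (pow_eq_zero_iff (by
            intro hn; subst hn; simp at h) |>.mp h)
        · exact h
      have h5 := hmod d h3 i
      rw [hd i, pow_succ]
      exact Ideal.mul_mem_mul (Ideal.pow_mem_pow (Ideal.mem_span_singleton_self x) n) h5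
  intro i
  have h1 : c i ∈ ⨅ n : ℕ, Ideal.span ({x} : Set R) ^ n := by
    rw [Ideal.mem_iInf]
    intro n
    exact key n c hc i
  rw [Ideal.iInf_pow_eq_bot_of_isDomain _ hxtop] at h1
  exact h1

/-- Step 3 of Tate's lemma, isolated: `S/yS` is a finite `R`-module. -/
theorem exists_finset_span_sup {R : Type u} [CommRing R] [IsDomain R] [IsNoetherianRing R]
    {L : Type u} [Field L] [Algebra R L] (hinj : Function.Injective (algebraMap R L))
    (x : R) (hx0 : x ≠ 0) [hxp : (Ideal.span ({x} : Set R)).IsPrime]
    (h2 : IsN2' (R ⧸ Ideal.span ({x} : Set R)))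
    (q : ℕ) (hq0 : 0 < q)
    (φ : integralClosure R L → R) (hφ : ∀ a : integralClosure R L, algebraMap R L (φ a) = (a : L) ^ q)
    (yS : integralClosure R L) (hy : (yS : L) ^ q = algebraMap R L x)
    (n : ℕ) (hrank : ∀ (k : ℕ) (a : Fin k → L), LinearIndependent R a → k ≤ n) :
    ∃ G : Finset (integralClosure R L), ∀ a : integralClosure R L,
      ∃ g ∈ Submodule.span R (G : Set (integralClosure R L)), ∃ b : integralClosure R L,
        a = g + yS * b := by
  classical
  have hxtop : Ideal.span ({x} : Set R) ≠ ⊤ := hxp.ne_top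
  have hy0 : (yS : L) ≠ 0 := by
    intro h
    rw [h, zero_pow hq0.ne'] at hy
    exact hx0 ((map_eq_zero_iff _ hinj).mp hy.symm)
  -- multiplicativity of `φ`
  have hφmul : ∀ a b : integralClosure R L, φ (a * b) = φ a * φ b := by
    intro a b
    apply hinj
    rw [hφ, map_mul, hφ, hφ]
    push_cast
    rw [mul_pow]
  have hφone : φ 1 = 1 := by
    apply hinj
    rw [hφ, map_one]
    simp
  have hφalg : ∀ r : R, φ (algebraMap R (integralClosure R L) r) = r ^ q := by
    intro r
    apply hinj
    rw [hφ, map_pow]
    rfl
  have hpowS : ∀ a : integralClosure R L, a ^ q = algebraMap R (integralClosure R L) (φ a) := by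
    intro a
    apply Subtype.ext
    rw [Subalgebra.coe_pow, ← hφ]
    rfl
  -- the prime ideal `P = yS`
  let P : Ideal (integralClosure R L) := Ideal.span {yS}
  have hP : ∀ a : integralClosure R L, a ∈ P ↔ φ a ∈ Ideal.span ({x} : Set R) := by
    intro a
    constructor
    · intro ha
      obtain ⟨b, hb⟩ := Ideal.mem_span_singleton'.mp ha
      rw [← hb, hφmul]
      have : φ yS = x := by
        apply hinj
        rw [hφ, hy]
      rw [this]
      exact Ideal.mul_mem_left _ _ (Ideal.mem_span_singleton_self x)
    · intro ha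
      obtain ⟨r, hr⟩ := Ideal.mem_span_singleton'.mp ha
      have hb : ((a : L) / (yS : L)) ^ q = algebraMap R L r := by
        rw [div_pow, ← hφ, ← hr, hy, map_mul, mul_div_assoc, div_self, mul_one]
        rw [Ne, map_eq_zero_iff _ hinj]
        exact hx0
      have hbint : IsIntegral R ((a : L) / (yS : L)) :=
        ⟨Polynomial.X ^ q - Polynomial.C r, Polynomial.monic_X_pow_sub_C r hq0.ne', by
          simp [hb]⟩
      apply Ideal.mem_span_singleton'.mpr
      refine ⟨⟨(a : L) / (yS : L), hbint⟩, ?_⟩
      apply Subtype.ext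
      change (a : L) / (yS : L) * (yS : L) = (a : L)
      rw [div_mul_cancel₀ _ hy0]
  haveI hPprime : P.IsPrime := by
    rw [Ideal.isPrime_iff]
    constructor
    · intro htop
      have : (1 : integralClosure R L) ∈ P := by rw [htop]; exact Submodule.mem_top
      rw [hP, hφone] at this
      exact hxtop ((Ideal.eq_top_iff_one _).mpr this)
    · intro a b hab
      rw [hP, hφmul] at hab
      rcases hxp.mem_or_mem hab with h | h
      · exact Or.inl ((hP a).mpr h)
      · exact Or.inr ((hP b).mpr h)
  -- the map `R/xR → S/yS`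
  have hle : Ideal.span ({x} : Set R) ≤ P.comap (algebraMap R (integralClosure R L)) := by
    rw [Ideal.span_le]
    intro z hz
    rw [Set.mem_singleton_iff.mp hz]
    change algebraMap R (integralClosure R L) x ∈ P
    rw [hP, hφalg]
    exact Ideal.pow_mem_of_mem _ (Ideal.mem_span_singleton_self x) q hq0
  let ψ : R ⧸ Ideal.span ({x} : Set R) →+* integralClosure R L ⧸ P :=
    Ideal.quotientMap P (algebraMap R (integralClosure R L)) hle
  have hψinj : Function.Injective ψ := by
    apply Ideal.quotientMap_injective'
    intro r hr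
    have hr' : algebraMap R (integralClosure R L) r ∈ P := hr
    rw [hP, hφalg] at hr'
    exact hxp.mem_of_pow_mem q hr'
  letI algRS : Algebra (R ⧸ Ideal.span ({x} : Set R)) (integralClosure R L ⧸ P) := ψ.toAlgebra
  haveI : IsScalarTower R (R ⧸ Ideal.span ({x} : Set R)) (integralClosure R L ⧸ P) :=
    IsScalarTower.of_algebraMap_eq (fun r => rfl)
  -- `q`-th powers in `S/yS` come from `R/xR`
  have hpowbar : ∀ t : integralClosure R L ⧸ P, ∃ r : R ⧸ Ideal.span ({x} : Set R),
      t ^ q = ψ r := by
    intro t
    obtain ⟨a, rfl⟩ := Ideal.Quotient.mk_surjective t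
    refine ⟨Ideal.Quotient.mk _ (φ a), ?_⟩
    rw [← map_pow, hpowS]
    rfl
  -- the field `E`
  haveI : IsScalarTower (R ⧸ Ideal.span ({x} : Set R)) (integralClosure R L ⧸ P)
      (FractionRing (integralClosure R L ⧸ P)) := inferInstance
  have hinjE : Function.Injective (algebraMap (R ⧸ Ideal.span ({x} : Set R))
      (FractionRing (integralClosure R L ⧸ P))) := by
    rw [IsScalarTower.algebraMap_eq (R ⧸ Ideal.span ({x} : Set R)) (integralClosure R L ⧸ P)
      (FractionRing (integralClosure R L ⧸ P))]
    exact (IsFractionRing.injective (integralClosure R L ⧸ P)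
      (FractionRing (integralClosure R L ⧸ P))).comp hψinj
  haveI : FaithfulSMul (R ⧸ Ideal.span ({x} : Set R))
      (FractionRing (integralClosure R L ⧸ P)) :=
    (faithfulSMul_iff_algebraMap_injective _ _).mpr hinjE
  letI algKE : Algebra (FractionRing (R ⧸ Ideal.span ({x} : Set R)))
      (FractionRing (integralClosure R L ⧸ P)) := FractionRing.liftAlgebra _ _
  haveI : IsScalarTower (R ⧸ Ideal.span ({x} : Set R))
      (FractionRing (R ⧸ Ideal.span ({x} : Set R)))
      (FractionRing (integralClosure R L ⧸ P)) := FractionRing.isScalarTower_liftAlgebra _ _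
  -- (f) every element of `E` is a scalar multiple of an element of `S/yS`
  have hspanE : ∀ e : (FractionRing (integralClosure R L ⧸ P)), ∃ (lam : (FractionRing (R ⧸ Ideal.span ({x} : Set R)))) (t : (integralClosure R L ⧸ P)), lam ≠ 0 ∧ e = lam • algebraMap (integralClosure R L ⧸ P) (FractionRing (integralClosure R L ⧸ P)) t := by
    intro e
    obtain ⟨a', b', hb', rfl⟩ := IsFractionRing.div_surjective (A := (integralClosure R L ⧸ P)) e
    have hb0 : b' ≠ 0 := nonZeroDivisors.ne_zero hb'
    obtain ⟨r, hr⟩ := hpowbar b'
    have hr0 : r ≠ 0 := by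
      intro h
      rw [h, map_zero] at hr
      exact hb0 (pow_eq_zero_iff hq0.ne' |>.mp hr)
    have hrK : algebraMap (R ⧸ Ideal.span ({x} : Set R)) (FractionRing (R ⧸ Ideal.span ({x} : Set R))) r ≠ 0 := by
      rw [Ne, map_eq_zero_iff _ (IsFractionRing.injective (R ⧸ Ideal.span ({x} : Set R)) (FractionRing (R ⧸ Ideal.span ({x} : Set R))))]
      exact hr0
    refine ⟨(algebraMap (R ⧸ Ideal.span ({x} : Set R)) (FractionRing (R ⧸ Ideal.span ({x} : Set R))) r)⁻¹, a' * b' ^ (q - 1), inv_ne_zero hrK, ?_⟩
    have hbE : algebraMap (integralClosure R L ⧸ P) (FractionRing (integralClosure R L ⧸ P)) b' ≠ 0 := by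
      rw [Ne, map_eq_zero_iff _ (IsFractionRing.injective (integralClosure R L ⧸ P) (FractionRing (integralClosure R L ⧸ P)))]
      exact hb0
    have h1 : algebraMap (integralClosure R L ⧸ P) (FractionRing (integralClosure R L ⧸ P)) b' ^ q = algebraMap (FractionRing (R ⧸ Ideal.span ({x} : Set R))) (FractionRing (integralClosure R L ⧸ P)) (algebraMap (R ⧸ Ideal.span ({x} : Set R)) (FractionRing (R ⧸ Ideal.span ({x} : Set R))) r) := by
      rw [← map_pow, hr, ← IsScalarTower.algebraMap_apply (R ⧸ Ideal.span ({x} : Set R)) (FractionRing (R ⧸ Ideal.span ({x} : Set R))) (FractionRing (integralClosure R L ⧸ P)),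
        IsScalarTower.algebraMap_apply (R ⧸ Ideal.span ({x} : Set R)) (integralClosure R L ⧸ P) (FractionRing (integralClosure R L ⧸ P))]
      rfl
    have hrE : algebraMap (FractionRing (R ⧸ Ideal.span ({x} : Set R))) (FractionRing (integralClosure R L ⧸ P)) (algebraMap (R ⧸ Ideal.span ({x} : Set R)) (FractionRing (R ⧸ Ideal.span ({x} : Set R))) r) ≠ 0 := by
      rw [← h1]; exact pow_ne_zero _ hbE
    rw [Algebra.smul_def, map_inv₀, map_mul, map_pow, ← h1]
    have : algebraMap (integralClosure R L ⧸ P) (FractionRing (integralClosure R L ⧸ P)) b' ^ q = algebraMap (integralClosure R L ⧸ P) (FractionRing (integralClosure R L ⧸ P)) b' ^ (q - 1) * algebraMap (integralClosure R L ⧸ P) (FractionRing (integralClosure R L ⧸ P)) b' := by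
      rw [← pow_succ, Nat.sub_add_cancel hq0]
    rw [this]
    field_simp
  -- (g) `E` is finite dimensional over `κ`
  have hfinE : FiniteDimensional (FractionRing (R ⧸ Ideal.span ({x} : Set R))) (FractionRing (integralClosure R L ⧸ P)) := by
    have hrk : Module.rank (FractionRing (R ⧸ Ideal.span ({x} : Set R))) (FractionRing (integralClosure R L ⧸ P)) ≤ n := by
      apply rank_le
      intro s hs
      -- choose representatives
      have hch : ∀ i : s, ∃ (lam : (FractionRing (R ⧸ Ideal.span ({x} : Set R)))) (a : integralClosure R L), lam ≠ 0 ∧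
          (i : (FractionRing (integralClosure R L ⧸ P))) = lam • algebraMap (integralClosure R L ⧸ P) (FractionRing (integralClosure R L ⧸ P)) (Ideal.Quotient.mk P a) := by
        intro i
        obtain ⟨lam, t, hl, ht⟩ := hspanE (i : (FractionRing (integralClosure R L ⧸ P)))
        obtain ⟨a, rfl⟩ := Ideal.Quotient.mk_surjective t
        exact ⟨lam, a, hl, ht⟩
      choose lam a hlam ha using hch
      -- the rescaled family is linearly independent over `κ`
      have hv : LinearIndependent (FractionRing (R ⧸ Ideal.span ({x} : Set R))) (fun i : s => algebraMap (integralClosure R L ⧸ P) (FractionRing (integralClosure R L ⧸ P)) (Ideal.Quotient.mk P (a i))) := by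
        have h1 := hs.units_smul (fun i => (Units.mk0 (lam i) (hlam i))⁻¹)
        convert h1 using 1
        ext i
        simp only [Pi.smul_apply', Units.smul_def, Units.val_inv_eq_inv_val, Units.val_mk0]
        rw [ha i, smul_smul, inv_mul_cancel₀ (hlam i), one_smul]
      have hv' : LinearIndependent (R ⧸ Ideal.span ({x} : Set R))
          (fun i : s => algebraMap (integralClosure R L ⧸ P) (FractionRing (integralClosure R L ⧸ P)) (Ideal.Quotient.mk P (a i))) := by
        apply hv.restrict_scalars
        intro r1 r2 h
        simp only [Algebra.smul_def, mul_one] at h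
        exact IsFractionRing.injective (R ⧸ Ideal.span ({x} : Set R)) (FractionRing (R ⧸ Ideal.span ({x} : Set R))) h
      -- lift to `L`
      have hLI : LinearIndependent R (fun i : s => ((a i : integralClosure R L) : L)) := by
        apply linearIndependent_of_quotient hinj x hx0 hxtop
        intro d hd
        have hd' : ∑ i, d i • a i = 0 := by
          apply Subtype.ext
          have hcoe : ((∑ i, d i • a i : integralClosure R L) : L) = ∑ i, d i • (a i : L) := by
            simp
          rw [hcoe, hd]
          rfl
        have h2 : ∑ i, (Ideal.Quotient.mk (Ideal.span ({x} : Set R)) (d i)) •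
            algebraMap (integralClosure R L ⧸ P) (FractionRing (integralClosure R L ⧸ P)) (Ideal.Quotient.mk P (a i)) = 0 := by
          have h3 := congrArg (fun z => algebraMap (integralClosure R L ⧸ P) (FractionRing (integralClosure R L ⧸ P)) (Ideal.Quotient.mk P z)) hd'
          simp only [map_sum, map_zero] at h3
          rw [← h3]
          apply Finset.sum_congr rfl
          intro i _
          rw [Algebra.smul_def, Algebra.smul_def, map_mul, map_mul,
            IsScalarTower.algebraMap_apply (R ⧸ Ideal.span ({x} : Set R)) (integralClosure R L ⧸ P) (FractionRing (integralClosure R L ⧸ P))]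
          rfl
        intro i
        have h4 := (Fintype.linearIndependent_iff.mp hv') _ h2 i
        exact Ideal.Quotient.eq_zero_iff_mem.mp h4
      have h5 := hrank s.card (fun j => ((a (s.equivFin.symm j) : integralClosure R L) : L))
        (hLI.comp _ s.equivFin.symm.injective)
      exact h5
    exact Module.rank_lt_aleph0_iff.mp (lt_of_le_of_lt hrk (Cardinal.natCast_lt_aleph0))
  -- (h) N-2
  have hfinI : Module.Finite (R ⧸ Ideal.span ({x} : Set R)) (integralClosure (R ⧸ Ideal.span ({x} : Set R)) (FractionRing (integralClosure R L ⧸ P))) := h2 (FractionRing (R ⧸ Ideal.span ({x} : Set R))) (FractionRing (integralClosure R L ⧸ P)) hfinE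
  -- (i) `S/yS` is finite over `R/xR`
  have hintbar : ∀ t : (integralClosure R L ⧸ P), IsIntegral (R ⧸ Ideal.span ({x} : Set R)) t := by
    intro t
    obtain ⟨r, hr⟩ := hpowbar t
    exact ⟨Polynomial.X ^ q - Polynomial.C r, Polynomial.monic_X_pow_sub_C r hq0.ne', by
      simp [hr]; exact sub_eq_zero.mpr rfl⟩
  let f : (integralClosure R L ⧸ P) →ₗ[(R ⧸ Ideal.span ({x} : Set R))] integralClosure (R ⧸ Ideal.span ({x} : Set R)) (FractionRing (integralClosure R L ⧸ P)) :=
    { toFun := fun t => ⟨algebraMap (integralClosure R L ⧸ P) (FractionRing (integralClosure R L ⧸ P)) t, (hintbar t).algebraMap⟩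
      map_add' := fun t1 t2 => by apply Subtype.ext; simp
      map_smul' := fun r t => by
        apply Subtype.ext
        simp [Algebra.smul_def, IsScalarTower.algebraMap_apply (R ⧸ Ideal.span ({x} : Set R)) (integralClosure R L ⧸ P) (FractionRing (integralClosure R L ⧸ P))] }
  have hfinj : Function.Injective f := by
    intro t1 t2 h
    have := congrArg Subtype.val h
    exact IsFractionRing.injective (integralClosure R L ⧸ P) (FractionRing (integralClosure R L ⧸ P)) this
  haveI : Module.Finite (R ⧸ Ideal.span ({x} : Set R)) (integralClosure R L ⧸ P) := Module.Finite.of_injective f hfinj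
  haveI : Module.Finite R (integralClosure R L ⧸ P) := Module.Finite.trans (R ⧸ Ideal.span ({x} : Set R)) (integralClosure R L ⧸ P)
  -- (k) lift generators
  obtain ⟨T, hT⟩ := (Module.finite_def.mp (inferInstance : Module.Finite R (integralClosure R L ⧸ P)))
  have hlift : ∀ t : (integralClosure R L ⧸ P), ∃ a : integralClosure R L, Ideal.Quotient.mk P a = t :=
    Ideal.Quotient.mk_surjective
  choose lift hliftspec using hlift
  refine ⟨T.image lift, ?_⟩
  intro a
  let π : integralClosure R L →ₗ[R] (integralClosure R L ⧸ P) := (Ideal.Quotient.mkₐ R P).toLinearMap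
  have h1 : π a ∈ Submodule.span R (T : Set (integralClosure R L ⧸ P)) := by rw [hT]; exact Submodule.mem_top
  have h2' : (T : Set (integralClosure R L ⧸ P)) = π '' (T.image lift : Set (integralClosure R L)) := by
    ext t
    simp only [Finset.coe_image, Set.mem_image, Finset.mem_coe]
    constructor
    · intro ht
      exact ⟨lift t, ⟨t, ht, rfl⟩, hliftspec t⟩
    · rintro ⟨_, ⟨t', ht', rfl⟩, rfl⟩
      have : π (lift t') = t' := hliftspec t'
      rw [this]; exact ht'
  rw [h2', ← Submodule.map_span] at h1
  obtain ⟨g, hg, hga⟩ := h1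
  have h3 : a - g ∈ P := by
    rw [← Ideal.Quotient.eq]
    exact hga.symm
  obtain ⟨b, hb⟩ := Ideal.mem_span_singleton'.mp h3
  exact ⟨g, hg, b, by rw [mul_comm, hb]; ring⟩

/-- **Tate's lemma, core.** -/
theorem finite_integralClosure_core {R : Type u} [CommRing R] [IsDomain R] [IsNoetherianRing R]
    {L : Type u} [Field L] [Algebra R L] (hinj : Function.Injective (algebraMap R L))
    (x : R) (hx0 : x ≠ 0) [hxp : (Ideal.span ({x} : Set R)).IsPrime]
    [IsAdicComplete (Ideal.span ({x} : Set R)) R]
    (h2 : IsN2' (R ⧸ Ideal.span ({x} : Set R)))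
    (q : ℕ) (hq0 : 0 < q)
    (hLq : ∀ a : L, IsIntegral R a → ∃ r : R, algebraMap R L r = a ^ q)
    (y : L) (hy : y ^ q = algebraMap R L x)
    (n : ℕ) (hrank : ∀ (k : ℕ) (a : Fin k → L), LinearIndependent R a → k ≤ n) :
    Module.Finite R (integralClosure R L) := by
  classical
  have hxtop : Ideal.span ({x} : Set R) ≠ ⊤ := hxp.ne_top
  -- the `q`-th power map
  choose φ hφ using fun a : integralClosure R L => hLq (a : L) a.2
  have hyint : IsIntegral R y :=
    ⟨Polynomial.X ^ q - Polynomial.C x, Polynomial.monic_X_pow_sub_C x hq0.ne', by simp [hy]⟩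
  let yS : integralClosure R L := ⟨y, hyint⟩
  -- Hausdorff
  have hHaus : IsHausdorff (Ideal.span ({x} : Set R)) (integralClosure R L) := by
    constructor
    intro a ha
    have h1 : ∀ k : ℕ, φ a ∈ Ideal.span ({x} : Set R) ^ k := by
      intro k
      have h2 := ha k
      rw [SModEq.zero, Ideal.span_singleton_pow, Submodule.ideal_span_singleton_smul] at h2
      obtain ⟨b, -, hb⟩ := h2
      have hb' : (a : L) = algebraMap R L (x ^ k) * (b : L) := by
        rw [← hb]; simp [Algebra.smul_def]
      have h3 : algebraMap R L (φ a) = algebraMap R L ((x ^ k) ^ q * φ b) := by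
        rw [hφ, hb', mul_pow, map_mul, hφ, map_pow, map_pow, map_pow]
      have h4 := hinj h3
      rw [h4, Ideal.span_singleton_pow, Ideal.mem_span_singleton']
      refine ⟨(x ^ k) ^ (q - 1) * φ b, ?_⟩
      have : (x ^ k) ^ q = (x ^ k) ^ (q - 1) * x ^ k := by
        rw [← pow_succ, Nat.sub_add_cancel hq0]
      rw [this]; ring
    have h5 : φ a ∈ ⨅ k : ℕ, Ideal.span ({x} : Set R) ^ k := by
      rw [Ideal.mem_iInf]; exact h1
    rw [Ideal.iInf_pow_eq_bot_of_isDomain _ hxtop] at h5
    have h6 : (a : L) ^ q = 0 := by rw [← hφ, h5, map_zero]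
    exact Subtype.ext (pow_eq_zero_iff hq0.ne' |>.mp h6)
  -- Step 3
  obtain ⟨G1, hG1⟩ := exists_finset_span_sup hinj x hx0 h2 q hq0 φ hφ yS hy n hrank
  -- Step 4: induction
  have hstep : ∀ i : ℕ, ∃ G : Finset (integralClosure R L), ∀ a : integralClosure R L,
      ∃ g ∈ Submodule.span R (G : Set (integralClosure R L)), ∃ b : integralClosure R L,
        a = g + yS ^ i * b := by
    intro i
    induction i with
    | zero => exact ⟨∅, fun a => ⟨0, Submodule.zero_mem _, a, by simp⟩⟩
    | succ i ih =>
      obtain ⟨G, hG⟩ := ih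
      refine ⟨G ∪ G1.image (fun g => yS ^ i * g), ?_⟩
      intro a
      obtain ⟨g, hg, b, hab⟩ := hG a
      obtain ⟨g', hg', b', hb'⟩ := hG1 b
      refine ⟨g + yS ^ i * g', ?_, b', ?_⟩
      · apply Submodule.add_mem
        · exact Submodule.span_mono (by simp) hg
        · have hmap : yS ^ i * g' ∈ Submodule.span R
              ((fun g => yS ^ i * g) '' (G1 : Set (integralClosure R L))) := by
            have := Submodule.apply_mem_span_image_of_mem_span
              (LinearMap.mulLeft R (yS ^ i)) hg'
            simpa using this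
          refine Submodule.span_mono ?_ hmap
          intro z hz
          simp only [Finset.coe_union, Finset.coe_image, Set.mem_union]
          exact Or.inr hz
      · rw [hab, hb', pow_succ]; ring
  obtain ⟨G, hG⟩ := hstep q
  -- Step 5
  have hyq : yS ^ q = algebraMap R (integralClosure R L) x := by
    apply Subtype.ext
    simp [yS, hy]
  have he : (⊤ : Submodule R (integralClosure R L)) ≤
      Submodule.span R (Set.range (fun g : G => (g : integralClosure R L))) ⊔
        Ideal.span ({x} : Set R) • ⊤ := by
    intro a _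
    obtain ⟨g, hg, b, hab⟩ := hG a
    rw [hab]
    apply Submodule.add_mem_sup
    · have hr : (Set.range fun g : G => (g : integralClosure R L)) =
          (G : Set (integralClosure R L)) := Subtype.range_coe
      rw [hr]; exact hg
    · rw [hyq, ← Algebra.smul_def]
      exact Submodule.smul_mem_smul (Ideal.mem_span_singleton_self x) Submodule.mem_top
  have hsurj := Groth.Agent.S2291.surjective_linearCombination
    (IsAdicComplete.toIsPrecomplete (I := Ideal.span ({x} : Set R)) (M := R)) hHaus
    (fun g : G => (g : integralClosure R L)) he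
  exact Module.Finite.of_surjective _ hsurj

end Groth.Agent.Lib.Helper88.Tate
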