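import Mathlib

/-!
# A finite extension embeds in a tower (purely inseparable) then (separable)

For a finite field extension `L/K` there are fields `K ⊆ P ⊆ N` with `L ⊆ N`, `P/K` finite purely
inseparable and `N/P` finite separable: `N` is the normal closure and `P` the fixed field of
`Aut(N/K)`.
-/

universe u

namespace Groth.Agent.Lib.Helper88

open IntermediateField Polynomial

/-- The fixed field of the full automorphism group of a finite normal extension is purely
inseparable over the base. -/
theorem isPurelyInseparable_fixedField_top (K N : Type u) [Field K] [Field N] [Algebra K N]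
    [FiniteDimensional K N] [Normal K N] :
    IsPurelyInseparable K (IntermediateField.fixedField (⊤ : Subgroup (N ≃ₐ[K] N))) := by
  classical
  rw [isPurelyInseparable_iff_natSepDegree_eq_one]
  intro x
  have hx : ∀ σ : N ≃ₐ[K] N, σ (x : N) = x := fun σ =>
    (IntermediateField.mem_fixedField_iff _ _).mp x.2 σ (Subgroup.mem_top σ)
  have hmin : minpoly K x = minpoly K (x : N) := IntermediateField.minpoly_eq x
  rw [hmin]
  have hint : IsIntegral K (x : N) := Algebra.IsIntegral.isIntegral _
  have hsplit : ((minpoly K (x : N)).map (algebraMap K N)).Splits := Normal.splits inferInstance _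
  rw [natSepDegree_eq_of_splits _ hsplit]
  have : ((minpoly K (x : N)).aroots N).toFinset = {(x : N)} := by
    ext y
    simp only [Multiset.mem_toFinset, Finset.mem_singleton]
    constructor
    · intro hy
      have hy' : aeval y (minpoly K (x : N)) = 0 := (mem_aroots.mp hy).2
      obtain ⟨σ, hσ⟩ := minpoly.exists_algEquiv_of_root' hint.isAlgebraic hy'
      rw [← hσ, hx σ]
    · rintro rfl
      exact mem_aroots.mpr ⟨minpoly.ne_zero hint, minpoly.aeval K _⟩
  rw [this, Finset.card_singleton]

/-- Every finite extension `L/K` embeds into a finite tower `K ⊆ P ⊆ N` with `P/K` purely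
inseparable and `N/P` separable. -/
theorem exists_insep_sep_tower (K L : Type u) [Field K] [Field L] [Algebra K L]
    [FiniteDimensional K L] :
    ∃ (P N : Type u) (_ : Field P) (_ : Field N) (_ : Algebra K P) (_ : Algebra P N)
      (_ : Algebra K N) (_ : Algebra L N) (_ : IsScalarTower K P N) (_ : IsScalarTower K L N),
      FiniteDimensional K P ∧ IsPurelyInseparable K P ∧ FiniteDimensional P N ∧
        Algebra.IsSeparable P N := by
  let Ω := AlgebraicClosure L
  have : Algebra.IsAlgebraic K Ω := Algebra.IsAlgebraic.trans K L Ω
  have : Normal K Ω := normal_iff.mpr fun x =>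
    ⟨Algebra.IsIntegral.isIntegral x, IsAlgClosed.splits _⟩
  let N : IntermediateField K Ω := IntermediateField.normalClosure K L Ω
  have : Normal K N := normalClosure.normal K L Ω
  have : FiniteDimensional K N := normalClosure.is_finiteDimensional K L Ω
  let P : IntermediateField K N := IntermediateField.fixedField (⊤ : Subgroup (N ≃ₐ[K] N))
  have : IsGalois P N := IsGalois.of_fixed_field N (⊤ : Subgroup (N ≃ₐ[K] N))
  refine ⟨P, N, inferInstance, inferInstance, inferInstance, inferInstance, inferInstance,
    inferInstance, inferInstance, inferInstance, ?_, ?_, ?_, ?_⟩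
  · exact IntermediateField.finiteDimensional_left P
  · exact isPurelyInseparable_fixedField_top K N
  · exact IntermediateField.finiteDimensional_right P
  · infer_instance

end Groth.Agent.Lib.Helper88
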