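import Groth.Agent.Lib.Helper88.PowerSeriesNormal
import Groth.Agent.Lib.Helper88.Japanese12
import Groth.Agent.Lib.Helper88.Japanese8
import Groth.Agent.Lib.Helper88.Japanese10
import Groth.Agent.S0569
import Mathlib

/-!
# Power series rings over Noetherian N-2 domains are N-2 (Stacks 0332)
-/

universe u

namespace Groth.Agent.Lib.Helper88.PowerSeriesN2

open PowerSeries CAlg

theorem finite_powerSeries (R A : Type*) [CommRing R] [CommRing A] [Algebra R A]
    [Module.Finite R A] : Module.Finite R⟦X⟧ A⟦X⟧ := by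
  classical
  obtain ⟨s, hs⟩ := (Module.finite_def (R := R) (M := A)).mp inferInstance
  have h : ∀ a : A, ∃ c : A → R, a = ∑ i ∈ s, c i • i := by
    intro a
    have : a ∈ Submodule.span R (s : Set A) := by rw [hs]; trivial
    rw [Submodule.mem_span_finset] at this
    obtain ⟨c, -, hc⟩ := this
    exact ⟨c, hc.symm⟩
  refine ⟨s.image (C : A → A⟦X⟧), ?_⟩
  rw [eq_top_iff]
  intro f _
  choose c hc using fun n => h (coeff n f)
  have : f = ∑ i ∈ s, (PowerSeries.mk fun n => c n i) • (C i : A⟦X⟧) := by
    ext n
    rw [hc n, map_sum]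
    refine Finset.sum_congr rfl (fun i _ => ?_)
    rw [show ((PowerSeries.mk fun n => c n i) • (C i : A⟦X⟧)) =
      PowerSeries.map (algebraMap R A) (PowerSeries.mk fun n => c n i) * C i from rfl,
      PowerSeries.coeff_mul_C, PowerSeries.coeff_map, PowerSeries.coeff_mk, Algebra.smul_def]
  rw [this]
  refine Submodule.sum_mem _ (fun i hi => Submodule.smul_mem _ _ (Submodule.subset_span ?_))
  simp only [Finset.coe_image, Set.mem_image, Finset.mem_coe]
  exact ⟨i, hi, rfl⟩

/-- the normal case: Tate's lemma applied to `X`. -/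
theorem isN2_powerSeries_of_isIntegrallyClosed (R : Type u) [CommRing R] [IsDomain R]
    [IsNoetherianRing R] [IsIntegrallyClosed R] (h : CAlg.IsN2 R) : CAlg.IsN2 (PowerSeries R) := by
  haveI := PowerSeriesNormal.isIntegrallyClosed R
  haveI : (Ideal.span ({PowerSeries.X} : Set (PowerSeries R))).IsPrime :=
    PowerSeries.span_X_isPrime
  apply Groth.Agent.S0569.result (PowerSeries R) PowerSeries.X
  have hker : Ideal.span ({X} : Set R⟦X⟧) = RingHom.ker (constantCoeff (R := R)) := by
    apply Ideal.ext
    intro φ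
    rw [RingHom.mem_ker, Ideal.mem_span_singleton, X_dvd_iff]
  have hsurj : Function.Surjective (constantCoeff (R := R)) := fun r => ⟨C r, by simp⟩
  let e : (R⟦X⟧ ⧸ Ideal.span ({X} : Set R⟦X⟧)) ≃+* R :=
    (Ideal.quotEquivOfEq hker).trans (RingHom.quotientKerEquivOfSurjective hsurj)
  exact isN2_of_ringEquiv e.symm h

/-- **Stacks 0332**: `R` Noetherian N-2 domain implies `R⟦X⟧` N-2. -/
theorem isN2_powerSeries (R : Type u) [CommRing R] [IsDomain R] [IsNoetherianRing R]
    (h : CAlg.IsN2 R) : CAlg.IsN2 (PowerSeries R) := by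
  let K := FractionRing R
  let R' := integralClosure R K
  haveI hN1 : Module.Finite R R' := isN1_of_isN2 h
  haveI : IsNoetherianRing R' := IsNoetherianRing.of_finite R R'
  haveI : IsIntegrallyClosed R' := integralClosure.isIntegrallyClosedOfFiniteExtension K
  have hinj : Function.Injective (algebraMap R R') := by
    intro a b hab
    have := congrArg (Subtype.val) hab
    exact IsFractionRing.injective R K this
  have h' : CAlg.IsN2 R' := isN2_of_finite_extension R R' hinj h
  have h'' : CAlg.IsN2 (PowerSeries R') := isN2_powerSeries_of_isIntegrallyClosed R' h'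
  haveI : Module.Finite R⟦X⟧ R'⟦X⟧ := finite_powerSeries R R'
  exact isN2_of_finite_extension_down R⟦X⟧ R'⟦X⟧ (PowerSeries.map_injective _ hinj) h''

end Groth.Agent.Lib.Helper88.PowerSeriesN2
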