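import Groth.Prelude.Def_Found
import Groth.Agent.Lib.Helper88.CohenStruct2
import Groth.Agent.Lib.Helper88.Japanese8
import Groth.Agent.Lib.Helper83.CompleteNoeth
import Groth.Agent.S4563
import Mathlib

/-!
# Complete Noetherian local rings are Nagata (Stacks 032W)
-/

universe u

namespace Groth.Agent.Lib.Helper88.CohenNagata

open IsLocalRing CAlg

/-- a field is N-2 -/
theorem isN2_of_isField (k : Type u) [Field k] : CAlg.IsN2 k := by
  intro L _ _ _ _ hfin
  haveI : Module.Finite k (FractionRing k) :=
    Module.Finite.equiv (FractionRing.algEquiv k k).symm.toLinearEquiv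
  haveI : Module.Finite k L := Module.Finite.trans (FractionRing k) L
  exact Module.Finite.of_injective (Subalgebra.toSubmodule (integralClosure k L)).subtype
    Subtype.val_injective

/-- a Noetherian normal domain of characteristic zero is N-2 -/
theorem isN2_of_charZero (A : Type u) [CommRing A] [IsDomain A] [IsNoetherianRing A]
    [IsIntegrallyClosed A] [CharZero A] : CAlg.IsN2 A := by
  intro L _ _ _ _ hfin
  haveI : CharZero (FractionRing A) :=
    charZero_of_injective_algebraMap (IsFractionRing.injective A (FractionRing A))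
  haveI : Algebra.IsSeparable (FractionRing A) L := Algebra.IsSeparable.of_integral _ _
  exact IsIntegralClosure.finite A (FractionRing A) L (integralClosure A L)

/-- **Nagata**: a complete Noetherian local domain is N-2. -/
theorem isN2_of_complete (R : Type u) [CommRing R] [IsDomain R] [IsLocalRing R]
    [IsNoetherianRing R] [IsAdicComplete (maximalIdeal R) R] : CAlg.IsN2 R := by
  obtain ⟨Λ, _, n, f, hΛ, hinj, hfin, -⟩ := CohenStruct2.exists_finite_injective R
  have hA : ∃ (_ : IsDomain (MvPowerSeries (Fin n) Λ)), CAlg.IsN2 (MvPowerSeries (Fin n) Λ) := by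
    rcases hΛ with hfield | ⟨⟨hdom, hdvr, -, -⟩, hchar⟩
    · letI : Field Λ := hfield.toField
      haveI : IsDomain (MvPowerSeries (Fin n) Λ) := NoZeroDivisors.to_isDomain _
      exact ⟨inferInstance, Groth.Agent.S4563.result (isN2_of_isField Λ) n⟩
    · haveI : IsDomain (MvPowerSeries (Fin n) Λ) := NoZeroDivisors.to_isDomain _
      exact ⟨inferInstance, Groth.Agent.S4563.result (isN2_of_charZero Λ) n⟩
  obtain ⟨hdomA, hN2A⟩ := hA
  letI : Algebra (MvPowerSeries (Fin n) Λ) R := f.toAlgebra
  haveI : Module.Finite (MvPowerSeries (Fin n) Λ) R := hfin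
  exact isN2_of_finite_extension (MvPowerSeries (Fin n) Λ) R hinj hN2A

/-- **Stacks 032W**: a complete Noetherian local ring is Nagata. -/
theorem isNagata_of_complete (R : Type u) [CommRing R] [IsLocalRing R]
    [IsNoetherianRing R] [IsAdicComplete (maximalIdeal R) R] : CAlg.IsNagata R := by
  refine ⟨inferInstance, ?_⟩
  intro 𝔭 h𝔭
  haveI : IsLocalRing (R ⧸ 𝔭) :=
    IsLocalRing.of_surjective' (Ideal.Quotient.mk 𝔭) Ideal.Quotient.mk_surjective
  have hmax : ((maximalIdeal R).map (Ideal.Quotient.mk 𝔭)).IsMaximal :=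
    Ideal.IsMaximal.map_of_surjective_of_ker_le Ideal.Quotient.mk_surjective (by
      rw [Ideal.mk_ker]
      exact IsLocalRing.le_maximalIdeal h𝔭.ne_top)
  have heq : maximalIdeal (R ⧸ 𝔭) = (maximalIdeal R).map (Ideal.Quotient.mk 𝔭) :=
    (IsLocalRing.eq_maximalIdeal hmax).symm
  haveI : IsAdicComplete (maximalIdeal (R ⧸ 𝔭)) (R ⧸ 𝔭) := by
    rw [heq]
    exact Groth.Agent.Lib.Helper83.isAdicComplete_quotient_of_isNoetherianRing _ 𝔭
  exact isN2_of_complete (R ⧸ 𝔭)

end Groth.Agent.Lib.Helper88.CohenNagata
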