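import Groth.Prelude.Def_Found
import Groth.Agent.Lib.Helper88.CohenNagata
import Groth.Agent.S0543
import Mathlib

/-!
# Analytically unramified local domains (EGA 0_IV 23.1.6, Stacks 0330)
-/

universe u

namespace Groth.Agent.Lib.Helper88.AnUnram

open IsLocalRing CAlg TensorProduct

section Artinian

/-- in a reduced Noetherian ring a prime ideal consisting of zero divisors is a minimal prime -/
theorem mem_minimalPrimes_of_disjoint_nonZeroDivisors (S : Type*) [CommRing S]
    [IsNoetherianRing S] [IsReduced S] (p : Ideal S) [hp : p.IsPrime]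
    (hd : Disjoint (nonZeroDivisors S : Set S) (p : Set S)) : p ∈ minimalPrimes S := by
  classical
  have hfin := minimalPrimes.finite_of_isNoetherianRing S
  have hsub : (p : Set S) ⊆ ⋃ q ∈ (hfin.toFinset : Set (Ideal S)), (id q : Ideal S) := by
    intro x hx
    have hx' : x ∉ nonZeroDivisors S := fun h => Set.disjoint_left.mp hd h hx
    rw [mem_nonZeroDivisors_iff_right] at hx'
    push_neg at hx'
    obtain ⟨y, hxy, hy⟩ := hx'
    have hy' : y ∉ sInf (minimalPrimes S) := by
      rw [minimalPrimes, Ideal.sInf_minimalPrimes]
      change y ∉ nilradical S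
      rw [nilradical_eq_zero]
      exact hy
    rw [Ideal.mem_sInf] at hy'
    push_neg at hy'
    obtain ⟨q, hq, hyq⟩ := hy'
    have hxq : x ∈ q := by
      have := hq.1.1
      rcases this.mem_or_mem (show x * y ∈ q by rw [mul_comm, hxy]; exact q.zero_mem) with h | h
      · exact h
      · exact absurd h hyq
    simp only [Set.mem_iUnion, Finset.mem_coe, Set.Finite.mem_toFinset, id]
    exact ⟨q, hq, hxq⟩
  obtain ⟨q, hq, hpq⟩ := (Ideal.subset_union_prime (R := S) (s := hfin.toFinset) (f := id) ⊥ ⊥
    (fun i hi _ _ => ((hfin.mem_toFinset).mp hi).1.1)).mp hsub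
  have hq' : q ∈ minimalPrimes S := (hfin.mem_toFinset).mp hq
  have hqp : q ≤ p := hq'.2 ⟨hp, bot_le⟩ hpq
  have : p = q := le_antisymm hpq hqp
  rw [this]
  exact hq'

/-- the total ring of fractions of a reduced Noetherian ring is Artinian -/
theorem isArtinianRing_of_isFractionRing (S Q : Type*) [CommRing S] [IsNoetherianRing S]
    [IsReduced S] [CommRing Q] [Algebra S Q] [IsFractionRing S Q] : IsArtinianRing Q := by
  haveI : IsNoetherianRing Q := IsLocalization.isNoetherianRing (nonZeroDivisors S) Q inferInstance
  rw [isArtinianRing_iff_krullDimLE_zero, Ring.krullDimLE_zero_iff]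
  intro P hP
  obtain ⟨M, hM, hPM⟩ := Ideal.exists_le_maximal P hP.ne_top
  have h1 := (IsLocalization.isPrime_iff_isPrime_disjoint (nonZeroDivisors S) Q P).mp hP
  have h2 := (IsLocalization.isPrime_iff_isPrime_disjoint (nonZeroDivisors S) Q M).mp hM.isPrime
  haveI := h1.1
  haveI := h2.1
  have hp := mem_minimalPrimes_of_disjoint_nonZeroDivisors S (P.comap (algebraMap S Q)) h1.2
  have hm := mem_minimalPrimes_of_disjoint_nonZeroDivisors S (M.comap (algebraMap S Q)) h2.2
  have hle : P.comap (algebraMap S Q) ≤ M.comap (algebraMap S Q) := Ideal.comap_mono hPM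
  have hge : M.comap (algebraMap S Q) ≤ P.comap (algebraMap S Q) := hm.2 ⟨h1.1, bot_le⟩ hle
  have heq : P = M := by
    rw [← IsLocalization.map_under (nonZeroDivisors S) Q P,
      ← IsLocalization.map_under (nonZeroDivisors S) Q M]
    exact congrArg _ (le_antisymm hle hge)
  rw [heq]
  exact hM

end Artinian


section TensorFinite

variable {A : Type*} [CommRing A] [IsDomain A] {Q : Type*} [CommRing Q] [Algebra A Q]
  {K' : Type*} [AddCommGroup K'] [Module A K'] [Module (FractionRing A) K']
  [IsScalarTower A (FractionRing A) K']

/-- moving a scalar of the fraction field across the tensor product -/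
theorem tmul_smul_frac (hunit : ∀ a : A, a ≠ 0 → IsUnit (algebraMap A Q a)) (q : Q)
    (c : FractionRing A) (k : K') :
    ∃ q' : Q, q ⊗ₜ[A] (c • k) = q' ⊗ₜ[A] k := by
  obtain ⟨a, b, hb, rfl⟩ := IsFractionRing.div_surjective (A := A) c
  have hb0 : b ≠ 0 := nonZeroDivisors.ne_zero hb
  obtain ⟨u, hu⟩ := hunit b hb0
  refine ⟨a • (q * ↑u⁻¹), ?_⟩
  have h1 : b • ((algebraMap A (FractionRing A) a / algebraMap A (FractionRing A) b) • k) =
      a • k := by
    rw [← smul_assoc, Algebra.smul_def, mul_div_cancel₀, algebraMap_smul]
    exact (map_ne_zero_iff _ (IsFractionRing.injective A (FractionRing A))).mpr hb0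
  have h2 : q = b • (q * ↑u⁻¹) := by
    rw [Algebra.smul_def, ← hu, mul_comm q, ← mul_assoc, Units.mul_inv, one_mul]
  conv_lhs => rw [h2]
  rw [TensorProduct.smul_tmul, h1, ← TensorProduct.smul_tmul]

theorem finite_tensor (hunit : ∀ a : A, a ≠ 0 → IsUnit (algebraMap A Q a))
    [Module.Finite (FractionRing A) K'] : Module.Finite Q (Q ⊗[A] K') := by
  classical
  obtain ⟨s, hs⟩ := (Module.finite_def (R := FractionRing A) (M := K')).mp inferInstance
  refine ⟨s.image (fun e => (1 : Q) ⊗ₜ[A] e), ?_⟩
  rw [eq_top_iff]
  intro x _
  have key : ∀ k : K', k ∈ Submodule.span (FractionRing A) (s : Set K') → ∀ q : Q,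
      q ⊗ₜ[A] k ∈ Submodule.span Q ((s.image (fun e => (1 : Q) ⊗ₜ[A] e) : Finset (Q ⊗[A] K')) :
        Set (Q ⊗[A] K')) := by
    intro k hk
    induction hk using Submodule.span_induction with
    | mem e he =>
      intro q
      have : q ⊗ₜ[A] e = q • ((1 : Q) ⊗ₜ[A] e) := by
        rw [TensorProduct.smul_tmul', smul_eq_mul, mul_one]
      rw [this]
      refine Submodule.smul_mem _ _ (Submodule.subset_span ?_)
      simp only [Finset.coe_image, Set.mem_image, Finset.mem_coe]
      exact ⟨e, he, rfl⟩
    | zero =>
      intro q
      rw [TensorProduct.tmul_zero]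
      exact Submodule.zero_mem _
    | add x y _ _ hx hy =>
      intro q
      rw [TensorProduct.tmul_add]
      exact Submodule.add_mem _ (hx q) (hy q)
    | smul c x _ hx =>
      intro q
      obtain ⟨q', hq'⟩ := tmul_smul_frac hunit q c x
      rw [hq']
      exact hx q'
  induction x using TensorProduct.induction_on with
  | zero => exact Submodule.zero_mem _
  | tmul q k => exact key k (by rw [hs]; trivial) q
  | add x y hx hy => exact Submodule.add_mem _ (hx trivial) (hy trivial)

end TensorFinite


section IntClosure

attribute [local instance] FractionRing.liftAlgebra in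
/-- the integral closure of a Nagata ring in a residue field of a finite algebra over a
localization is finite -/
theorem finite_integralClosure_quotient (S : Type u) [CommRing S] (hS : CAlg.IsNagata S)
    (M : Submonoid S) (Q : Type u) [CommRing Q] [Algebra S Q] [IsLocalization M Q]
    (T : Type u) [CommRing T] [Algebra S T] [Algebra Q T] [IsScalarTower S Q T]
    [Module.Finite Q T] (𝔫 : Ideal T) [h𝔫 : 𝔫.IsMaximal] :
    Module.Finite S (integralClosure S (T ⧸ 𝔫)) := by
  haveI := hS.1
  letI : Field (T ⧸ 𝔫) := Ideal.Quotient.field 𝔫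
  let L := T ⧸ 𝔫
  let 𝔭 : Ideal S := RingHom.ker (algebraMap S L)
  haveI h𝔭 : 𝔭.IsPrime := RingHom.ker_isPrime _
  let D := S ⧸ 𝔭
  letI : Algebra D L := (RingHom.kerLift (algebraMap S L)).toAlgebra
  have hDinj : Function.Injective (algebraMap D L) := RingHom.kerLift_injective _
  haveI : IsScalarTower S D L := IsScalarTower.of_algebraMap_eq (fun x => rfl)
  haveI : FaithfulSMul D L := (faithfulSMul_iff_algebraMap_injective D L).mpr hDinj
  -- finite dimensionality
  haveI : Module.Finite Q L := Module.Finite.of_surjective
    (Ideal.Quotient.mkₐ Q 𝔫).toLinearMap (Ideal.Quotient.mkₐ_surjective Q 𝔫)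
  have hrange : ∀ q : Q, ∃ d : FractionRing D, algebraMap (FractionRing D) L d = algebraMap Q L q := by
    intro q
    obtain ⟨a, s, rfl⟩ := IsLocalization.exists_mk'_eq M q
    have hs : IsUnit (algebraMap S L (s : S)) := by
      rw [IsScalarTower.algebraMap_apply S Q L]
      exact (IsLocalization.map_units Q s).map _
    refine ⟨algebraMap D (FractionRing D) (Ideal.Quotient.mk 𝔭 a) /
      algebraMap D (FractionRing D) (Ideal.Quotient.mk 𝔭 (s : S)), ?_⟩
    rw [map_div₀, ← IsScalarTower.algebraMap_apply D (FractionRing D) L,
      ← IsScalarTower.algebraMap_apply D (FractionRing D) L]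
    have h1 : ∀ x : S, algebraMap D L (Ideal.Quotient.mk 𝔭 x) = algebraMap S L x := fun x => rfl
    rw [h1, h1, div_eq_iff hs.ne_zero, IsScalarTower.algebraMap_apply S Q L,
      IsScalarTower.algebraMap_apply S Q L, ← map_mul, IsLocalization.mk'_spec]
  haveI : FiniteDimensional (FractionRing D) L := by
    obtain ⟨t, ht⟩ := (Module.finite_def (R := Q) (M := L)).mp inferInstance
    refine ⟨t, ?_⟩
    rw [eq_top_iff]
    intro y _
    have hy : y ∈ Submodule.span Q (t : Set L) := by rw [ht]; trivial
    induction hy using Submodule.span_induction with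
    | mem e he => exact Submodule.subset_span he
    | zero => exact Submodule.zero_mem _
    | add x y _ _ hx hy => exact Submodule.add_mem _ (hx trivial) (hy trivial)
    | smul q x _ hx =>
      obtain ⟨d, hd⟩ := hrange q
      have : q • x = d • x := by rw [Algebra.smul_def, Algebra.smul_def, hd]
      rw [this]
      exact Submodule.smul_mem _ _ (hx trivial)
  -- N-2
  haveI : IsAdicComplete (⊥ : Ideal S) S := inferInstance
  have hN2 : CAlg.IsN2 D := hS.2 𝔭
  have hfin : Module.Finite D (integralClosure D L) := hN2 L inferInstance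
  haveI : Module.Finite S (integralClosure D L) := Module.Finite.trans D _
  haveI : IsNoetherian S (integralClosure D L) := isNoetherian_of_isNoetherianRing_of_finite S _
  let g : integralClosure S L →ₗ[S] integralClosure D L :=
    { toFun := fun c => ⟨c.1, c.2.tower_top⟩
      map_add' := fun a b => rfl
      map_smul' := fun r a => Subtype.ext (by simp [Algebra.smul_def]) }
  refine Module.Finite.of_injective g (fun a b hab => Subtype.ext ?_)
  exact congrArg (fun z : integralClosure D L => (z : L)) hab

/-- the integral closure of a Nagata ring in a reduced Artinian ring finite over a localization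
is finite -/
theorem finite_integralClosure_of_artinian (S : Type u) [CommRing S] (hS : CAlg.IsNagata S)
    (M : Submonoid S) (Q : Type u) [CommRing Q] [Algebra S Q] [IsLocalization M Q]
    (T : Type u) [CommRing T] [Algebra S T] [Algebra Q T] [IsScalarTower S Q T]
    [Module.Finite Q T] [IsArtinianRing T] [IsReduced T] :
    Module.Finite S (integralClosure S T) := by
  haveI := hS.1
  haveI : ∀ 𝔫 : MaximalSpectrum T, Module.Finite S (integralClosure S (T ⧸ 𝔫.asIdeal)) :=
    fun 𝔫 => by
      haveI := 𝔫.isMaximal
      exact finite_integralClosure_quotient S hS M Q T 𝔫.asIdeal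
  haveI : Finite (MaximalSpectrum T) := inferInstance
  let g : integralClosure S T →ₗ[S]
      (∀ 𝔫 : MaximalSpectrum T, integralClosure S (T ⧸ 𝔫.asIdeal)) :=
    { toFun := fun c 𝔫 => ⟨Ideal.Quotient.mk 𝔫.asIdeal c.1,
        c.2.map (Ideal.Quotient.mkₐ S 𝔫.asIdeal)⟩
      map_add' := fun a b => by
        funext 𝔫
        apply Subtype.ext
        simp
      map_smul' := fun r a => by
        funext 𝔫
        apply Subtype.ext
        simp [Algebra.smul_def] }
  have hg : Function.Injective g := by
    intro a b hab
    apply Subtype.ext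
    apply (IsArtinianRing.equivPi T).injective
    funext 𝔫
    have := congrFun hab 𝔫
    exact congrArg (fun z : integralClosure S (T ⧸ 𝔫.asIdeal) => (z : T ⧸ 𝔫.asIdeal)) this
  haveI : IsNoetherian S (∀ 𝔫 : MaximalSpectrum T, integralClosure S (T ⧸ 𝔫.asIdeal)) :=
    isNoetherian_of_isNoetherianRing_of_finite S _
  exact Module.Finite.of_injective g hg

end IntClosure


section Main

/-- **EGA 0_IV 23.1.6**: finiteness of the integral closure of an analytically unramified local
domain in a finite extension `K'`, when `Q ⊗ K'` is reduced (`Q` the total ring of fractions of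
the completion). -/
theorem finite_integralClosure_of_isReduced_tensor {A K' Q : Type u}
    [CommRing A] [IsDomain A] [IsLocalRing A] [IsNoetherianRing A]
    (hred : IsReduced (AdicCompletion (maximalIdeal A) A))
    [CommRing Q] [Algebra (AdicCompletion (maximalIdeal A) A) Q]
    [IsFractionRing (AdicCompletion (maximalIdeal A) A) Q] [Algebra A Q]
    [IsScalarTower A (AdicCompletion (maximalIdeal A) A) Q]
    [Field K'] [Algebra A K'] [Algebra (FractionRing A) K'] [IsScalarTower A (FractionRing A) K']
    [FiniteDimensional (FractionRing A) K'] (h : IsReduced (Q ⊗[A] K')) :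
    Module.Finite A (integralClosure A K') := by
  let Ahat := AdicCompletion (maximalIdeal A) A
  haveI : IsNoetherianRing Ahat := Groth.Agent.S0543.result A _
  haveI : Module.Flat A Ahat := inferInstance
  haveI : IsLocalHom (algebraMap A Ahat) := inferInstance
  haveI : Module.FaithfullyFlat A Ahat := Module.FaithfullyFlat.of_flat_of_isLocalHom
  have hunit : ∀ a : A, a ≠ 0 → IsUnit (algebraMap A Q a) := by
    intro a ha
    rw [IsScalarTower.algebraMap_apply A Ahat Q]
    have hreg : IsSMulRegular A a := (IsRegular.of_ne_zero ha).left.isSMulRegular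
    have h2 : IsSMulRegular Ahat (algebraMap A Ahat a) := IsSMulRegular.of_flat hreg
    have h3 : algebraMap A Ahat a ∈ nonZeroDivisors Ahat := by
      rw [mem_nonZeroDivisors_iff_right]
      intro x hx
      apply h2
      change algebraMap A Ahat a • x = algebraMap A Ahat a • 0
      rw [smul_eq_mul, smul_zero, mul_comm]
      exact hx
    exact IsLocalization.map_units Q (⟨algebraMap A Ahat a, h3⟩ : nonZeroDivisors Ahat)
  let T := Q ⊗[A] K'
  haveI : Module.Finite Q T := finite_tensor hunit
  haveI : IsArtinianRing Q := isArtinianRing_of_isFractionRing Ahat Q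
  haveI : IsArtinianRing T := IsArtinianRing.of_finite Q T
  have hNag : CAlg.IsNagata Ahat := CohenNagata.isNagata_of_complete Ahat
  haveI : IsScalarTower Ahat Q T := inferInstance
  have hC : Module.Finite Ahat (integralClosure Ahat T) :=
    finite_integralClosure_of_artinian Ahat hNag (nonZeroDivisors Ahat) Q T
  let B := integralClosure A K'
  haveI : Module.Flat (FractionRing A) K' := inferInstance
  haveI : Module.Flat A K' := Module.Flat.trans A (FractionRing A) K'
  let j : B →ₗ[A] K' := B.val.toLinearMap
  let ι : Ahat →ₗ[A] Q := (Algebra.linearMap Ahat Q).restrictScalars A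
  have hj : Function.Injective (j.lTensor Ahat) :=
    Module.Flat.lTensor_preserves_injective_linearMap j Subtype.val_injective
  have hι : Function.Injective (ι.rTensor K') :=
    Module.Flat.rTensor_preserves_injective_linearMap ι (IsFractionRing.injective Ahat Q)
  let φ : Ahat ⊗[A] B →ₗ[Ahat] T :=
    TensorProduct.AlgebraTensorModule.map (Algebra.linearMap Ahat Q) j
  have hφ : ∀ x, φ x = (ι.rTensor K') (j.lTensor Ahat x) := by
    intro x
    induction x using TensorProduct.induction_on with
    | zero => simp
    | tmul a b => rfl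
    | add x y hx hy => rw [map_add, map_add, map_add, hx, hy]
  have hφinj : Function.Injective φ := by
    intro x y hxy
    rw [hφ, hφ] at hxy
    exact hj (hι hxy)
  have hφint : ∀ x, φ x ∈ Subalgebra.toSubmodule (integralClosure Ahat T) := by
    intro x
    induction x using TensorProduct.induction_on with
    | zero => rw [map_zero]; exact Submodule.zero_mem _
    | tmul a b =>
      have h1 : IsIntegral A ((Algebra.TensorProduct.includeRight : K' →ₐ[A] T) (b : K')) :=
        b.2.map _
      have h2 : IsIntegral Ahat ((Algebra.TensorProduct.includeRight : K' →ₐ[A] T) (b : K')) :=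
        h1.tower_top
      have h3 : φ (a ⊗ₜ[A] b) =
          algebraMap Ahat T a * (Algebra.TensorProduct.includeRight : K' →ₐ[A] T) (b : K') := by
        change (algebraMap Ahat Q a) ⊗ₜ[A] (b : K') = _
        rw [Algebra.TensorProduct.algebraMap_apply, Algebra.TensorProduct.includeRight_apply,
          Algebra.TensorProduct.tmul_mul_tmul, mul_one, one_mul]
      rw [h3]
      exact (isIntegral_algebraMap).mul h2
    | add x y hx hy => rw [map_add]; exact Submodule.add_mem _ hx hy
  let ψ : Ahat ⊗[A] B →ₗ[Ahat] integralClosure Ahat T :=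
    φ.codRestrict (Subalgebra.toSubmodule (integralClosure Ahat T)) hφint
  haveI : IsNoetherian Ahat (integralClosure Ahat T) :=
    isNoetherian_of_isNoetherianRing_of_finite Ahat _
  haveI : Module.Finite Ahat (Ahat ⊗[A] B) :=
    Module.Finite.of_injective ψ (fun a b hab => hφinj (congrArg Subtype.val hab))
  exact Module.Finite.of_finite_tensorProduct_of_faithfullyFlat (R := A) Ahat

end Main


section FracTensor

variable {A : Type*} [CommRing A] [IsDomain A] (Q K' : Type*) [CommRing Q] [Algebra A Q]
  [Algebra (FractionRing A) Q] [IsScalarTower A (FractionRing A) Q]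
  [CommRing K'] [Algebra A K'] [Algebra (FractionRing A) K'] [IsScalarTower A (FractionRing A) K']

omit [Algebra A Q] [Algebra (FractionRing A) Q] [IsScalarTower A (FractionRing A) Q]
  [Algebra A K'] [Algebra (FractionRing A) K'] [IsScalarTower A (FractionRing A) K']
  [CommRing Q] [CommRing K'] in
theorem smul_div_smul {V : Type*} [AddCommGroup V] [Module A V] [Module (FractionRing A) V]
    [IsScalarTower A (FractionRing A) V] (a b : A) (hb : b ≠ 0) (v : V) :
    b • ((algebraMap A (FractionRing A) a / algebraMap A (FractionRing A) b) • v) = a • v := by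
  have hbK : algebraMap A (FractionRing A) b ≠ 0 :=
    (map_ne_zero_iff _ (IsFractionRing.injective A (FractionRing A))).mpr hb
  rw [← smul_assoc, Algebra.smul_def, mul_div_cancel₀ _ hbK, algebraMap_smul]

/-- scalars of the fraction field can be moved across a tensor product over the domain -/
theorem smul_tmul_frac (c : FractionRing A) (q : Q) (k : K') :
    (c • q) ⊗ₜ[A] k = q ⊗ₜ[A] (c • k) := by
  obtain ⟨a, b, hb, rfl⟩ := IsFractionRing.div_surjective (A := A) c
  have hb0 : b ≠ 0 := nonZeroDivisors.ne_zero hb
  have hbK : algebraMap A (FractionRing A) b ≠ 0 :=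
    (map_ne_zero_iff _ (IsFractionRing.injective A (FractionRing A))).mpr hb0
  -- `b` acts injectively
  have hinj : ∀ t t' : Q ⊗[A] K', b • t = b • t' → t = t' := by
    intro t t' htt
    have h2 : ∀ t : Q ⊗[A] K', (algebraMap A (FractionRing A) b)⁻¹ • b • t = t := by
      intro t
      induction t using TensorProduct.induction_on with
      | zero => simp
      | tmul q k =>
        rw [TensorProduct.smul_tmul', TensorProduct.smul_tmul', ← algebraMap_smul (FractionRing A) b q,
          smul_smul, inv_mul_cancel₀ hbK, one_smul]
      | add x y hx hy => rw [smul_add, smul_add, hx, hy]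
    rw [← h2 t, ← h2 t', htt]
  apply hinj
  rw [TensorProduct.smul_tmul', smul_div_smul a b hb0 q, TensorProduct.smul_tmul,
    ← smul_div_smul a b hb0 k, TensorProduct.tmul_smul]

/-- reducedness of `Q ⊗[A] K'` follows from that of `Q ⊗[Frac A] K'` -/
theorem isReduced_tensor_of_frac [IsReduced (Q ⊗[FractionRing A] K')] : IsReduced (Q ⊗[A] K') := by
  let μ : Q ⊗[A] K' →ₐ[A] Q ⊗[FractionRing A] K' :=
    Algebra.TensorProduct.lift
      ((Algebra.TensorProduct.includeLeft : Q →ₐ[FractionRing A] Q ⊗[FractionRing A] K').restrictScalars A)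
      ((Algebra.TensorProduct.includeRight : K' →ₐ[FractionRing A] Q ⊗[FractionRing A] K').restrictScalars A)
      (fun x y => Commute.all _ _)
  let ν : Q ⊗[FractionRing A] K' →+ Q ⊗[A] K' :=
    TensorProduct.liftAddHom
      { toFun := fun q =>
          { toFun := fun k => q ⊗ₜ[A] k
            map_zero' := TensorProduct.tmul_zero _ _
            map_add' := fun k k' => TensorProduct.tmul_add _ _ _ }
        map_zero' := by ext k; exact TensorProduct.zero_tmul _ _
        map_add' := fun q q' => by ext k; exact TensorProduct.add_tmul _ _ _ }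
      (fun c q k => smul_tmul_frac Q K' c q k)
  have hνμ : ∀ x, ν (μ x) = x := by
    intro x
    induction x using TensorProduct.induction_on with
    | zero => simp
    | tmul q k =>
      have : μ (q ⊗ₜ[A] k) = q ⊗ₜ[FractionRing A] k := by
        simp [μ, Algebra.TensorProduct.lift_tmul, Algebra.TensorProduct.tmul_mul_tmul]
      rw [this]
      rfl
    | add x y hx hy => rw [map_add, map_add, hx, hy]
  exact isReduced_of_injective μ (fun x y hxy => by rw [← hνμ x, ← hνμ y, hxy])

end FracTensor


section Consequences

/-- **EGA 0_IV 23.1.7 (i)**: N-2 from geometric reducedness of the total ring of fractions of the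
completion. -/
theorem isN2_of_isGeometricallyReduced {A R : Type u}
    [CommRing A] [IsDomain A] [IsLocalRing A] [IsNoetherianRing A]
    (hred : IsReduced (AdicCompletion (IsLocalRing.maximalIdeal A) A))
    [CommRing R] [Algebra (AdicCompletion (IsLocalRing.maximalIdeal A) A) R]
    [IsFractionRing (AdicCompletion (IsLocalRing.maximalIdeal A) A) R] [Algebra A R]
    [IsScalarTower A (AdicCompletion (IsLocalRing.maximalIdeal A) A) R]
    [Algebra (FractionRing A) R] [IsScalarTower A (FractionRing A) R]
    (h : Algebra.IsGeometricallyReduced (FractionRing A) R) :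
    CAlg.IsN2 A := by
  intro K' _ _ _ _ hfin
  haveI := hfin
  haveI : Algebra.IsAlgebraic (FractionRing A) K' := Algebra.IsAlgebraic.of_finite _ _
  haveI : IsReduced (K' ⊗[FractionRing A] R) := inferInstance
  haveI : IsReduced (R ⊗[FractionRing A] K') :=
    isReduced_of_injective (Algebra.TensorProduct.comm (FractionRing A) R K')
      (AlgEquiv.injective _)
  have hR : IsReduced (R ⊗[A] K') := isReduced_tensor_of_frac R K'
  exact finite_integralClosure_of_isReduced_tensor (Q := R) hred hR

/-- **Stacks 0330**: an analytically unramified Noetherian local domain is N-1. -/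
theorem isN1_of_isReduced_completion {R : Type u} [CommRing R] [IsDomain R] [IsLocalRing R]
    [IsNoetherianRing R] [hred : IsReduced (AdicCompletion (IsLocalRing.maximalIdeal R) R)] :
    CAlg.IsN1 R := by
  let Rhat := AdicCompletion (maximalIdeal R) R
  let Q := FractionRing Rhat
  haveI : Module.Flat R Rhat := inferInstance
  have hunit : ∀ y : nonZeroDivisors R, IsUnit (algebraMap R Q y) := by
    intro y
    have ha : (y : R) ≠ 0 := nonZeroDivisors.ne_zero y.2
    rw [IsScalarTower.algebraMap_apply R Rhat Q]
    have hreg : IsSMulRegular R (y : R) := (IsRegular.of_ne_zero ha).left.isSMulRegular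
    have h2 : IsSMulRegular Rhat (algebraMap R Rhat y) := IsSMulRegular.of_flat hreg
    have h3 : algebraMap R Rhat y ∈ nonZeroDivisors Rhat := by
      rw [mem_nonZeroDivisors_iff_right]
      intro x hx
      apply h2
      change algebraMap R Rhat y • x = algebraMap R Rhat y • 0
      rw [smul_eq_mul, smul_zero, mul_comm]
      exact hx
    exact IsLocalization.map_units Q (⟨algebraMap R Rhat y, h3⟩ : nonZeroDivisors Rhat)
  letI : Algebra (FractionRing R) Q :=
    (IsLocalization.lift (M := nonZeroDivisors R) (S := FractionRing R) hunit).toAlgebra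
  haveI : IsScalarTower R (FractionRing R) Q := IsScalarTower.of_algebraMap_eq (fun x => by
    change algebraMap R Q x = IsLocalization.lift hunit (algebraMap R (FractionRing R) x)
    rw [IsLocalization.lift_eq])
  haveI : IsReduced Q := inferInstanceAs (IsReduced (Localization (nonZeroDivisors Rhat)))
  haveI : IsReduced (Q ⊗[FractionRing R] (FractionRing R)) :=
    isReduced_of_injective (Algebra.TensorProduct.rid (FractionRing R) (FractionRing R) Q)
      (AlgEquiv.injective _)
  have hQ : IsReduced (Q ⊗[R] (FractionRing R)) := isReduced_tensor_of_frac Q (FractionRing R)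
  exact finite_integralClosure_of_isReduced_tensor (A := R) (K' := FractionRing R) (Q := Q) hred
    hQ

end Consequences

end Groth.Agent.Lib.Helper88.AnUnram
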