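import Groth.Prelude.Def_Found
import Groth.Agent.Lib.Helper88.AnUnram
import Groth.Agent.Lib.Helper83.DVRCrit
import Groth.Agent.Lib.Helper11.IntegralDim
import Mathlib

/-!
# Nagata local domains are analytically unramified (Stacks 0331)
-/

universe u

namespace Groth.Agent.Lib.Helper88.AnUnram2

open IsLocalRing CAlg TensorProduct

section FlatAss

variable {S T : Type*} [CommRing S] [IsNoetherianRing S] [CommRing T] [Algebra S T]
  [Module.Flat S T]

/-- Membership in `I T` can be checked "at the associated primes of `S ⧸ I`" (flat base change of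
the injectivity of `S ⧸ I → ∏ (S ⧸ I)_p`). -/
theorem mem_map_of_forall_associatedPrimes (I : Ideal S) (t : T)
    (h : ∀ p ∈ associatedPrimes S (S ⧸ I), ∃ u : S, u ∉ p ∧
      algebraMap S T u * t ∈ I.map (algebraMap S T)) :
    t ∈ I.map (algebraMap S T) := by
  classical
  let 𝔞 : Ideal S := Ideal.comap (algebraMap S T)
    ((I.map (algebraMap S T)).colon {t})
  have h𝔞 : ∀ u : S, u ∈ 𝔞 ↔ algebraMap S T u * t ∈ I.map (algebraMap S T) := by
    intro u
    rw [Ideal.mem_comap, Submodule.mem_colon_singleton, smul_eq_mul]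
  have hfin := associatedPrimes.finite S (S ⧸ I)
  have hnot : ¬ ((𝔞 : Set S) ⊆ ⋃ q ∈ (hfin.toFinset : Set (Ideal S)), (id q : Ideal S)) := by
    intro hsub
    obtain ⟨q, hq, h𝔞q⟩ := (Ideal.subset_union_prime (R := S) (s := hfin.toFinset) (f := id) ⊥ ⊥
      (fun i hi _ _ => ((hfin.mem_toFinset).mp hi).isPrime)).mp hsub
    obtain ⟨u, huq, hu⟩ := h q ((hfin.mem_toFinset).mp hq)
    exact huq (h𝔞q ((h𝔞 u).mpr hu))
  rw [Set.not_subset] at hnot
  obtain ⟨u, hu𝔞, hu⟩ := hnot
  have hureg : IsSMulRegular (S ⧸ I) u := by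
    rw [isSMulRegular_iff_right_eq_zero_of_smul]
    intro m hm
    by_contra hm0
    apply hu
    have : u ∈ ⋃ p ∈ associatedPrimes S (S ⧸ I), (p : Set S) := by
      rw [biUnion_associatedPrimes_eq_zero_divisors]
      exact ⟨m, hm0, hm⟩
    simp only [Set.mem_iUnion, Finset.mem_coe, Set.Finite.mem_toFinset, id] at this ⊢
    exact this
  have hreg2 : IsSMulRegular (T ⊗[S] (S ⧸ I)) u := IsSMulRegular.lTensor T hureg
  let e := Algebra.TensorProduct.quotIdealMapEquivTensorQuot T I
  have hreg3 : IsSMulRegular (T ⧸ I.map (algebraMap S T)) u :=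
    (e.toLinearEquiv.restrictScalars S).isSMulRegular_congr u |>.mpr hreg2
  rw [← Ideal.Quotient.eq_zero_iff_mem]
  apply hreg3
  change u • (Ideal.Quotient.mk (Ideal.map (algebraMap S T) I)) t = u • 0
  rw [smul_zero, Algebra.smul_def,
    IsScalarTower.algebraMap_apply S T (T ⧸ Ideal.map (algebraMap S T) I),
    Ideal.Quotient.algebraMap_eq, ← map_mul, Ideal.Quotient.eq_zero_iff_mem]
  exact (h𝔞 u).mp hu𝔞

end FlatAss

section Normal

variable {S : Type*} [CommRing S] [IsDomain S] [IsNoetherianRing S] [IsIntegrallyClosed S]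

/-- the `𝔪⁻¹` argument, globally: an associated prime `p` of a nonzero principal ideal in a normal
Noetherian domain is "locally principal". -/
theorem exists_uniformizer_of_mem_associatedPrimes {x : S} (hx : x ≠ 0) {p : Ideal S}
    (hp : p ∈ associatedPrimes S (S ⧸ Ideal.span {x})) :
    x ∈ p ∧ ∃ π ∈ p, ∃ v : S, v ∉ p ∧ ∀ g ∈ p, ∃ c : S, v * g = π * c := by
  obtain ⟨hprime, y, hy⟩ := (isAssociatedPrime_iff).mp hp
  obtain ⟨b, rfl⟩ := Ideal.Quotient.mk_surjective y
  have hmem : ∀ r : S, r ∈ p ↔ r * b ∈ Ideal.span {x} := by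
    intro r
    rw [hy, Submodule.mem_colon_singleton, Submodule.mem_bot, ← Ideal.Quotient.eq_zero_iff_mem]
    rfl
  have hb : b ∉ Ideal.span {x} := by
    intro hb
    have : (1 : S) ∈ p := by rw [hmem, one_mul]; exact hb
    exact hprime.ne_top ((Ideal.eq_top_iff_one p).mpr this)
  have hxp : x ∈ p := by
    rw [hmem]
    exact Ideal.mul_mem_right _ _ (Ideal.mem_span_singleton_self x)
  refine ⟨hxp, ?_⟩
  have hc : ∀ g ∈ p, ∃ c : S, b * g = x * c := by
    intro g hg
    obtain ⟨c, hc⟩ := Ideal.mem_span_singleton'.mp ((hmem g).mp hg)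
    exact ⟨c, by rw [mul_comm b g, ← hc, mul_comm]⟩
  by_contra hcon
  push_neg at hcon
  -- every quotient `b g / x` lies in `p`
  have hcp : ∀ g ∈ p, ∀ c : S, b * g = x * c → c ∈ p := by
    intro g hg c hgc
    by_contra hcp
    obtain ⟨g', hg', hne⟩ := hcon g hg c hcp
    obtain ⟨c', hc'⟩ := hc g' hg'
    apply hne c'
    apply mul_left_cancel₀ hx
    calc x * (c * g') = (x * c) * g' := by ring
      _ = (b * g) * g' := by rw [hgc]
      _ = g * (b * g') := by ring
      _ = g * (x * c') := by rw [hc']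
      _ = x * (g * c') := by ring
  let K := FractionRing S
  let z : K := algebraMap S K b / algebraMap S K x
  have hxK : algebraMap S K x ≠ 0 :=
    (map_ne_zero_iff _ (IsFractionRing.injective S K)).mpr hx
  let N : Submodule S K := Submodule.map (Algebra.linearMap S K) p
  have hN : N ≠ ⊥ := by
    intro hN
    have : algebraMap S K x ∈ N := ⟨x, hxp, rfl⟩
    rw [hN, Submodule.mem_bot] at this
    exact hxK this
  have hN' : N.FG := (IsNoetherian.noetherian p).map _
  have hz : ∀ n ∈ N, z • n ∈ N := by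
    rintro _ ⟨g, hg, rfl⟩
    obtain ⟨c, hc'⟩ := hc g hg
    refine ⟨c, hcp g hg c hc', ?_⟩
    change algebraMap S K c = z * algebraMap S K g
    rw [div_mul_eq_mul_div, ← map_mul, hc', map_mul, mul_div_cancel_left₀ _ hxK]
  have hint : IsIntegral S z := isIntegral_of_smul_mem_submodule N hN hN' z hz
  obtain ⟨s, hs⟩ := IsIntegrallyClosed.isIntegral_iff.mp hint
  apply hb
  rw [Ideal.mem_span_singleton']
  refine ⟨s, ?_⟩
  apply IsFractionRing.injective S K
  rw [map_mul, hs, div_mul_cancel₀ _ hxK]

omit [IsIntegrallyClosed S] in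
/-- if `p` is locally generated by `π`, then a power of `π` lies locally in `(x)` -/
theorem exists_pow_mem_span_of_uniformizer {x : S} (hx : x ≠ 0) {p : Ideal S} [hp : p.IsPrime]
    {π v : S} (hπ : π ∈ p) (hv : v ∉ p) (h : ∀ g ∈ p, ∃ c : S, v * g = π * c) :
    ∃ (n : ℕ) (w : S), w ∉ p ∧ w * π ^ n ∈ Ideal.span {x} := by
  let A := Localization.AtPrime p
  have hinj : Function.Injective (algebraMap S A) :=
    IsLocalization.injective A p.primeCompl_le_nonZeroDivisors
  have hvu : IsUnit (algebraMap S A v) :=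
    IsLocalization.map_units A (⟨v, hv⟩ : p.primeCompl)
  have hmax : maximalIdeal A = Ideal.span {algebraMap S A π} := by
    rw [← Localization.AtPrime.map_eq_maximalIdeal]
    apply le_antisymm
    · rw [Ideal.map_le_iff_le_comap]
      intro g hg
      obtain ⟨c, hc⟩ := h g hg
      rw [Ideal.mem_comap, Ideal.mem_span_singleton']
      obtain ⟨u, hu⟩ := hvu
      refine ⟨algebraMap S A c * ↑u⁻¹, ?_⟩
      have h1 : algebraMap S A v * algebraMap S A g = algebraMap S A π * algebraMap S A c := by
        rw [← map_mul, ← map_mul, hc]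
      rw [← hu] at h1
      calc algebraMap S A c * ↑u⁻¹ * algebraMap S A π
          = ↑u⁻¹ * (algebraMap S A π * algebraMap S A c) := by ring
        _ = ↑u⁻¹ * (↑u * algebraMap S A g) := by rw [h1]
        _ = algebraMap S A g := by rw [← mul_assoc, Units.inv_mul, one_mul]
    · rw [Ideal.span_singleton_le_iff_mem]
      exact Ideal.mem_map_of_mem _ hπ
  have hx' : algebraMap S A x ≠ 0 := (map_ne_zero_iff _ hinj).mpr hx
  obtain ⟨u, n, hu⟩ := Groth.Agent.Lib.Helper83.exists_unit_mul_pow_of_maximalIdeal_eq_span hmax hx'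
  obtain ⟨⟨a, s⟩, has⟩ := IsLocalization.mk'_surjective p.primeCompl (↑u⁻¹ : A)
  replace has : IsLocalization.mk' A a s = ↑u⁻¹ := has
  refine ⟨n, s, s.2, ?_⟩
  rw [Ideal.mem_span_singleton']
  refine ⟨a, ?_⟩
  apply hinj
  have h1 : IsLocalization.mk' A a s * algebraMap S A s = algebraMap S A a :=
    IsLocalization.mk'_spec A a s
  rw [map_mul, map_mul, map_pow, ← h1, has, hu]
  calc ↑u⁻¹ * algebraMap S A ↑s * (↑u * algebraMap S A π ^ n)
      = (↑u⁻¹ * ↑u) * (algebraMap S A ↑s * algebraMap S A π ^ n) := by ring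
    _ = algebraMap S A ↑s * algebraMap S A π ^ n := by rw [Units.inv_mul, one_mul]

end Normal

section Zariski

variable {S T : Type*} [CommRing S] [IsDomain S] [IsNoetherianRing S] [IsIntegrallyClosed S]
  [CommRing T] [Algebra S T] [Module.Flat S T]

omit [IsNoetherianRing S] [IsIntegrallyClosed S] in
theorem isSMulRegular_algebraMap_of_ne_zero {a : S} (ha : a ≠ 0) :
    ∀ t : T, algebraMap S T a * t = 0 → t = 0 := by
  intro t ht
  have hreg : IsSMulRegular S a := (IsRegular.of_ne_zero ha).left.isSMulRegular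
  have h2 : IsSMulRegular T (algebraMap S T a) := IsSMulRegular.of_flat hreg
  apply h2
  change algebraMap S T a • t = algebraMap S T a • 0
  rw [smul_eq_mul, smul_zero, ht]

omit [IsNoetherianRing S] [IsIntegrallyClosed S] in
theorem isNilpotent_of_mul_pow {a : S} (ha : a ≠ 0) {k : ℕ} {t y : T}
    (h : y = algebraMap S T a ^ k * t) (hy : IsNilpotent y) : IsNilpotent t := by
  obtain ⟨m, hm⟩ := hy
  refine ⟨m, ?_⟩
  have h1 : algebraMap S T (a ^ (k * m)) * t ^ m = 0 := by
    rw [map_pow, pow_mul, ← mul_pow, ← h, hm]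
  exact isSMulRegular_algebraMap_of_ne_zero (pow_ne_zero _ ha) _ h1

/-- **Zariski's lemma (Stacks 0330-type)**, flat version over a normal base: nilpotents of `T` are
divisible by `x`. -/
theorem isNilpotent_mem_map_span {x : S} (hx : x ≠ 0)
    (hred : ∀ p ∈ associatedPrimes S (S ⧸ Ideal.span {x}),
      IsReduced (T ⧸ p.map (algebraMap S T)))
    {y : T} (hy : IsNilpotent y) : y ∈ (Ideal.span {x}).map (algebraMap S T) := by
  apply mem_map_of_forall_associatedPrimes
  intro p hp
  haveI hprime : p.IsPrime := hp.isPrime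
  obtain ⟨hxp, π, hπ, v, hv, hg⟩ := exists_uniformizer_of_mem_associatedPrimes hx hp
  obtain ⟨n, w, hw, hwn⟩ := exists_pow_mem_span_of_uniformizer hx hπ hv hg
  have hπ0 : π ≠ 0 := by
    rintro rfl
    obtain ⟨c, hc⟩ := hg x hxp
    rw [zero_mul] at hc
    rcases mul_eq_zero.mp hc with h | h
    · exact hv (h ▸ p.zero_mem)
    · exact hx h
  haveI := hred p hp
  -- elements of `p T` are locally divisible by `π`
  have hdiv : ∀ z ∈ p.map (algebraMap S T), ∃ v' : S, v' ∉ p ∧ ∃ z' : T,
      algebraMap S T v' * z = algebraMap S T π * z' := by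
    intro z hz
    induction hz using Submodule.span_induction with
    | mem z hz =>
      obtain ⟨g, hgp, rfl⟩ := hz
      obtain ⟨c, hc⟩ := hg g hgp
      exact ⟨v, hv, algebraMap S T c, by rw [← map_mul, ← map_mul, hc]⟩
    | zero => exact ⟨1, fun h => hprime.ne_top ((Ideal.eq_top_iff_one p).mpr h), 0, by simp⟩
    | add z₁ z₂ _ _ h₁ h₂ =>
      obtain ⟨v₁, hv₁, z₁', h₁⟩ := h₁
      obtain ⟨v₂, hv₂, z₂', h₂⟩ := h₂
      refine ⟨v₁ * v₂, fun h => (hprime.mem_or_mem h).elim hv₁ hv₂,
        algebraMap S T v₂ * z₁' + algebraMap S T v₁ * z₂', ?_⟩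
      rw [map_mul]
      calc algebraMap S T v₁ * algebraMap S T v₂ * (z₁ + z₂)
          = algebraMap S T v₂ * (algebraMap S T v₁ * z₁) +
            algebraMap S T v₁ * (algebraMap S T v₂ * z₂) := by ring
        _ = _ := by rw [h₁, h₂]; ring
    | smul t z _ h =>
      obtain ⟨v', hv', z', h⟩ := h
      refine ⟨v', hv', t * z', ?_⟩
      rw [smul_eq_mul]
      calc algebraMap S T v' * (t * z) = t * (algebraMap S T v' * z) := by ring
        _ = _ := by rw [h]; ring
  have key : ∀ k : ℕ, ∃ u : S, u ∉ p ∧ ∃ y' : T,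
      algebraMap S T u * y = algebraMap S T π ^ k * y' := by
    intro k
    induction k with
    | zero => exact ⟨1, fun h => hprime.ne_top ((Ideal.eq_top_iff_one p).mpr h), y, by simp⟩
    | succ k ih =>
      obtain ⟨u, hu, y', hy'⟩ := ih
      have hnil : IsNilpotent (algebraMap S T u * y) := Commute.isNilpotent_mul_left (Commute.all _ _) hy
      have hy'nil : IsNilpotent y' := isNilpotent_of_mul_pow hπ0 hy' hnil
      have hy'p : y' ∈ p.map (algebraMap S T) := by
        rw [← Ideal.Quotient.eq_zero_iff_mem]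
        exact IsReduced.eq_zero _ (hy'nil.map (Ideal.Quotient.mk _))
      obtain ⟨v', hv', z', hz'⟩ := hdiv y' hy'p
      refine ⟨v' * u, fun h => (hprime.mem_or_mem h).elim hv' hu, z', ?_⟩
      rw [map_mul, mul_assoc, hy', pow_succ]
      calc algebraMap S T v' * (algebraMap S T π ^ k * y')
          = algebraMap S T π ^ k * (algebraMap S T v' * y') := by ring
        _ = _ := by rw [hz']; ring
  obtain ⟨u, hu, y', hy'⟩ := key n
  refine ⟨w * u, fun h => (hprime.mem_or_mem h).elim hw hu, ?_⟩
  rw [map_mul, mul_assoc, hy', ← mul_assoc, ← map_pow, ← map_mul]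
  exact Ideal.mul_mem_right _ _ (Ideal.mem_map_of_mem _ hwn)

/-- **Zariski's lemma**: `T` is reduced if it is `x`-adically separated. -/
theorem isReduced_of_zariski {x : S} (hx : x ≠ 0)
    (hred : ∀ p ∈ associatedPrimes S (S ⧸ Ideal.span {x}),
      IsReduced (T ⧸ p.map (algebraMap S T)))
    (hkrull : ∀ t : T, (∀ n : ℕ, ∃ t' : T, t = algebraMap S T x ^ n * t') → t = 0) :
    IsReduced T := by
  refine ⟨fun y hy => hkrull y ?_⟩
  have key : ∀ n : ℕ, ∃ t' : T, IsNilpotent t' ∧ y = algebraMap S T x ^ n * t' := by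
    intro n
    induction n with
    | zero => exact ⟨y, hy, by simp⟩
    | succ n ih =>
      obtain ⟨t', ht', hyt⟩ := ih
      have h1 := isNilpotent_mem_map_span hx hred ht'
      rw [Ideal.map_span, Set.image_singleton, Ideal.mem_span_singleton'] at h1
      obtain ⟨t'', ht''⟩ := h1
      have h2 : t' = algebraMap S T x ^ 1 * t'' := by rw [pow_one, ← ht'', mul_comm]
      refine ⟨t'', isNilpotent_of_mul_pow hx h2 ht', ?_⟩
      rw [hyt, h2, pow_one, pow_succ, mul_assoc]
  intro n
  obtain ⟨t', -, h⟩ := key n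
  exact ⟨t', h⟩

end Zariski

section Permanence

/-- a finite algebra over a Nagata ring is Nagata -/
theorem isNagata_of_finite (R S : Type u) [CommRing R] [CommRing S] [Algebra R S]
    [Module.Finite R S] (hR : CAlg.IsNagata R) : CAlg.IsNagata S := by
  haveI := hR.1
  haveI : IsNoetherianRing S := IsNoetherianRing.of_finite R S
  refine ⟨inferInstance, ?_⟩
  intro q hq
  let p : Ideal R := q.comap (algebraMap R S)
  haveI : p.IsPrime := Ideal.IsPrime.comap _
  haveI : Module.Finite (R ⧸ p) (S ⧸ q) := Module.Finite.of_restrictScalars_finite R _ _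
  exact isN2_of_finite_extension (R ⧸ p) (S ⧸ q) Ideal.algebraMap_quotient_injective (hR.2 p)

theorem isN1_of_isNagata (D : Type u) [CommRing D] [IsDomain D] (hD : CAlg.IsNagata D) :
    CAlg.IsN1 D := by
  apply isN1_of_isN2
  exact isN2_of_ringEquiv (RingEquiv.quotientBot D) (hD.2 ⊥)

end Permanence

section Completion

variable (R : Type u) [CommRing R] [IsNoetherianRing R] [IsLocalRing R]

/-- Krull intersection in `D ⊗ R̂` for a finite `R`-algebra `D`. -/
theorem eq_zero_of_forall_pow_dvd (D : Type u) [CommRing D] [Algebra R D] [Module.Finite R D]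
    {x : R} (hx : x ∈ maximalIdeal R) (t : D ⊗[R] AdicCompletion (maximalIdeal R) R)
    (h : ∀ n : ℕ, ∃ t' : D ⊗[R] AdicCompletion (maximalIdeal R) R,
      t = algebraMap D (D ⊗[R] AdicCompletion (maximalIdeal R) R) (algebraMap R D x) ^ n * t') :
    t = 0 := by
  let Rhat := AdicCompletion (maximalIdeal R) R
  haveI : IsNoetherianRing Rhat := Groth.Agent.S0543.result R _
  let e : D ⊗[R] Rhat ≃ₗ[R] Rhat ⊗[R] D := TensorProduct.comm R D Rhat
  have hxhat : algebraMap R Rhat x ∈ maximalIdeal Rhat := by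
    intro hu
    exact hx (isUnit_of_map_unit (algebraMap R Rhat) x hu)
  have hmem : e t ∈ (⨅ i : ℕ, maximalIdeal Rhat ^ i • ⊤ : Submodule Rhat (Rhat ⊗[R] D)) := by
    rw [Submodule.mem_iInf]
    intro n
    obtain ⟨t', ht'⟩ := h n
    have h1 : t = (x ^ n) • t' := by
      rw [ht', ← IsScalarTower.algebraMap_apply R D, ← map_pow, ← Algebra.smul_def]
    rw [h1, map_smul, ← algebraMap_smul Rhat (x ^ n) (e t'), map_pow]
    exact Submodule.smul_mem_smul (Ideal.pow_mem_pow hxhat n) Submodule.mem_top
  rw [Ideal.iInf_pow_smul_eq_bot_of_isLocalRing _ Ideal.IsPrime.ne_top', Submodule.mem_bot] at hmem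
  exact e.map_eq_zero_iff.mp hmem

/-- if `𝔪` kills the domain `D` finite over `R`, then `D ⊗ R̂` is reduced -/
theorem isReduced_tensor_of_forall_algebraMap_eq_zero (D : Type u) [CommRing D] [IsDomain D]
    [Algebra R D] [Module.Finite R D] (h : ∀ x ∈ maximalIdeal R, algebraMap R D x = 0) :
    IsReduced (D ⊗[R] AdicCompletion (maximalIdeal R) R) := by
  let Rhat := AdicCompletion (maximalIdeal R) R
  let k := ResidueField R
  -- `D` is a field
  letI : Algebra k D := (Ideal.Quotient.lift (maximalIdeal R) (algebraMap R D) h).toAlgebra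
  haveI : IsScalarTower R k D := IsScalarTower.of_algebraMap_eq' rfl
  haveI : Module.Finite k D := Module.Finite.of_restrictScalars_finite R k D
  haveI : IsArtinianRing D := IsArtinianRing.of_finite k D
  have hfield : IsField D := IsArtinianRing.isField_of_isDomain D
  -- `D → D ⊗ R̂` is surjective
  have hker : ∀ m ∈ (maximalIdeal R).map (algebraMap R Rhat), ∀ d : D, d ⊗ₜ[R] m = 0 := by
    intro m hm
    induction hm using Submodule.span_induction with
    | mem m hm =>
      obtain ⟨r, hr, rfl⟩ := hm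
      intro d
      rw [Algebra.algebraMap_eq_smul_one, ← TensorProduct.smul_tmul, Algebra.smul_def, h r hr,
        zero_mul, TensorProduct.zero_tmul]
    | zero => intro d; exact TensorProduct.tmul_zero _ _
    | add m₁ m₂ _ _ h₁ h₂ => intro d; rw [TensorProduct.tmul_add, h₁ d, h₂ d, add_zero]
    | smul s m _ hm' =>
      intro d
      have : d ⊗ₜ[R] (s • m) = ((1 : D) ⊗ₜ[R] s) * (d ⊗ₜ[R] m) := by
        rw [Algebra.TensorProduct.tmul_mul_tmul, one_mul, smul_eq_mul]
      rw [this, hm' d, mul_zero]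
  have hsurj : Function.Surjective
      (Algebra.TensorProduct.includeLeft : D →ₐ[R] D ⊗[R] Rhat) := by
    intro t
    induction t using TensorProduct.induction_on with
    | zero => exact ⟨0, map_zero _⟩
    | tmul d r =>
      obtain ⟨r₀, hr₀⟩ := Ideal.Quotient.mk_surjective (AdicCompletion.evalOneₐ (maximalIdeal R) r)
      have hmem : r - algebraMap R Rhat r₀ ∈ (maximalIdeal R).map (algebraMap R Rhat) := by
        rw [← AdicCompletion.ker_evalOneₐ_eq_map _ (maximalIdeal R).fg_of_isNoetherianRing,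
          RingHom.mem_ker, map_sub]
        change AdicCompletion.evalOneₐ (maximalIdeal R) r -
          AdicCompletion.evalOneₐ (maximalIdeal R) (algebraMap R Rhat r₀) = 0
        rw [← hr₀, sub_eq_zero]
        rfl
      refine ⟨r₀ • d, ?_⟩
      have h1 := hker _ hmem d
      rw [TensorProduct.tmul_sub, sub_eq_zero] at h1
      rw [Algebra.TensorProduct.includeLeft_apply, h1, Algebra.algebraMap_eq_smul_one,
        TensorProduct.smul_tmul]
    | add t₁ t₂ h₁ h₂ =>
      obtain ⟨d₁, rfl⟩ := h₁
      obtain ⟨d₂, rfl⟩ := h₂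
      exact ⟨d₁ + d₂, map_add _ _ _⟩
  refine ⟨fun t ht => ?_⟩
  obtain ⟨d, rfl⟩ := hsurj t
  by_cases hd : d = 0
  · rw [hd, map_zero]
  · obtain ⟨d', hd'⟩ := hfield.mul_inv_cancel hd
    have hu : IsUnit ((Algebra.TensorProduct.includeLeft : D →ₐ[R] D ⊗[R] Rhat) d) :=
      IsUnit.map _ (IsUnit.of_mul_eq_one _ hd')
    obtain ⟨n, hn⟩ := ht
    have h0 : IsUnit (0 : D ⊗[R] Rhat) := hn ▸ hu.pow n
    haveI : Subsingleton (D ⊗[R] Rhat) := isUnit_zero_iff.mp h0 |> subsingleton_of_zero_eq_one
    exact Subsingleton.elim _ _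

theorem exists_lt_of_add_one_le {a : WithBot ℕ∞} {n : ℕ} (ha : 0 ≤ a) (h : a + 1 ≤ n) :
    ∃ m : ℕ, m < n ∧ a ≤ m := by
  induction a using WithBot.recBotCoe with
  | bot => simp at ha
  | coe e =>
    induction e using ENat.recTopCoe with
    | top =>
      exfalso
      have : ((⊤ : ℕ∞) : WithBot ℕ∞) + 1 = ((⊤ : ℕ∞) : WithBot ℕ∞) := by
        rw [← WithBot.coe_one, ← WithBot.coe_add, top_add]
      rw [this] at h
      have h2 : ((⊤ : ℕ∞) : WithBot ℕ∞) ≤ ((n : ℕ∞) : WithBot ℕ∞) := h
      rw [WithBot.coe_le_coe] at h2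
      exact absurd h2 (by simp)
    | coe m' =>
      have h2 : (((m' + 1 : ℕ) : ℕ∞) : WithBot ℕ∞) ≤ ((n : ℕ∞) : WithBot ℕ∞) := by
        simpa using h
      rw [WithBot.coe_le_coe, Nat.cast_le] at h2
      exact ⟨m', by omega, le_rfl⟩

/-- **Stacks 0331, inductive form**: for a Nagata domain `D` finite over the Noetherian local
ring `R`, the ring `D ⊗ R̂` is reduced. -/
theorem isReduced_tensor_adicCompletion_aux :
    ∀ (n : ℕ) (D : Type u) [CommRing D] [IsDomain D] [Algebra R D] [Module.Finite R D],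
      CAlg.IsNagata D → ringKrullDim D ≤ n →
      IsReduced (D ⊗[R] AdicCompletion (maximalIdeal R) R) := by
  intro n
  induction n using Nat.strong_induction_on with
  | _ n ih =>
    intro D _ _ _ _ hN hdim
    let Rhat := AdicCompletion (maximalIdeal R) R
    haveI := hN.1
    haveI : Module.Flat R Rhat := inferInstance
    -- normalization
    let D' := integralClosure D (FractionRing D)
    haveI hfinD' : Module.Finite D D' := isN1_of_isNagata D hN
    haveI : Module.Finite R D' := Module.Finite.trans D D'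
    have hN' : CAlg.IsNagata D' := isNagata_of_finite D D' hN
    haveI := hN'.1
    haveI : IsIntegrallyClosed D' :=
      integralClosure.isIntegrallyClosedOfFiniteExtension (FractionRing D)
    have hdim' : ringKrullDim D' ≤ n :=
      le_trans (Groth.Agent.Lib.Helper11.IntegralDim.ringKrullDim_le_of_isIntegral (R := D)) hdim
    suffices hD' : IsReduced (D' ⊗[R] Rhat) by
      have hinj : Function.Injective
          (Algebra.TensorProduct.map (IsScalarTower.toAlgHom R D D') (AlgHom.id R Rhat)) :=
        Module.Flat.rTensor_preserves_injective_linearMap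
          (IsScalarTower.toAlgHom R D D').toLinearMap
          (FaithfulSMul.algebraMap_injective D D')
      exact isReduced_of_injective _ hinj
    by_cases hex : ∃ x ∈ maximalIdeal R, algebraMap R D' x ≠ 0
    · obtain ⟨x, hx, hx'⟩ := hex
      refine isReduced_of_zariski (S := D') (T := D' ⊗[R] Rhat) hx' ?_
        (eq_zero_of_forall_pow_dvd R D' hx)
      intro p hp
      haveI : p.IsPrime := hp.isPrime
      haveI : Module.Finite R (D' ⧸ p) :=
        Module.Finite.of_surjective (Ideal.Quotient.mkₐ R p).toLinearMap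
          (Ideal.Quotient.mkₐ_surjective R p)
      have hNp : CAlg.IsNagata (D' ⧸ p) := isNagata_of_finite D' (D' ⧸ p) hN'
      have hxp : algebraMap R D' x ∈ p := (exists_uniformizer_of_mem_associatedPrimes hx' hp).1
      have hle : Ideal.span {algebraMap R D' x} ≤ p := (Ideal.span_singleton_le_iff_mem _).mpr hxp
      have hd1 : ringKrullDim (D' ⧸ p) + 1 ≤ n := by
        calc ringKrullDim (D' ⧸ p) + 1
            ≤ ringKrullDim (D' ⧸ Ideal.span {algebraMap R D' x}) + 1 := by
              gcongr
              exact ringKrullDim_le_of_surjective (Ideal.Quotient.factor hle)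
                (Ideal.Quotient.factor_surjective hle)
          _ ≤ ringKrullDim D' :=
              ringKrullDim_quotient_succ_le_of_nonZeroDivisor (mem_nonZeroDivisors_of_ne_zero hx')
          _ ≤ n := hdim'
      obtain ⟨m, hm, hdm⟩ := exists_lt_of_add_one_le ringKrullDim_nonneg_of_nontrivial hd1
      have hred := ih m hm (D' ⧸ p) hNp hdm
      let e := Algebra.TensorProduct.quotientTensorEquiv (R := R) R Rhat D' p
      exact isReduced_of_injective e.symm e.symm.injective
    · push Not at hex
      exact isReduced_tensor_of_forall_algebraMap_eq_zero R D' hex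

end Completion

section Main

theorem exists_nat_ge_of_lt_top {a : WithBot ℕ∞} (h : a < ⊤) : ∃ n : ℕ, a ≤ n := by
  induction a using WithBot.recBotCoe with
  | bot => exact ⟨0, bot_le⟩
  | coe e =>
    induction e using ENat.recTopCoe with
    | top => exact absurd h (lt_irrefl _)
    | coe m => exact ⟨m, le_rfl⟩

/-- for a Nagata domain `D` finite over the Noetherian local ring `R`, `D ⊗ R̂` is reduced -/
theorem isReduced_tensor_adicCompletion (R : Type u) [CommRing R] [IsNoetherianRing R]
    [IsLocalRing R] (D : Type u) [CommRing D] [IsDomain D] [Algebra R D] [Module.Finite R D]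
    (hD : CAlg.IsNagata D) : IsReduced (D ⊗[R] AdicCompletion (maximalIdeal R) R) := by
  haveI : Algebra.IsIntegral R D := Algebra.IsIntegral.of_finite R D
  have h1 : ringKrullDim D ≤ ringKrullDim R :=
    Groth.Agent.Lib.Helper11.IntegralDim.ringKrullDim_le_of_isIntegral
  obtain ⟨n, hn⟩ := exists_nat_ge_of_lt_top (ringKrullDim_lt_top (R := R))
  exact isReduced_tensor_adicCompletion_aux R n D hD (h1.trans hn)

/-- **Stacks 0331**: a Nagata local domain is analytically unramified. -/
theorem isReduced_adicCompletion_of_isNagata (R : Type u) [CommRing R] [IsDomain R]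
    [IsLocalRing R] (hR : CAlg.IsNagata R) : IsReduced (AdicCompletion (maximalIdeal R) R) := by
  haveI := hR.1
  have h := isReduced_tensor_adicCompletion R R hR
  exact isReduced_of_injective (Algebra.TensorProduct.lid R (AdicCompletion (maximalIdeal R) R)).symm
    (AlgEquiv.injective _)

end Main

end Groth.Agent.Lib.Helper88.AnUnram2
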