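import Groth.Prelude.Def_Found
import Groth.Agent.Lib.Helper88.Japanese3
import Mathlib

/-!
# N-1 for Noetherian domains: local criterion (Stacks 0333)

If `R` is a Noetherian domain, `R_f` is integrally closed for some nonzero `f`, and the integral
closure is "locally finite" at every maximal ideal, then the integral closure is finite.
-/

universe u

namespace Groth.Agent.Lib.Helper88

open CAlg

section Core

variable (R : Type u) [CommRing R] [IsDomain R]
  (K : Type u) [Field K] [Algebra R K] [IsFractionRing R K]

/-- the elements of the integral closure with denominator `f^n` -/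
def denomSub (f : R) (n : ℕ) : Submodule R K :=
  Subalgebra.toSubmodule (integralClosure R K) ⊓
    Submodule.comap (LinearMap.lsmul R K (f ^ n)) (LinearMap.range (Algebra.linearMap R K))

variable {R K}

omit [IsDomain R] [IsFractionRing R K] in
theorem mem_denomSub {f : R} {n : ℕ} {y : K} :
    y ∈ denomSub R K f n ↔ IsIntegral R y ∧ ∃ r : R, algebraMap R K r = f ^ n • y := by
  simp only [denomSub, Submodule.mem_inf, Subalgebra.mem_toSubmodule, mem_integralClosure_iff,
    Submodule.mem_comap, LinearMap.lsmul_apply, LinearMap.mem_range, Algebra.linearMap_apply]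

theorem denomSub_mono (f : R) {n m : ℕ} (h : n ≤ m) : denomSub R K f n ≤ denomSub R K f m := by
  intro y hy
  rw [mem_denomSub] at hy ⊢
  obtain ⟨h1, r, hr⟩ := hy
  refine ⟨h1, f ^ (m - n) * r, ?_⟩
  rw [map_mul, hr, ← Algebra.smul_def, smul_smul, ← pow_add, Nat.sub_add_cancel h]

theorem smul_mem_denomSub {f : R} {n : ℕ} {y : K} (hy : y ∈ denomSub R K f (n + 1)) :
    f • y ∈ denomSub R K f n := by
  rw [mem_denomSub] at hy ⊢
  obtain ⟨h1, r, hr⟩ := hy
  refine ⟨?_, r, ?_⟩
  · rw [Algebra.smul_def]
    exact (isIntegral_algebraMap).mul h1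
  · rw [hr, smul_smul, ← pow_succ]

theorem mem_denomSub_of_smul_mem {f : R} {n : ℕ} {y : K} (hy : IsIntegral R y)
    (h : f • y ∈ denomSub R K f n) : y ∈ denomSub R K f (n + 1) := by
  rw [mem_denomSub] at h ⊢
  obtain ⟨_, r, hr⟩ := h
  refine ⟨hy, r, ?_⟩
  rw [hr, smul_smul, ← pow_succ]

theorem denomSub_fg [IsNoetherianRing R] {f : R} (hf : f ≠ 0) (n : ℕ) : (denomSub R K f n).FG := by
  have hfK : algebraMap R K (f ^ n) ≠ 0 := by
    rw [Ne, map_eq_zero_iff _ (IsFractionRing.injective R K)]
    exact pow_ne_zero n hf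
  have hle : denomSub R K f n ≤ Submodule.span R {(algebraMap R K (f ^ n))⁻¹} := by
    intro y hy
    rw [mem_denomSub] at hy
    obtain ⟨_, r, hr⟩ := hy
    rw [Submodule.mem_span_singleton]
    refine ⟨r, ?_⟩
    rw [Algebra.smul_def, hr, Algebra.smul_def, mul_comm, ← mul_assoc, inv_mul_cancel₀ hfK,
      one_mul]
  exact Submodule.FG.of_le (Submodule.fg_span_singleton _) hle

/-- the colon ideals `(N_n : N_{n+1})` increase -/
theorem colon_denomSub_mono (f : R) (n : ℕ) :
    (denomSub R K f n).colon (denomSub R K f (n + 1) : Set K) ≤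
      (denomSub R K f (n + 1)).colon (denomSub R K f (n + 2) : Set K) := by
  intro r hr
  rw [Submodule.mem_colon] at hr ⊢
  intro y hy
  have hy' : y ∈ denomSub R K f (n + 2) := hy
  have h1 : f • y ∈ denomSub R K f (n + 1) := smul_mem_denomSub hy'
  have h2 : r • f • y ∈ denomSub R K f n := hr _ h1
  have h3 : IsIntegral R (r • y) := by
    rw [Algebra.smul_def]
    exact isIntegral_algebraMap.mul (mem_denomSub.mp hy').1
  apply mem_denomSub_of_smul_mem h3
  rwa [smul_comm]

/-- Core finiteness criterion. -/
theorem finite_integralClosure_of_away_of_local [IsNoetherianRing R] (f : R) (hf : f ≠ 0)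
    (hA : ∀ y : K, IsIntegral R y → ∃ (n : ℕ) (r : R), algebraMap R K r = f ^ n • y)
    (hloc : ∀ m : Ideal R, m.IsMaximal → ∃ T : Finset K, (∀ x ∈ T, IsIntegral R x) ∧
      ∀ y : K, IsIntegral R y → ∃ t : R, t ∉ m ∧ t • y ∈ Submodule.span R (T : Set K)) :
    Module.Finite R (integralClosure R K) := by
  classical
  -- the chain of colon ideals
  let J : ℕ →o Ideal R :=
    ⟨fun n => (denomSub R K f n).colon (denomSub R K f (n + 1) : Set K),
      monotone_nat_of_le_succ (fun n => colon_denomSub_mono f n)⟩
  obtain ⟨n0, hn0⟩ := (monotone_stabilizes_iff_noetherian (R := R) (M := R)).mpr inferInstance J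
  have hexh : ∀ y : K, IsIntegral R y → ∃ n, y ∈ denomSub R K f n := by
    intro y hy
    obtain ⟨n, r, hr⟩ := hA y hy
    exact ⟨n, mem_denomSub.mpr ⟨hy, r, hr⟩⟩
  have htop : J n0 = ⊤ := by
    by_contra hne
    obtain ⟨m, hm, hJm⟩ := Ideal.exists_le_maximal _ hne
    obtain ⟨T, hT, hTy⟩ := hloc m hm
    -- a uniform bound for T
    have hbound : ∃ k, Submodule.span R (T : Set K) ≤ denomSub R K f k := by
      have : ∀ x ∈ T, ∃ k, x ∈ denomSub R K f k := fun x hx => hexh x (hT x hx)
      choose! kf hkf using this
      refine ⟨T.sup kf, Submodule.span_le.mpr ?_⟩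
      intro x hx
      exact denomSub_mono f (Finset.le_sup (f := kf) hx) (hkf x hx)
    obtain ⟨k, hk⟩ := hbound
    let n := max k n0
    have hkn : k ≤ n := le_max_left _ _
    have hn0n : n0 ≤ n := le_max_right _ _
    obtain ⟨G, hG⟩ := denomSub_fg (K := K) hf (n + 1)
    have hGt : ∀ y ∈ G, ∃ t : R, t ∉ m ∧ t • y ∈ denomSub R K f n := by
      intro y hy
      have hyN : y ∈ denomSub R K f (n + 1) := by
        rw [← hG]; exact Submodule.subset_span hy
      obtain ⟨t, htm, hty⟩ := hTy y (mem_denomSub.mp hyN).1
      exact ⟨t, htm, denomSub_mono f hkn (hk hty)⟩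
    choose! tf htf using hGt
    have hprod : (∏ y ∈ G, tf y) ∈ J n := by
      change (∏ y ∈ G, tf y) ∈ (denomSub R K f n).colon (denomSub R K f (n + 1) : Set K)
      have hle : denomSub R K f (n + 1) ≤ Submodule.comap
          ((∏ y ∈ G, tf y) • (LinearMap.id : K →ₗ[R] K)) (denomSub R K f n) := by
        rw [← hG]
        apply Submodule.span_le.mpr
        intro y hy
        change (∏ y ∈ G, tf y) • y ∈ denomSub R K f n
        rw [← Finset.mul_prod_erase G tf hy, mul_comm, mul_smul]
        exact Submodule.smul_mem _ _ (htf y hy).2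
      rw [Submodule.mem_colon]
      intro y hy
      exact hle hy
    have hnotin : (∏ y ∈ G, tf y) ∉ m := by
      intro hmem
      haveI := hm.isPrime
      obtain ⟨y, hy, hym⟩ := (Ideal.IsPrime.prod_mem_iff).mp hmem
      exact (htf y hy).1 hym
    apply hnotin
    apply hJm
    rw [hn0 n hn0n]
    exact hprod
  -- the chain of submodules stabilizes
  have hstab : ∀ n, n0 ≤ n → denomSub R K f n ≤ denomSub R K f n0 := by
    intro n hn
    induction n, hn using Nat.le_induction with
    | base => exact le_rfl
    | succ n hn ih =>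
      refine le_trans ?_ ih
      have h1 : (1 : R) ∈ J n := by
        rw [← hn0 n hn, htop]; exact Submodule.mem_top
      have h1' : (1 : R) ∈ (denomSub R K f n).colon (denomSub R K f (n + 1) : Set K) := h1
      rw [Submodule.mem_colon] at h1'
      intro y hy
      simpa using h1' y hy
  have heq : Subalgebra.toSubmodule (integralClosure R K) = denomSub R K f n0 := by
    apply le_antisymm
    · intro y hy
      obtain ⟨n, hn⟩ := hexh y hy
      rcases le_total n n0 with h | h
      · exact denomSub_mono f h hn
      · exact hstab n h hn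
    · exact inf_le_left
  have : (Subalgebra.toSubmodule (integralClosure R K)).FG := by
    rw [heq]; exact denomSub_fg hf n0
  exact Module.Finite.of_fg this

end Core

section Away

variable (R : Type u) [CommRing R] [IsDomain R]
  (K : Type u) [Field K] [Algebra R K] [IsFractionRing R K]

/-- if `R_f` is integrally closed, every integral element of the fraction field has a power of
`f` as denominator -/
theorem exists_pow_smul_eq_of_isIntegrallyClosed_away (f : R) (Rf : Type u) [CommRing Rf]
    [IsDomain Rf] [Algebra R Rf] [IsLocalization.Away f Rf] [IsIntegrallyClosed Rf]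
    (y : K) (hy : IsIntegral R y) : ∃ (n : ℕ) (r : R), algebraMap R K r = f ^ n • y := by
  letI : Algebra Rf K := (awayLift R K f Rf).toAlgebra
  haveI : IsScalarTower R Rf K :=
    IsScalarTower.of_algebraMap_eq (fun x => (awayLift_algebraMap R K f Rf x).symm)
  haveI : IsFractionRing Rf K :=
    IsFractionRing.isFractionRing_of_isDomain_of_isLocalization (Submonoid.powers f) Rf K
  have hy' : IsIntegral Rf y := hy.tower_top
  obtain ⟨z, hz⟩ := (IsIntegrallyClosed.isIntegral_iff (R := Rf) (K := K)).mp hy'
  obtain ⟨n, a, ha⟩ := IsLocalization.Away.surj f z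
  refine ⟨n, a, ?_⟩
  have := congrArg (algebraMap Rf K) ha
  rw [map_mul, hz, ← IsScalarTower.algebraMap_apply, map_pow,
    ← IsScalarTower.algebraMap_apply] at this
  rw [← this, Algebra.smul_def, mul_comm, map_pow]

end Away

section AtPrime

variable (R : Type u) [CommRing R] [IsDomain R]
  (K : Type u) [Field K] [Algebra R K] [IsFractionRing R K]

/-- if a localization `R_M` is N-1, the integral closure of `R` is generated, up to denominators
in `M`, by finitely many elements -/
theorem exists_finset_of_isN1'_isLocalization (M : Submonoid R) (Rm : Type u) [CommRing Rm]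
    [IsDomain Rm] [Algebra R Rm] [IsLocalization M Rm] (h : IsN1' Rm) :
    ∃ T : Finset K, (∀ x ∈ T, IsIntegral R x) ∧
      ∀ y : K, IsIntegral R y → ∃ t : R, t ∈ M ∧ t • y ∈ Submodule.span R (T : Set K) := by
  classical
  have hinj := injective_algebraMap_of_isLocalization_of_isDomain R M Rm
  have hunit : ∀ s : M, IsUnit (algebraMap R K s) := by
    intro s
    apply IsUnit.mk0
    rw [Ne, map_eq_zero_iff _ (IsFractionRing.injective R K)]
    intro h0
    have := IsLocalization.map_units Rm s
    rw [h0, map_zero] at this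
    exact not_isUnit_zero this
  letI : Algebra Rm K := (IsLocalization.lift (M := M) (S := Rm) hunit).toAlgebra
  haveI : IsScalarTower R Rm K :=
    IsScalarTower.of_algebraMap_eq (fun x => (IsLocalization.lift_eq hunit x).symm)
  haveI : IsFractionRing Rm K :=
    IsFractionRing.isFractionRing_of_isDomain_of_isLocalization M Rm K
  have hfin : Module.Finite Rm (integralClosure Rm K) := h K
  have hfg : (Subalgebra.toSubmodule (integralClosure Rm K)).FG :=
    (Submodule.fg_top _).mp ((Module.finite_def).mp hfin)
  obtain ⟨T0, hT0⟩ := hfg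
  have hmult : ∀ z ∈ T0, ∃ s : M, IsIntegral R (s • z) := by
    intro z hz
    have hz' : IsIntegral Rm z := by
      have : z ∈ Subalgebra.toSubmodule (integralClosure Rm K) := by
        rw [← hT0]; exact Submodule.subset_span hz
      exact this
    exact IsIntegral.exists_multiple_integral_of_isLocalization M z hz'
  choose! sf hsf using hmult
  refine ⟨T0.image (fun z => sf z • z), ?_, ?_⟩
  · intro x hx
    obtain ⟨z, hz, rfl⟩ := Finset.mem_image.mp hx
    exact hsf z hz
  · intro y hy
    have hy' : y ∈ Submodule.span Rm (T0 : Set K) := by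
      rw [hT0]
      exact (hy.tower_top : IsIntegral Rm y)
    clear hy
    induction hy' using Submodule.span_induction with
    | mem z hz =>
      refine ⟨sf z, (sf z).2, Submodule.subset_span ?_⟩
      rw [Finset.coe_image]
      exact ⟨z, hz, rfl⟩
    | zero => exact ⟨1, M.one_mem, by simp⟩
    | add a b _ _ iha ihb =>
      obtain ⟨t1, ht1, h1⟩ := iha
      obtain ⟨t2, ht2, h2⟩ := ihb
      refine ⟨t1 * t2, M.mul_mem ht1 ht2, ?_⟩
      rw [smul_add]
      apply Submodule.add_mem
      · rw [mul_comm, mul_smul]; exact Submodule.smul_mem _ _ h1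
      · rw [mul_smul]; exact Submodule.smul_mem _ _ h2
    | smul a z _ ih =>
      obtain ⟨t, ht, h1⟩ := ih
      obtain ⟨⟨r, s⟩, hrs⟩ := IsLocalization.surj M a
      refine ⟨s * t, M.mul_mem s.2 ht, ?_⟩
      have : ((s : R) * t) • a • z = r • t • z := by
        simp only [Algebra.smul_def, IsScalarTower.algebraMap_apply R Rm K, map_mul]
        have h2 : algebraMap Rm K a * algebraMap Rm K (algebraMap R Rm s) =
            algebraMap Rm K (algebraMap R Rm r) := by
          rw [← map_mul]; exact congrArg _ hrs
        rw [← h2]; ring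
      rw [this]
      exact Submodule.smul_mem _ _ h1

end AtPrime

section NormalLocus

variable (R : Type u) [CommRing R] [IsDomain R]
  (K : Type u) [Field K] [Algebra R K] [IsFractionRing R K]

/-- a localization `R_M` of a domain is integrally closed iff every element of the fraction field
integral over `R` has a denominator in `M` -/
theorem isIntegrallyClosed_iff_of_isLocalization (M : Submonoid R) (Rm : Type u) [CommRing Rm]
    [IsDomain Rm] [Algebra R Rm] [IsLocalization M Rm] :
    IsIntegrallyClosed Rm ↔
      ∀ y : K, IsIntegral R y → ∃ s : R, s ∈ M ∧ ∃ r : R, algebraMap R K r = s • y := by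
  have hunit : ∀ s : M, IsUnit (algebraMap R K s) := by
    intro s
    apply IsUnit.mk0
    rw [Ne, map_eq_zero_iff _ (IsFractionRing.injective R K)]
    intro h0
    have := IsLocalization.map_units Rm s
    rw [h0, map_zero] at this
    exact not_isUnit_zero this
  letI : Algebra Rm K := (IsLocalization.lift (M := M) (S := Rm) hunit).toAlgebra
  haveI : IsScalarTower R Rm K :=
    IsScalarTower.of_algebraMap_eq (fun x => (IsLocalization.lift_eq hunit x).symm)
  haveI : IsFractionRing Rm K :=
    IsFractionRing.isFractionRing_of_isDomain_of_isLocalization M Rm K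
  rw [isIntegrallyClosed_iff K]
  constructor
  · intro h y hy
    obtain ⟨z, hz⟩ := h (hy.tower_top : IsIntegral Rm y)
    obtain ⟨⟨r, s⟩, hrs⟩ := IsLocalization.surj M z
    refine ⟨s, s.2, r, ?_⟩
    have := congrArg (algebraMap Rm K) hrs
    rw [map_mul, hz, ← IsScalarTower.algebraMap_apply, ← IsScalarTower.algebraMap_apply] at this
    rw [← this, Algebra.smul_def, mul_comm]
  · intro h x hx
    obtain ⟨s, hs⟩ := IsIntegral.exists_multiple_integral_of_isLocalization M x hx
    obtain ⟨t, ht, r, hr⟩ := h _ hs
    have hts : t * (s : R) ∈ M := M.mul_mem ht s.2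
    refine ⟨IsLocalization.mk' Rm r ⟨t * s, hts⟩, ?_⟩
    have hne : algebraMap R K (t * (s : R)) ≠ 0 := (hunit ⟨t * s, hts⟩).ne_zero
    have h1 : algebraMap Rm K (IsLocalization.mk' Rm r ⟨t * s, hts⟩) *
        algebraMap R K (t * (s : R)) = algebraMap R K r := by
      rw [IsScalarTower.algebraMap_apply R Rm K (t * (s : R)), ← map_mul,
        IsScalarTower.algebraMap_apply R Rm K r]
      congr 1
      exact IsLocalization.mk'_spec Rm r ⟨t * s, hts⟩
    have h2 : x * algebraMap R K (t * (s : R)) = algebraMap R K r := by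
      rw [hr, Submonoid.smul_def, smul_smul, Algebra.smul_def, mul_comm]
    exact mul_right_cancel₀ hne (h1.trans h2.symm)

variable {R K}

theorem mem_denomSub_zero {f : R} {y : K} :
    y ∈ denomSub R K f 0 ↔ ∃ r : R, algebraMap R K r = y := by
  rw [mem_denomSub]
  constructor
  · rintro ⟨_, r, hr⟩
    exact ⟨r, by rw [hr, pow_zero, one_smul]⟩
  · rintro ⟨r, rfl⟩
    exact ⟨isIntegral_algebraMap, r, by rw [pow_zero, one_smul]⟩

/-- the key local criterion: if `r0 ∈ (N_0 : N_1)`, then every element of `N_n` has a power of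
`r0` as denominator. -/
theorem exists_pow_smul_of_mem_colon {f r0 : R}
    (hr0 : r0 ∈ (denomSub R K f 0).colon (denomSub R K f 1 : Set K)) (n : ℕ) :
    ∀ y ∈ denomSub R K f n, ∃ r : R, algebraMap R K r = r0 ^ n • y := by
  induction n with
  | zero =>
    intro y hy
    obtain ⟨r, hr⟩ := mem_denomSub_zero.mp hy
    exact ⟨r, by rw [hr, pow_zero, one_smul]⟩
  | succ n ih =>
    intro y hy
    obtain ⟨hyi, r, hr⟩ := mem_denomSub.mp hy
    have h1 : f ^ n • y ∈ denomSub R K f 1 := by
      rw [mem_denomSub]
      refine ⟨?_, r, ?_⟩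
      · rw [Algebra.smul_def]; exact isIntegral_algebraMap.mul hyi
      · rw [hr, smul_smul, pow_one, ← pow_succ']
    rw [Submodule.mem_colon] at hr0
    obtain ⟨r1, hr1⟩ := mem_denomSub_zero.mp (hr0 _ h1)
    have h2 : r0 • y ∈ denomSub R K f n := by
      rw [mem_denomSub]
      refine ⟨?_, r1, ?_⟩
      · rw [Algebra.smul_def]; exact isIntegral_algebraMap.mul hyi
      · rw [hr1, smul_comm]
    obtain ⟨r2, hr2⟩ := ih _ h2
    exact ⟨r2, by rw [hr2, smul_smul, ← pow_succ]⟩

end NormalLocus

end Groth.Agent.Lib.Helper88
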