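import Groth.Prelude.Def_Found
import Groth.Agent.Lib.Helper88.Japanese12
import Groth.Agent.Lib.Helper88.Japanese8
import Groth.Agent.Lib.Helper88.Japanese10
import Groth.Agent.S4562
import Mathlib

/-!
# Polynomial rings over N-1 / N-2 Noetherian domains (Stacks 032O)
-/

universe u

namespace Groth.Agent.Lib.Helper88.PolyN2

open Polynomial CAlg

section Frob

variable {R K L : Type*} [CommRing R] [Field K] [Field L] [Algebra R K]
  [Algebra K L] [Algebra R L] [IsScalarTower R K L] (p e : ℕ) [ExpChar K p] (ψ : L →+* K)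

/-- `R[X] → L[Z]`, `X ↦ Z ^ q`. -/
noncomputable def iota : R[X] →+* L[X] :=
  Polynomial.eval₂RingHom ((C : L →+* L[X]).comp (algebraMap R L)) (X ^ p ^ e)

theorem map_iota (hψ : ∀ l, algebraMap K L (ψ l) = l ^ p ^ e) (w : R[X]) :
    (iota (R := R) (L := L) p e w).map ψ = (w.map (algebraMap R K)) ^ p ^ e := by
  haveI : ExpChar K[X] p := expChar_of_injective_ringHom (C_injective (R := K)) p
  have hψK : ∀ k : K, ψ (algebraMap K L k) = k ^ p ^ e := by
    intro k
    apply (algebraMap K L).injective
    rw [hψ, map_pow]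
  induction w using Polynomial.induction_on' with
  | add f g hf hg =>
    rw [map_add, Polynomial.map_add, Polynomial.map_add, hf, hg, add_pow_expChar_pow]
  | monomial n r =>
    rw [← C_mul_X_pow_eq_monomial, map_mul, map_pow]
    simp only [iota, Polynomial.coe_eval₂RingHom, eval₂_C, eval₂_X, RingHom.comp_apply]
    rw [Polynomial.map_mul, Polynomial.map_pow, Polynomial.map_pow, map_C, map_X,
      Polynomial.map_mul, Polynomial.map_pow, map_C, map_X, mul_pow,
      IsScalarTower.algebraMap_apply R K L, hψK, ← C_pow, ← pow_mul, ← pow_mul, mul_comm n]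

theorem exists_of_mul_eq (g f : L[X]) (h : K[X]) (hg : g ≠ 0)
    (H : g.map ψ * h = f.map ψ) : ∃ h' : L[X], h'.map ψ = h := by
  have hdvd : g.map ψ ∣ f.map ψ := ⟨h, H.symm⟩
  obtain ⟨h', hh'⟩ := (Polynomial.map_dvd_map' ψ).mp hdvd
  refine ⟨h', ?_⟩
  have hg' : g.map ψ ≠ 0 := by rwa [Ne, Polynomial.map_eq_zero]
  apply mul_left_cancel₀ hg'
  rw [H, hh', Polynomial.map_mul]

theorem isIntegral_of_map_eq (hp : 0 < p ^ e) (hψ : ∀ l, algebraMap K L (ψ l) = l ^ p ^ e)
    (l : L) (r : R) (h : ψ l = algebraMap R K r) : IsIntegral R l := by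
  refine ⟨X ^ p ^ e - C r, monic_X_pow_sub_C r hp.ne', ?_⟩
  rw [eval₂_sub, eval₂_pow, eval₂_X, eval₂_C, ← hψ, h, ← IsScalarTower.algebraMap_apply, sub_self]

/-- the generators `ρ_t Z^i`, `i < q` -/
noncomputable def gens (ρ : Finset L) : Set L[X] :=
  {g | ∃ t ∈ ρ, ∃ i < p ^ e, g = C t * X ^ i}

theorem gens_finite (ρ : Finset L) : (gens p e ρ).Finite := by
  classical
  have : gens p e ρ ⊆ ((ρ ×ˢ Finset.range (p ^ e)).image
      (fun ti : L × ℕ => C ti.1 * X ^ ti.2) : Finset L[X]) := by
    rintro g ⟨t, ht, i, hi, rfl⟩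
    simp only [Finset.coe_image, Set.mem_image, Finset.mem_coe, Finset.mem_product,
      Finset.mem_range]
    exact ⟨(t, i), ⟨ht, hi⟩, rfl⟩
  exact (Finset.finite_toSet _).subset this

theorem mem_span_of_coeff_mem (hp : 0 < p ^ e) (ρ : Finset L) (h : L[X])
    (hh : ∀ j, coeff h j ∈ Submodule.span R (ρ : Set L)) :
    letI := (iota (R := R) (L := L) p e).toAlgebra
    h ∈ Submodule.span R[X] (gens p e ρ) := by
  classical
  letI := (iota (R := R) (L := L) p e).toAlgebra
  have hsmul : ∀ (a : R[X]) (g : L[X]), a • g = iota (R := R) (L := L) p e a * g := fun a g => rfl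
  rw [← Polynomial.sum_monomial_eq h, Polynomial.sum_def]
  refine Submodule.sum_mem _ (fun j _ => ?_)
  have hj := hh j
  rw [Submodule.mem_span_finset] at hj
  obtain ⟨c, -, hc⟩ := hj
  rw [← hc, ← C_mul_X_pow_eq_monomial, map_sum, Finset.sum_mul]
  refine Submodule.sum_mem _ (fun t ht => ?_)
  have key : C (c t • t) * X ^ j =
      (C (c t) * X ^ (j / p ^ e) : R[X]) • (C t * X ^ (j % p ^ e) : L[X]) := by
    rw [hsmul, map_mul, map_pow]
    simp only [iota, Polynomial.coe_eval₂RingHom, eval₂_C, eval₂_X, RingHom.comp_apply]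
    rw [Algebra.smul_def, map_mul]
    have : (X : L[X]) ^ j = (X ^ p ^ e) ^ (j / p ^ e) * X ^ (j % p ^ e) := by
      rw [← pow_mul, ← pow_add, Nat.div_add_mod]
    rw [this]
    ring
  rw [key]
  exact Submodule.smul_mem _ _ (Submodule.subset_span ⟨t, ht, j % p ^ e, Nat.mod_lt _ hp, rfl⟩)

end Frob

/-- a finite extension containing `q`-th roots of finitely many elements, with its
`q`-power map back to `K`. -/
theorem exists_root_field (K : Type u) [Field K] (p e : ℕ) [ExpChar K p] (S : Finset K) :
    ∃ (L : Type u) (_ : Field L) (_ : Algebra K L) (_ : FiniteDimensional K L) (ψ : L →+* K),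
      (∀ l, algebraMap K L (ψ l) = l ^ p ^ e) ∧ ∀ s ∈ S, ∃ σ : L, ψ σ = s := by
  classical
  have hq : 0 < p ^ e := pow_pos (expChar_pos K p) e
  let Ω := AlgebraicClosure K
  haveI : ExpChar Ω p := expChar_of_injective_algebraMap (algebraMap K Ω).injective p
  have hex : ∀ s : K, ∃ σ : Ω, σ ^ p ^ e = algebraMap K Ω s :=
    fun s => IsAlgClosed.exists_pow_nat_eq _ hq
  choose σ hσ using hex
  let L := IntermediateField.adjoin K ((S.image σ : Finset Ω) : Set Ω)
  have hint : ∀ x ∈ ((S.image σ : Finset Ω) : Set Ω), IsIntegral K x := by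
    intro x hx
    simp only [Finset.coe_image, Set.mem_image, Finset.mem_coe] at hx
    obtain ⟨s, -, rfl⟩ := hx
    exact ⟨X ^ p ^ e - C s, monic_X_pow_sub_C s hq.ne', by simp [hσ]⟩
  haveI : FiniteDimensional K L :=
    IntermediateField.finiteDimensional_adjoin (fun x hx => hint x hx)
  have hpow : ∀ a ∈ L, a ^ p ^ e ∈ (algebraMap K Ω).fieldRange := by
    intro a ha
    induction ha using IntermediateField.adjoin_induction with
    | mem a ha =>
      simp only [Finset.coe_image, Set.mem_image, Finset.mem_coe] at ha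
      obtain ⟨s, -, rfl⟩ := ha
      exact ⟨s, (hσ s).symm⟩
    | algebraMap a => exact ⟨a ^ p ^ e, by rw [map_pow]⟩
    | add a b _ _ ha hb =>
      rw [add_pow_expChar_pow]
      exact add_mem ha hb
    | inv a _ ha =>
      rw [inv_pow]
      exact inv_mem ha
    | mul a b _ _ ha hb =>
      rw [mul_pow]
      exact mul_mem ha hb
  have hex2 : ∀ l : L, ∃ k : K, algebraMap K Ω k = (l : Ω) ^ p ^ e := fun l => hpow l l.2
  choose ψf hψf using hex2
  have hinj : Function.Injective (algebraMap K Ω) := (algebraMap K Ω).injective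
  let ψ : L →+* K :=
    { toFun := ψf
      map_one' := hinj (by rw [hψf, map_one]; simp)
      map_mul' := fun a b => hinj (by
        rw [hψf, map_mul, hψf, hψf]; simp [mul_pow])
      map_zero' := hinj (by
        rw [hψf, map_zero]
        change (0 : Ω) ^ p ^ e = 0
        exact zero_pow hq.ne')
      map_add' := fun a b => hinj (by
        rw [hψf, map_add, hψf, hψf]
        simp [add_pow_expChar_pow]) }
  refine ⟨L, inferInstance, inferInstance, inferInstance, ψ, ?_, ?_⟩
  · intro l
    apply Subtype.ext
    change algebraMap K Ω (ψf l) = ((l ^ p ^ e : L) : Ω)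
    rw [hψf]
    simp
  · intro s hs
    refine ⟨⟨σ s, IntermediateField.subset_adjoin K _ (by
      simp only [Finset.coe_image, Set.mem_image, Finset.mem_coe]
      exact ⟨s, hs, rfl⟩)⟩, ?_⟩
    apply hinj
    change algebraMap K Ω (ψf _) = _
    rw [hψf]
    exact hσ s

/-- the key equation for integral elements of a finite purely inseparable extension -/
theorem exists_key_equation (A : Type u) [CommRing A] [IsDomain A] [IsIntegrallyClosed A]
    (F M : Type u) [Field F] [Algebra A F] [IsFractionRing A F] [Field M] [Algebra A M]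
    [Algebra F M] [IsScalarTower A F M] [FiniteDimensional F M] [IsPurelyInseparable F M]
    (p : ℕ) [ExpChar F p] :
    ∃ (e n : ℕ) (a : Fin n → A) (d : A), d ≠ 0 ∧ ∀ b : M, IsIntegral A b →
      ∃ θ : A, algebraMap A M θ = b ^ p ^ e ∧ ∃ (v : A) (u : Fin n → A), v ≠ 0 ∧
        d * v ^ p ^ e * θ = ∑ i, (u i) ^ p ^ e * a i := by
  classical
  haveI : ExpChar M p := expChar_of_injective_algebraMap (algebraMap F M).injective p
  let e := IsPurelyInseparable.exponent F M
  obtain ⟨n, m, hm⟩ := Module.Finite.exists_fin (R := F) (M := M)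
  have hn : ∀ i, ∃ f : F, algebraMap F M f = (m i) ^ p ^ e :=
    fun i => IsPurelyInseparable.exponent_def' F p (m i)
  choose nF hnF using hn
  obtain ⟨⟨d, hdmem⟩, hd⟩ := IsLocalization.exist_integer_multiples_of_finset
    (nonZeroDivisors A) (Finset.univ.image nF)
  have hd0 : d ≠ 0 := nonZeroDivisors.ne_zero hdmem
  have ha : ∀ i, ∃ a : A, algebraMap A F a = d • nF i :=
    fun i => hd (nF i) (Finset.mem_image_of_mem _ (Finset.mem_univ i))
  choose a ha using ha
  refine ⟨e, n, a, d, hd0, ?_⟩
  intro b hb
  obtain ⟨f, hf⟩ := IsPurelyInseparable.exponent_def' F p b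
  have hfint : IsIntegral A f := by
    have h1 : IsIntegral A (algebraMap F M f) := by rw [hf]; exact hb.pow _
    exact (isIntegral_algebraMap_iff (algebraMap F M).injective).mp h1
  obtain ⟨θ, hθ⟩ := IsIntegrallyClosed.isIntegral_iff.mp hfint
  refine ⟨θ, by rw [IsScalarTower.algebraMap_apply A F M, hθ, hf], ?_⟩
  have hbm : b ∈ Submodule.span F (Set.range m) := by rw [hm]; trivial
  obtain ⟨c, hc⟩ := (Submodule.mem_span_range_iff_exists_fun F).mp hbm
  obtain ⟨⟨v, hvmem⟩, hv⟩ := IsLocalization.exist_integer_multiples_of_finset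
    (nonZeroDivisors A) (Finset.univ.image c)
  have hv0 : v ≠ 0 := nonZeroDivisors.ne_zero hvmem
  have hu : ∀ i, ∃ u : A, algebraMap A F u = v • c i :=
    fun i => hv (c i) (Finset.mem_image_of_mem _ (Finset.mem_univ i))
  choose u hu using hu
  refine ⟨v, u, hv0, ?_⟩
  -- the equation in `F`
  have h1 : algebraMap A F θ = ∑ i, (c i) ^ p ^ e * nF i := by
    apply (algebraMap F M).injective
    rw [hθ, hf, ← hc, sum_pow_char_pow, map_sum]
    refine Finset.sum_congr rfl (fun i _ => ?_)
    rw [Algebra.smul_def, mul_pow, map_mul, map_pow, hnF]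
  apply IsFractionRing.injective A F
  rw [map_mul, map_mul, map_pow, h1, map_sum, Finset.mul_sum]
  refine Finset.sum_congr rfl (fun i _ => ?_)
  rw [map_mul, map_pow, hu, ha, Algebra.smul_def, Algebra.smul_def, mul_pow]
  ring


/-- core: integral closure of `R[X]` in a finite purely inseparable extension of its fraction
field is finite, for `R` a normal Noetherian N-2 domain. -/
theorem finite_integralClosure_of_purelyInseparable (R : Type u) [CommRing R] [IsDomain R]
    [IsNoetherianRing R] [IsIntegrallyClosed R] (hN2 : CAlg.IsN2 R)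
    (M : Type u) [Field M] [Algebra R[X] M] [Algebra (FractionRing R[X]) M]
    [IsScalarTower R[X] (FractionRing R[X]) M] [FiniteDimensional (FractionRing R[X]) M]
    [IsPurelyInseparable (FractionRing R[X]) M] :
    Module.Finite R[X] (integralClosure R[X] M) := by
  classical
  obtain ⟨p, hp⟩ := ExpChar.exists R
  let K := FractionRing R
  let F := FractionRing R[X]
  haveI : ExpChar K p := expChar_of_injective_algebraMap (IsFractionRing.injective R K) p
  haveI : ExpChar R[X] p := expChar_of_injective_ringHom (C_injective (R := R)) p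
  haveI : ExpChar F p := expChar_of_injective_algebraMap (IsFractionRing.injective R[X] F) p
  haveI : ExpChar M p := expChar_of_injective_algebraMap (algebraMap F M).injective p
  obtain ⟨e, n, a, d, hd0, hkey⟩ := exists_key_equation R[X] F M p
  have hq : 0 < p ^ e := pow_pos (expChar_pos K p) e
  let S : Finset K :=
    (d.coeffs ∪ Finset.univ.biUnion (fun i => (a i).coeffs)).image (algebraMap R K)
  obtain ⟨L, _, _, _, ψ, hψ, hS⟩ := exists_root_field K p e S
  letI : Algebra R L := ((algebraMap K L).comp (algebraMap R K)).toAlgebra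
  haveI : IsScalarTower R K L := IsScalarTower.of_algebraMap_eq (fun _ => rfl)
  have hfinL : Module.Finite R (integralClosure R L) := (isN2_iff R).mp hN2 K L inferInstance
  have hfg : (Subalgebra.toSubmodule (integralClosure R L)).FG := Module.Finite.iff_fg.mp hfinL
  obtain ⟨ρ, hρ⟩ := hfg
  let ι : R[X] →+* L[X] := iota (R := R) (L := L) p e
  letI : Algebra R[X] L[X] := ι.toAlgebra
  have hsmul : ∀ (c : R[X]) (g : L[X]), c • g = ι c * g := fun c g => rfl
  let N₁ : Submodule R[X] L[X] := Submodule.span R[X] (gens p e ρ)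
  haveI : IsNoetherian R[X] N₁ :=
    isNoetherian_of_fg_of_noetherian N₁ ⟨(gens_finite p e ρ).toFinset, by simp [N₁]⟩
  let φ : R[X] →+* K[X] := mapRingHom (algebraMap R K)
  have hφinj : Function.Injective φ := Polynomial.map_injective _ (IsFractionRing.injective R K)
  have hψinj : Function.Injective (Polynomial.map ψ) := Polynomial.map_injective _ ψ.injective
  have hAM : Function.Injective (algebraMap R[X] M) := by
    rw [IsScalarTower.algebraMap_eq R[X] F M]
    exact (algebraMap F M).injective.comp (IsFractionRing.injective R[X] F)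
  -- lifting polynomials with coefficients in `S`
  have hlift : ∀ f : R[X], (∀ j, f.coeff j ≠ 0 → algebraMap R K (f.coeff j) ∈ S) →
      ∃ α : L[X], α.map ψ = f.map (algebraMap R K) := by
    intro f hf
    have : f.map (algebraMap R K) ∈ Polynomial.lifts ψ := by
      rw [Polynomial.lifts_iff_coeff_lifts]
      intro j
      rw [coeff_map]
      by_cases h0 : f.coeff j = 0
      · exact ⟨0, by rw [h0, map_zero, map_zero]⟩
      · obtain ⟨σ, hσ⟩ := hS _ (hf j h0)
        exact ⟨σ, hσ⟩
    exact (Polynomial.mem_lifts _).mp this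
  obtain ⟨δ, hδ⟩ := hlift d (fun j hj => Finset.mem_image_of_mem _
    (Finset.mem_union_left _ (Polynomial.coeff_mem_coeffs hj)))
  have hα : ∀ i, ∃ α : L[X], α.map ψ = (a i).map (algebraMap R K) := fun i =>
    hlift (a i) (fun j hj => Finset.mem_image_of_mem _
      (Finset.mem_union_right _ (Finset.mem_biUnion.mpr
        ⟨i, Finset.mem_univ i, Polynomial.coeff_mem_coeffs hj⟩)))
  choose α hα using hα
  have main : ∀ b : integralClosure R[X] M, ∃ h' : L[X], h' ∈ N₁ ∧ ∃ θ : R[X],
      algebraMap R[X] M θ = (b : M) ^ p ^ e ∧ h'.map ψ = φ θ := by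
    intro b
    obtain ⟨θ, hθ, v, u, hv0, heq⟩ := hkey b b.2
    have heq' : (δ * ι v).map ψ * φ θ = (∑ i, ι (u i) * α i).map ψ := by
      rw [Polynomial.map_mul, map_iota p e ψ hψ, hδ, Polynomial.map_sum]
      have := congrArg φ heq
      rw [map_mul, map_mul, map_pow, map_sum] at this
      rw [show Polynomial.map (algebraMap R K) d = φ d from rfl,
        show Polynomial.map (algebraMap R K) v = φ v from rfl, this]
      refine Finset.sum_congr rfl (fun i _ => ?_)
      rw [Polynomial.map_mul, map_iota p e ψ hψ, hα, map_mul, map_pow]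
      rfl
    have hne : δ * ι v ≠ 0 := by
      intro h0
      have h1 : (δ * ι v).map ψ = 0 := by rw [h0, Polynomial.map_zero]
      rw [Polynomial.map_mul, map_iota p e ψ hψ, hδ] at h1
      rcases mul_eq_zero.mp h1 with h2 | h2
      · exact hd0 (hφinj (by rw [map_zero]; exact h2))
      · exact hv0 (hφinj (by rw [map_zero]; exact pow_eq_zero_iff hq.ne' |>.mp h2))
    obtain ⟨h', hh'⟩ := exists_of_mul_eq ψ (δ * ι v) (∑ i, ι (u i) * α i) (φ θ) hne heq'
    refine ⟨h', ?_, θ, hθ, hh'⟩
    apply mem_span_of_coeff_mem p e hq ρ h'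
    intro j
    rw [hρ]
    change IsIntegral R (h'.coeff j)
    apply isIntegral_of_map_eq p e ψ hq hψ (h'.coeff j) (θ.coeff j)
    rw [← coeff_map, hh']
    exact coeff_map _ _
  choose g hgN hg using main
  choose θ hθ hgθ using hg
  have hθadd : ∀ b b', θ (b + b') = θ b + θ b' := by
    intro b b'
    apply hAM
    rw [map_add, hθ, hθ, hθ]
    push_cast
    exact add_pow_expChar_pow _ _ _ _
  have hθsmul : ∀ (c : R[X]) b, θ (c • b) = c ^ p ^ e * θ b := by
    intro c b
    apply hAM
    rw [map_mul, map_pow, hθ, hθ]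
    push_cast
    rw [Algebra.smul_def, mul_pow]
  let G : integralClosure R[X] M →ₗ[R[X]] N₁ :=
    { toFun := fun b => ⟨g b, hgN b⟩
      map_add' := fun b b' => Subtype.ext (hψinj (by
        change (g (b + b')).map ψ = (g b + g b').map ψ
        rw [Polynomial.map_add, hgθ, hgθ, hgθ, hθadd, map_add]))
      map_smul' := fun c b => Subtype.ext (hψinj (by
        change (g (c • b)).map ψ = (c • g b).map ψ
        rw [hsmul, Polynomial.map_mul, map_iota p e ψ hψ, hgθ, hgθ, hθsmul, map_mul, map_pow]
        rfl)) }
  have hG : Function.Injective G := by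
    rw [← LinearMap.ker_eq_bot, LinearMap.ker_eq_bot']
    intro b hb
    have h1 : g b = 0 := congrArg Subtype.val hb
    have h2 : φ (θ b) = 0 := by rw [← hgθ, h1, Polynomial.map_zero]
    have h3 : θ b = 0 := hφinj (by rw [h2, map_zero])
    have h4 : (b : M) ^ p ^ e = 0 := by rw [← hθ, h3, map_zero]
    exact Subtype.ext (pow_eq_zero_iff hq.ne' |>.mp h4)
  exact Module.Finite.of_injective G hG


/-- the normal case -/
theorem isN2_polynomial_of_isIntegrallyClosed (R : Type u) [CommRing R] [IsDomain R]
    [IsNoetherianRing R] [IsIntegrallyClosed R] (hN2 : CAlg.IsN2 R) : CAlg.IsN2 R[X] :=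
  Groth.Agent.S4562.result R[X] (fun M _ _ _ _ hfin hpi => by
    haveI := hfin
    haveI := hpi
    exact finite_integralClosure_of_purelyInseparable R hN2 M)

attribute [local instance] FractionRing.liftAlgebra in
/-- N-1 descends along finite extensions of domains. -/
theorem isN1_of_finite_extension_down (R S : Type u) [CommRing R] [IsDomain R]
    [IsNoetherianRing R] [CommRing S] [IsDomain S] [Algebra R S]
    (hinj : Function.Injective (algebraMap R S)) [Module.Finite R S]
    (hS : CAlg.IsN1 S) : CAlg.IsN1 R := by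
  haveI : FaithfulSMul R S := (faithfulSMul_iff_algebraMap_injective R S).mpr hinj
  let K := FractionRing R
  let KS := FractionRing S
  have h1 : Module.Finite S (integralClosure S KS) := hS
  haveI : Module.Finite R (integralClosure S KS) := Module.Finite.trans S _
  haveI : IsNoetherian R (integralClosure S KS) := isNoetherian_of_isNoetherianRing_of_finite R _
  let ψ : K →ₐ[R] KS := IsScalarTower.toAlgHom R K KS
  have hψ : Function.Injective ψ := (ψ : K →+* KS).injective
  let g : integralClosure R K →ₗ[R] integralClosure S KS :=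
    { toFun := fun a => ⟨ψ a, (a.2.map ψ).tower_top⟩
      map_add' := fun a b => Subtype.ext (by simp)
      map_smul' := fun r a => Subtype.ext (by simp) }
  have hg : Function.Injective g := by
    intro a b hab
    apply Subtype.ext
    exact hψ (congrArg Subtype.val hab)
  exact Module.Finite.of_injective g hg

attribute [local instance] Polynomial.algebra in
theorem finite_polynomial (R A : Type*) [CommRing R] [CommRing A] [Algebra R A]
    [Module.Finite R A] : Module.Finite R[X] A[X] := by
  classical
  obtain ⟨s, hs⟩ := (Module.finite_def (R := R) (M := A)).mp inferInstance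
  refine ⟨s.image (C : A → A[X]), ?_⟩
  rw [eq_top_iff]
  intro f _
  induction f using Polynomial.induction_on' with
  | add f g hf hg => exact add_mem (hf trivial) (hg trivial)
  | monomial n a =>
    have ha : a ∈ Submodule.span R (s : Set A) := by rw [hs]; trivial
    rw [Submodule.mem_span_finset] at ha
    obtain ⟨c, -, hc⟩ := ha
    have : monomial n a = ∑ i ∈ s, (monomial n (c i) : R[X]) • (C i : A[X]) := by
      rw [← hc, map_sum]
      refine Finset.sum_congr rfl (fun i _ => ?_)
      rw [show ((monomial n (c i) : R[X]) • (C i : A[X])) =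
        Polynomial.map (algebraMap R A) (monomial n (c i)) * C i from rfl,
        Polynomial.map_monomial, monomial_mul_C, Algebra.smul_def]
    rw [this]
    refine Submodule.sum_mem _ (fun i hi => Submodule.smul_mem _ _ (Submodule.subset_span ?_))
    simp only [Finset.coe_image, Set.mem_image, Finset.mem_coe]
    exact ⟨i, hi, rfl⟩

attribute [local instance] Polynomial.algebra in
/-- **Stacks 032O / 10.161.x**: `R` Noetherian N-2 domain implies `R[X]` N-2. -/
theorem isN2_polynomial (R : Type u) [CommRing R] [IsDomain R] [IsNoetherianRing R]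
    (h : CAlg.IsN2 R) : CAlg.IsN2 R[X] := by
  let K := FractionRing R
  let R' := integralClosure R K
  haveI hN1 : Module.Finite R R' := isN1_of_isN2 h
  haveI : IsNoetherianRing R' := IsNoetherianRing.of_finite R R'
  haveI : IsIntegrallyClosed R' := integralClosure.isIntegrallyClosedOfFiniteExtension K
  have hinj : Function.Injective (algebraMap R R') := by
    intro a b hab
    have := congrArg (Subtype.val) hab
    exact IsFractionRing.injective R K this
  have h' : CAlg.IsN2 R' := isN2_of_finite_extension R R' hinj h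
  have h'' : CAlg.IsN2 R'[X] := isN2_polynomial_of_isIntegrallyClosed R' h'
  haveI : Module.Finite R[X] R'[X] := finite_polynomial R R'
  exact isN2_of_finite_extension_down R[X] R'[X] (Polynomial.map_injective _ hinj) h''

attribute [local instance] Polynomial.algebra in
/-- `R` Noetherian N-1 domain implies `R[X]` N-1. -/
theorem isN1_polynomial (R : Type u) [CommRing R] [IsDomain R] [IsNoetherianRing R]
    (h : CAlg.IsN1 R) : CAlg.IsN1 R[X] := by
  let K := FractionRing R
  let R' := integralClosure R K
  haveI hN1 : Module.Finite R R' := h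
  haveI : IsNoetherianRing R' := IsNoetherianRing.of_finite R R'
  haveI : IsIntegrallyClosed R' := integralClosure.isIntegrallyClosedOfFiniteExtension K
  have hinj : Function.Injective (algebraMap R R') := by
    intro a b hab
    have := congrArg (Subtype.val) hab
    exact IsFractionRing.injective R K this
  have h'' : CAlg.IsN1 R'[X] := by
    change Module.Finite R'[X] (integralClosure R'[X] (FractionRing R'[X]))
    rw [IsIntegrallyClosed.integralClosure_eq_bot]
    exact Subalgebra.finite_bot
  haveI : Module.Finite R[X] R'[X] := finite_polynomial R R'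
  exact isN1_of_finite_extension_down R[X] R'[X] (Polynomial.map_injective _ hinj) h''

end Groth.Agent.Lib.Helper88.PolyN2
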