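import Groth.Prelude.Def_Found
import Groth.Agent.Lib.Helper88.Japanese3
import Groth.Agent.S6333
import Mathlib

/-!
# Nagata rings: integral closure in the fraction field of a finite type domain is finite
(the core of Stacks 03GH)
-/

universe u

namespace Groth.Agent.Lib.Helper88

open CAlg

attribute [local instance] FractionRing.liftAlgebra in
/-- Let `R` be an N-2 domain, `T` a domain of finite type over `R` (injectively), `K` the
fraction field of `T`.  Then the integral closure of `R` in `K` is a finite `R`-module. -/
theorem fg_integralClosure_of_finiteType_of_isN2' (R T K : Type u) [CommRing R] [IsDomain R]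
    [CommRing T] [IsDomain T] [Algebra R T] (hinj : Function.Injective (algebraMap R T))
    [Algebra.FiniteType R T] [Field K] [Algebra T K] [IsFractionRing T K] [Algebra R K]
    [IsScalarTower R T K] (hR : IsN2' R) :
    (Subalgebra.toSubmodule (integralClosure R K)).FG := by
  haveI : FaithfulSMul R K := (faithfulSMul_iff_algebraMap_injective R K).mpr (by
    rw [IsScalarTower.algebraMap_eq R T K]
    exact (IsFractionRing.injective T K).comp hinj)
  haveI : Algebra.EssFiniteType T K :=
    Algebra.EssFiniteType.of_isLocalization K (nonZeroDivisors T)
  haveI : Algebra.EssFiniteType R K := Algebra.EssFiniteType.comp R T K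
  haveI : Algebra.EssFiniteType (FractionRing R) K :=
    Algebra.EssFiniteType.of_comp R (FractionRing R) K
  have hfg : (⊤ : IntermediateField (FractionRing R) K).FG := IntermediateField.fg_top _ _
  haveI : FiniteDimensional (FractionRing R) (algebraicClosure (FractionRing R) K) :=
    Groth.Agent.S6333.result hfg
  have h1 : Module.Finite R (integralClosure R (algebraicClosure (FractionRing R) K)) :=
    hR (FractionRing R) (algebraicClosure (FractionRing R) K) inferInstance
  have hfg1 : (Subalgebra.toSubmodule
      (integralClosure R (algebraicClosure (FractionRing R) K))).FG :=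
    (Submodule.fg_top _).mp ((Module.finite_def).mp h1)
  -- the image under the inclusion is the integral closure in `K`
  let ι : algebraicClosure (FractionRing R) K →ₐ[R] K :=
    (IntermediateField.val (algebraicClosure (FractionRing R) K)).restrictScalars R
  have hι : Function.Injective ι := fun a b hab => Subtype.ext hab
  have hιx : ∀ y : algebraicClosure (FractionRing R) K, ι y = (y : K) := fun y => rfl
  have heq : Subalgebra.toSubmodule (integralClosure R K) =
      (Subalgebra.toSubmodule (integralClosure R (algebraicClosure (FractionRing R) K))).map
        ι.toLinearMap := by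
    ext x
    simp only [Subalgebra.mem_toSubmodule, mem_integralClosure_iff, Submodule.mem_map]
    constructor
    · intro hx
      have hx' : IsIntegral (FractionRing R) x := hx.tower_top
      have hxL : x ∈ algebraicClosure (FractionRing R) K :=
        (mem_algebraicClosure_iff' ).mpr hx'
      refine ⟨⟨x, hxL⟩, ?_, hιx _⟩
      exact (isIntegral_algHom_iff ι hι).mp (by rw [hιx]; exact hx)
    · rintro ⟨y, hy, rfl⟩
      exact hy.map ι
  rw [heq]
  exact hfg1.map _

/-- Let `R` be a Nagata ring, `T` a domain of finite type over `R`, `K` the fraction field of `T`.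
Then the integral closure of `R` in `K` is a finite `R`-module. -/
theorem fg_integralClosure_of_finiteType_of_isNagata (R T K : Type u) [CommRing R]
    [CommRing T] [IsDomain T] [Algebra R T] [Algebra.FiniteType R T] [Field K] [Algebra T K]
    [IsFractionRing T K] [Algebra R K] [IsScalarTower R T K] (hR : CAlg.IsNagata R) :
    (Subalgebra.toSubmodule (integralClosure R K)).FG := by
  obtain ⟨hnoeth, hN2⟩ := hR
  let p : Ideal R := RingHom.ker (algebraMap R T)
  haveI : p.IsPrime := RingHom.ker_isPrime _
  have hp : IsN2' (R ⧸ p) := (isN2_iff _).mp (hN2 p)
  let φ : R ⧸ p →+* T := RingHom.kerLift (algebraMap R T)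
  have hφ : Function.Injective φ := RingHom.kerLift_injective _
  letI : Algebra (R ⧸ p) T := φ.toAlgebra
  haveI : IsScalarTower R (R ⧸ p) T := IsScalarTower.of_algebraMap_eq (fun x => rfl)
  haveI : Algebra.FiniteType (R ⧸ p) T := Algebra.FiniteType.of_restrictScalars_finiteType R _ T
  letI : Algebra (R ⧸ p) K := ((algebraMap T K).comp φ).toAlgebra
  haveI : IsScalarTower (R ⧸ p) T K := IsScalarTower.of_algebraMap_eq (fun x => rfl)
  haveI : IsScalarTower R (R ⧸ p) K := IsScalarTower.of_algebraMap_eq (fun x => by
    change algebraMap R K x = algebraMap T K (φ (Ideal.Quotient.mk p x))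
    rw [IsScalarTower.algebraMap_apply R T K]
    rfl)
  have h1 := fg_integralClosure_of_finiteType_of_isN2' (R ⧸ p) T K hφ hp
  have h2 : ((Subalgebra.toSubmodule (integralClosure (R ⧸ p) K)).restrictScalars R).FG :=
    Submodule.FG.restrictScalars_of_surjective h1 Ideal.Quotient.mk_surjective
  have heq : Subalgebra.toSubmodule (integralClosure R K) =
      (Subalgebra.toSubmodule (integralClosure (R ⧸ p) K)).restrictScalars R := by
    ext x
    simp only [Subalgebra.mem_toSubmodule, mem_integralClosure_iff,
      Submodule.restrictScalars_mem]
    constructor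
    · intro hx
      exact hx.tower_top
    · intro hx
      haveI : Algebra.IsIntegral R (R ⧸ p) :=
        Algebra.isIntegral_of_surjective Ideal.Quotient.mk_surjective
      exact isIntegral_trans x hx
  rw [heq]
  exact h2

end Groth.Agent.Lib.Helper88
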