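import Groth.Prelude.Def_Found
import Groth.Agent.Lib.Helper88.AnUnram
import Mathlib

/-!
# Formal fibres and Nagata rings (EGA IV 7.6.4, 7.7.x)
-/

universe u

namespace Groth.Agent.Lib.Helper88.FormalFibre

open IsLocalRing CAlg TensorProduct

section General

/-- General form of EGA 0_IV 23.1.6: if `S` is a faithfully flat Nagata `B`-algebra such that
`S ⊗[B] K'` is reduced, then the integral closure of the domain `B` in the finite extension `K'`
of its fraction field is a finite `B`-module. -/
theorem finite_integralClosure_of_faithfullyFlat {B K' S : Type u}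
    [CommRing B] [IsDomain B]
    [CommRing S] [Algebra B S] [Module.FaithfullyFlat B S] (hNag : CAlg.IsNagata S)
    [Field K'] [Algebra B K'] [Algebra (FractionRing B) K'] [IsScalarTower B (FractionRing B) K']
    [FiniteDimensional (FractionRing B) K'] (h : IsReduced (S ⊗[B] K')) :
    Module.Finite B (integralClosure B K') := by
  haveI : IsNoetherianRing S := hNag.1
  haveI : Module.Flat B S := inferInstance
  haveI : Module.Flat (FractionRing B) K' := inferInstance
  haveI : Module.Flat B K' := Module.Flat.trans B (FractionRing B) K'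
  have hBK : Function.Injective (algebraMap B K') := by
    rw [IsScalarTower.algebraMap_eq B (FractionRing B) K']
    exact (algebraMap (FractionRing B) K').injective.comp (IsFractionRing.injective B _)
  -- `S` is reduced
  haveI hSred : IsReduced S := by
    have hinj : Function.Injective (Algebra.TensorProduct.includeLeft : S →ₐ[B] S ⊗[B] K') := by
      have := Module.Flat.lTensor_preserves_injective_linearMap (M := S)
        (Algebra.linearMap B K') hBK
      intro x y hxy
      have h1 : ∀ z : S, (Algebra.TensorProduct.includeLeft : S →ₐ[B] S ⊗[B] K') z =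
          (Algebra.linearMap B K').lTensor S ((TensorProduct.rid B S).symm z) := by
        intro z
        simp
      rw [h1, h1] at hxy
      exact (TensorProduct.rid B S).symm.injective (this hxy)
    exact isReduced_of_injective _ hinj
  let Q := FractionRing S
  let T := Q ⊗[B] K'
  have hunit : ∀ a : B, a ≠ 0 → IsUnit (algebraMap B Q a) := by
    intro a ha
    rw [IsScalarTower.algebraMap_apply B S Q]
    have hreg : IsSMulRegular B a := (IsRegular.of_ne_zero ha).left.isSMulRegular
    have h2 : IsSMulRegular S (algebraMap B S a) := IsSMulRegular.of_flat hreg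
    have h3 : algebraMap B S a ∈ nonZeroDivisors S := by
      rw [mem_nonZeroDivisors_iff_right]
      intro x hx
      apply h2
      change algebraMap B S a • x = algebraMap B S a • 0
      rw [smul_eq_mul, smul_zero, mul_comm]
      exact hx
    exact IsLocalization.map_units Q (⟨algebraMap B S a, h3⟩ : nonZeroDivisors S)
  haveI : Module.Finite Q T := AnUnram.finite_tensor hunit
  haveI : IsArtinianRing Q := AnUnram.isArtinianRing_of_isFractionRing S Q
  haveI : IsArtinianRing T := IsArtinianRing.of_finite Q T
  -- `T` is a localization of `S ⊗[B] K'`, hence reduced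
  haveI hTred : IsReduced T := by
    letI : Algebra (S ⊗[B] K') T :=
      (Algebra.TensorProduct.map (IsScalarTower.toAlgHom B S Q) (AlgHom.id B K')).toRingHom.toAlgebra
    haveI : IsScalarTower S (S ⊗[B] K') T := IsScalarTower.of_algebraMap_eq' (by
      ext x
      rw [RingHom.comp_apply, RingHom.algebraMap_toAlgebra, Algebra.TensorProduct.algebraMap_apply,
        Algebra.TensorProduct.algebraMap_apply]
      simp)
    have H : (algebraMap (S ⊗[B] K') T).comp
        (Algebra.TensorProduct.includeRight : K' →ₐ[B] S ⊗[B] K').toRingHom =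
        (Algebra.TensorProduct.includeRight : K' →ₐ[B] Q ⊗[B] K').toRingHom := by
      ext x
      simp [RingHom.algebraMap_toAlgebra]
    haveI := IsLocalization.tensorProduct_tensorProduct B K' (nonZeroDivisors S) Q H
    exact isReduced_localizationPreserves
      (Algebra.algebraMapSubmonoid (S ⊗[B] K') (nonZeroDivisors S)) T h
  haveI : IsScalarTower S Q T := inferInstance
  have hC : Module.Finite S (integralClosure S T) :=
    AnUnram.finite_integralClosure_of_artinian S hNag (nonZeroDivisors S) Q T
  let B' := integralClosure B K'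
  let j : B' →ₗ[B] K' := B'.val.toLinearMap
  let ι : S →ₗ[B] Q := (Algebra.linearMap S Q).restrictScalars B
  have hj : Function.Injective (j.lTensor S) :=
    Module.Flat.lTensor_preserves_injective_linearMap j Subtype.val_injective
  have hι : Function.Injective (ι.rTensor K') :=
    Module.Flat.rTensor_preserves_injective_linearMap ι (IsFractionRing.injective S Q)
  let φ : S ⊗[B] B' →ₗ[S] T :=
    TensorProduct.AlgebraTensorModule.map (Algebra.linearMap S Q) j
  have hφ : ∀ x, φ x = (ι.rTensor K') (j.lTensor S x) := by
    intro x
    induction x using TensorProduct.induction_on with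
    | zero => simp
    | tmul a b => rfl
    | add x y hx hy => rw [map_add, map_add, map_add, hx, hy]
  have hφinj : Function.Injective φ := by
    intro x y hxy
    rw [hφ, hφ] at hxy
    exact hj (hι hxy)
  have hφint : ∀ x, φ x ∈ Subalgebra.toSubmodule (integralClosure S T) := by
    intro x
    induction x using TensorProduct.induction_on with
    | zero => rw [map_zero]; exact Submodule.zero_mem _
    | tmul a b =>
      have h1 : IsIntegral B ((Algebra.TensorProduct.includeRight : K' →ₐ[B] T) (b : K')) :=
        b.2.map _
      have h2 : IsIntegral S ((Algebra.TensorProduct.includeRight : K' →ₐ[B] T) (b : K')) :=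
        h1.tower_top
      have h3 : φ (a ⊗ₜ[B] b) =
          algebraMap S T a * (Algebra.TensorProduct.includeRight : K' →ₐ[B] T) (b : K') := by
        change (algebraMap S Q a) ⊗ₜ[B] (b : K') = _
        rw [Algebra.TensorProduct.algebraMap_apply, Algebra.TensorProduct.includeRight_apply,
          Algebra.TensorProduct.tmul_mul_tmul, mul_one, one_mul]
      rw [h3]
      exact (isIntegral_algebraMap).mul h2
    | add x y hx hy => rw [map_add]; exact Submodule.add_mem _ hx hy
  let ψ : S ⊗[B] B' →ₗ[S] integralClosure S T :=
    φ.codRestrict (Subalgebra.toSubmodule (integralClosure S T)) hφint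
  haveI : IsNoetherian S (integralClosure S T) :=
    isNoetherian_of_isNoetherianRing_of_finite S (integralClosure S T)
  haveI : Module.Finite S (S ⊗[B] B') :=
    Module.Finite.of_injective ψ (fun a b hab => hφinj (congrArg Subtype.val hab))
  exact Module.Finite.of_finite_tensorProduct_of_faithfullyFlat (R := B) S

end General

section Application

variable (A : Type u) [CommRing A] [IsNoetherianRing A] [IsLocalRing A]

/-- **EGA IV 7.6.4 / 7.7.2 (one prime)**: if the formal fibre of the Noetherian local ring `A` at
the prime `p` is geometrically reduced, then `A ⧸ p` is N-2. -/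
theorem isN2_quotient_of_isGeometricallyReduced_fiber (p : Ideal A) [hp : p.IsPrime]
    (h : Algebra.IsGeometricallyReduced p.ResidueField
      (p.Fiber (AdicCompletion (maximalIdeal A) A))) : CAlg.IsN2 (A ⧸ p) := by
  intro K' _ _ _ _ hfin
  haveI := hfin
  let Ahat := AdicCompletion (maximalIdeal A) A
  haveI : IsNoetherianRing Ahat := Groth.Agent.S0543.result A _
  haveI : Module.Flat A Ahat := inferInstance
  haveI : IsLocalHom (algebraMap A Ahat) := inferInstance
  haveI : Module.FaithfullyFlat A Ahat := Module.FaithfullyFlat.of_flat_of_isLocalHom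
  let B := A ⧸ p
  let J : Ideal Ahat := p.map (algebraMap A Ahat)
  let S := Ahat ⧸ J
  have hJ : J ≠ ⊤ := by
    intro hJ
    have h1 : J.comap (algebraMap A Ahat) = p := Ideal.comap_map_eq_self_of_faithfullyFlat p
    rw [hJ, Ideal.comap_top] at h1
    exact hp.ne_top h1.symm
  haveI : Nontrivial S := Ideal.Quotient.nontrivial_iff.mpr hJ
  haveI : IsLocalRing S :=
    IsLocalRing.of_surjective' (Ideal.Quotient.mk J) Ideal.Quotient.mk_surjective
  have hmax : ((maximalIdeal Ahat).map (Ideal.Quotient.mk J)).IsMaximal :=
    Ideal.IsMaximal.map_of_surjective_of_ker_le Ideal.Quotient.mk_surjective (by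
      rw [Ideal.mk_ker]
      exact IsLocalRing.le_maximalIdeal hJ)
  have heq : maximalIdeal S = (maximalIdeal Ahat).map (Ideal.Quotient.mk J) :=
    (IsLocalRing.eq_maximalIdeal hmax).symm
  haveI : IsAdicComplete (maximalIdeal S) S := by
    rw [heq]
    exact Groth.Agent.Lib.Helper83.isAdicComplete_quotient_of_isNoetherianRing _ J
  have hNag : CAlg.IsNagata S := CohenNagata.isNagata_of_complete S
  let e : S ≃ₐ[B] B ⊗[A] Ahat := Algebra.TensorProduct.quotIdealMapEquivQuotTensor Ahat p
  haveI : Module.FaithfullyFlat B S := Module.FaithfullyFlat.of_linearEquiv _ _ e.toLinearEquiv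
  -- the residue field
  let κ := p.ResidueField
  let eκ : FractionRing B ≃ₐ[B] κ := FractionRing.algEquiv B κ
  letI : Algebra A K' := ((algebraMap B K').comp (algebraMap A B)).toAlgebra
  haveI : IsScalarTower A B K' := IsScalarTower.of_algebraMap_eq' rfl
  letI : Algebra κ K' := ((algebraMap (FractionRing B) K').comp eκ.symm.toRingHom).toAlgebra
  letI : Algebra (FractionRing B) κ := eκ.toRingHom.toAlgebra
  haveI : IsScalarTower (FractionRing B) κ K' := IsScalarTower.of_algebraMap_eq' (by
    ext x
    simp [RingHom.algebraMap_toAlgebra])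
  haveI : IsScalarTower B κ K' := IsScalarTower.of_algebraMap_eq' (by
    ext x
    rw [RingHom.comp_apply, RingHom.algebraMap_toAlgebra, RingHom.comp_apply]
    simp [← IsScalarTower.algebraMap_apply])
  haveI : IsScalarTower A κ K' := IsScalarTower.of_algebraMap_eq' (by
    ext x
    rw [IsScalarTower.algebraMap_apply A B K', IsScalarTower.algebraMap_apply B κ K',
      RingHom.comp_apply, ← IsScalarTower.algebraMap_apply A B κ])
  haveI : Algebra.IsAlgebraic (FractionRing B) K' := Algebra.IsAlgebraic.of_finite _ _
  haveI : Algebra.IsAlgebraic κ K' := Algebra.IsAlgebraic.tower_top (K := FractionRing B) κ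
  haveI : IsReduced (K' ⊗[κ] (p.Fiber Ahat)) := inferInstance
  let e1 : K' ⊗[κ] (κ ⊗[A] Ahat) ≃ₐ[K'] K' ⊗[A] Ahat :=
    Algebra.TensorProduct.cancelBaseChange A κ K' K' Ahat
  let e2 : K' ⊗[B] (B ⊗[A] Ahat) ≃ₐ[K'] K' ⊗[A] Ahat :=
    Algebra.TensorProduct.cancelBaseChange A B K' K' Ahat
  let e3 : K' ⊗[B] S ≃ₐ[K'] K' ⊗[B] (B ⊗[A] Ahat) :=
    Algebra.TensorProduct.congr AlgEquiv.refl e
  let e4 : S ⊗[B] K' ≃ₐ[B] K' ⊗[B] S := Algebra.TensorProduct.comm B S K'
  have hred : IsReduced (S ⊗[B] K') := by
    let f : S ⊗[B] K' →+* K' ⊗[κ] (κ ⊗[A] Ahat) :=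
      (e1.symm.toRingEquiv.toRingHom.comp e2.toRingEquiv.toRingHom).comp
        (e3.toRingEquiv.toRingHom.comp e4.toRingEquiv.toRingHom)
    have hf : Function.Injective f :=
      (e1.symm.injective.comp e2.injective).comp (e3.injective.comp e4.injective)
    exact isReduced_of_injective f hf
  exact finite_integralClosure_of_faithfullyFlat hNag hred

/-- **EGA IV 7.6.4**: a Noetherian local ring with geometrically reduced formal fibres is Nagata. -/
theorem isNagata_of_geomReducedFormalFibres
    (hA : ∀ (p : Ideal A) [p.IsPrime], Algebra.IsGeometricallyReduced p.ResidueField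
      (p.Fiber (AdicCompletion (maximalIdeal A) A))) : CAlg.IsNagata A :=
  ⟨inferInstance, fun p _ => isN2_quotient_of_isGeometricallyReduced_fiber A p (hA p)⟩

end Application

end Groth.Agent.Lib.Helper88.FormalFibre
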