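import Groth.Prelude.Def_Found
import Groth.Agent.S0544
import Mathlib

/-!
# Auxiliary algebra for lifting Cohen–Macaulayness of fibres (EGA IV 7.5.x, CM case)

* `finite_of_pow_smul_top_eq_bot'` : a finite module over a local ring `E`, killed by a power of
  `𝔪_E`, is finite over `R` when the residue field of `E` is finite over `R`.
* `eq_maximalIdeal_of_forall_mem` : a Noetherian local domain in which a fixed nonzero non-unit lies
  in every nonzero prime has only one nonzero prime.
* `exists_prime_ge_comap_ne_bot` : the specialization lemma.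
-/

universe u v w

namespace Groth.Agent.Lib.Helper88.CMLift

open IsLocalRing

section Art

variable {E : Type u} [CommRing E] [IsLocalRing E] [IsNoetherianRing E]
  {R : Type v} [CommRing R] [Algebra R E]

/-- a finite `E`-module killed by the maximal ideal is finite over `R` when `E/𝔪` is -/
theorem finite_of_smul_top_eq_bot' [hres : Module.Finite R (ResidueField E)]
    (M : Type w) [AddCommGroup M] [Module E M] [Module R M] [IsScalarTower R E M]
    [Module.Finite E M] (h : (maximalIdeal E) • (⊤ : Submodule E M) = ⊥) : Module.Finite R M := by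
  have htors : Module.IsTorsionBySet E M (maximalIdeal E) := by
    intro x a
    have h1 : (a : E) • x ∈ (maximalIdeal E) • (⊤ : Submodule E M) :=
      Submodule.smul_mem_smul a.2 trivial
    rw [h] at h1
    exact h1
  letI : Module (E ⧸ maximalIdeal E) M := htors.module
  haveI : IsScalarTower E (E ⧸ maximalIdeal E) M := htors.isScalarTower
  haveI : Module.Finite (E ⧸ maximalIdeal E) M :=
    Module.Finite.of_restrictScalars_finite E (E ⧸ maximalIdeal E) M
  haveI : Module.Finite R (E ⧸ maximalIdeal E) := hres
  haveI : IsScalarTower R (E ⧸ maximalIdeal E) M := by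
    refine ⟨fun l k x => ?_⟩
    obtain ⟨e, rfl⟩ := Ideal.Quotient.mk_surjective k
    change (Ideal.Quotient.mk _ (l • e)) • x = l • ((Ideal.Quotient.mk _ e) • x)
    rw [htors.mk_smul, htors.mk_smul, smul_assoc]
  exact Module.Finite.trans (E ⧸ maximalIdeal E) M

/-- a finite `E`-module killed by a power of the maximal ideal is finite over `R`. -/
theorem finite_of_pow_smul_top_eq_bot' [hres : Module.Finite R (ResidueField E)] (N : ℕ) :
    ∀ (M : Type w) [AddCommGroup M] [Module E M] [Module R M] [IsScalarTower R E M]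
    [Module.Finite E M], (maximalIdeal E) ^ N • (⊤ : Submodule E M) = ⊥ → Module.Finite R M := by
  induction N with
  | zero =>
    intro M _ _ _ _ _ h
    rw [pow_zero, Ideal.one_eq_top, Submodule.top_smul] at h
    haveI : Subsingleton M := by
      constructor
      intro a b
      have ha : a ∈ (⊤ : Submodule E M) := trivial
      have hb : b ∈ (⊤ : Submodule E M) := trivial
      rw [h] at ha hb
      rw [(Submodule.mem_bot E).mp ha, (Submodule.mem_bot E).mp hb]
    infer_instance
  | succ N ih =>
    intro M _ _ _ _ _ h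
    let P : Submodule E M := (maximalIdeal E) • (⊤ : Submodule E M)
    haveI : Module.Finite E P := Module.Finite.of_injective P.subtype P.injective_subtype
    have hP : (maximalIdeal E) ^ N • (⊤ : Submodule E P) = ⊥ := by
      rw [eq_bot_iff]
      intro x hx
      rw [Submodule.mem_bot]
      apply Subtype.ext
      have h1 : (x : M) ∈ Submodule.map P.subtype ((maximalIdeal E) ^ N • (⊤ : Submodule E P)) :=
        ⟨x, hx, rfl⟩
      rw [Submodule.map_smul'', Submodule.map_top, Submodule.range_subtype] at h1
      have h2 : (maximalIdeal E) ^ N • P = ⊥ := by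
        rw [← h, pow_succ, mul_smul]
      rw [h2] at h1
      exact h1
    haveI h1 : Module.Finite R P := ih P hP
    haveI h2 : Module.Finite R (M ⧸ P) := by
      apply finite_of_smul_top_eq_bot' (E := E) (R := R) (M ⧸ P)
      rw [eq_bot_iff]
      intro x hx
      rw [Submodule.mem_bot]
      refine Submodule.smul_induction_on hx ?_ ?_
      · intro r hr y _
        obtain ⟨y, rfl⟩ := Submodule.Quotient.mk_surjective _ y
        rw [← Submodule.Quotient.mk_smul, Submodule.Quotient.mk_eq_zero]
        exact Submodule.smul_mem_smul hr trivial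
      · intro x y hx hy
        rw [hx, hy, add_zero]
    haveI h1' : Module.Finite R (P.restrictScalars R) := h1
    haveI h2' : Module.Finite R (M ⧸ P.restrictScalars R) :=
      Module.Finite.equiv (Submodule.Quotient.restrictScalarsEquiv R P).symm
    exact Module.Finite.of_submodule_quotient (P.restrictScalars R)

end Art

section DimOne

variable (E : Type u) [CommRing E] [IsDomain E] [IsNoetherianRing E] [IsLocalRing E]

/-- in a Noetherian domain, a nonzero prime contained in a prime of height `≤ 1` equals it -/
theorem eq_of_le_of_height_le_one {P P' : Ideal E} [P.IsPrime] [P'.IsPrime] (hP : P ≠ ⊥)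
    (hle : P ≤ P') (hht : P'.height ≤ 1) : P = P' := by
  by_contra hne
  have hlt : P < P' := lt_of_le_of_ne hle hne
  have h1 := Ideal.height_strict_mono_of_isPrime hlt
  have h2 : P.height = 0 := by
    have : P.height < 1 := lt_of_lt_of_le h1 hht
    exact ENat.lt_one_iff_eq_zero.mp this
  exact hP (Ideal.height_eq_zero_iff_eq_bot.mp h2)

/-- a Noetherian local domain in which a fixed nonzero element lies in every nonzero prime has
only one nonzero prime -/
theorem eq_maximalIdeal_of_forall_mem (g : E) (hg0 : g ≠ 0) (hgm : g ∈ maximalIdeal E)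
    (h : ∀ P : Ideal E, P.IsPrime → P ≠ ⊥ → g ∈ P) :
    ∀ P : Ideal E, P.IsPrime → P ≠ ⊥ → P = maximalIdeal E := by
  classical
  have hIne : Ideal.span {g} ≠ ⊤ := by
    intro htop
    have : Ideal.span {g} ≤ maximalIdeal E := (Ideal.span_singleton_le_iff_mem _).mpr hgm
    rw [htop] at this
    exact (maximalIdeal.isMaximal E).ne_top (top_le_iff.mp this)
  have hfin : (Ideal.span {g}).minimalPrimes.Finite :=
    Ideal.finite_minimalPrimes_of_isNoetherianRing E _
  -- the maximal ideal is minimal over `g`
  have hmem : maximalIdeal E ∈ (Ideal.span {g}).minimalPrimes := by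
    by_contra hnot
    have hnle : ¬ ∃ P ∈ hfin.toFinset, maximalIdeal E ≤ P := by
      rintro ⟨P, hP, hle⟩
      rw [Set.Finite.mem_toFinset] at hP
      haveI := hP.1.1
      have : P = maximalIdeal E := le_antisymm (le_maximalIdeal hP.1.1.ne_top) hle
      exact hnot (this ▸ hP)
    rw [← Ideal.subset_union_prime (f := fun P : Ideal E => P) ⊥ ⊥
      (fun P hP _ _ => ((Set.Finite.mem_toFinset hfin).mp hP).1.1)] at hnle
    rw [Set.not_subset] at hnle
    obtain ⟨x, hxm, hx⟩ := hnle
    have hx' : ∀ P ∈ (Ideal.span {g}).minimalPrimes, x ∉ P := by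
      intro P hP hxP
      apply hx
      simp only [Set.mem_iUnion]
      exact ⟨P, by simpa using hP, hxP⟩
    have hxne : Ideal.span {x} ≠ ⊤ := by
      intro htop
      have : Ideal.span {x} ≤ maximalIdeal E := (Ideal.span_singleton_le_iff_mem _).mpr hxm
      rw [htop] at this
      exact (maximalIdeal.isMaximal E).ne_top (top_le_iff.mp this)
    obtain ⟨P', hP'⟩ := Ideal.nonempty_minimalPrimes hxne
    haveI := hP'.1.1
    have hxP' : x ∈ P' := hP'.1.2 (Ideal.subset_span rfl)
    have hx0 : x ≠ 0 := by
      rintro rfl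
      obtain ⟨P, hP⟩ := Ideal.nonempty_minimalPrimes hIne
      exact hx' P hP (Ideal.zero_mem _)
    have hP'ne : P' ≠ ⊥ := by
      intro hbot
      rw [hbot, Ideal.mem_bot] at hxP'
      exact hx0 hxP'
    have hgP' : g ∈ P' := h P' inferInstance hP'ne
    obtain ⟨P, hP, hPle⟩ := Ideal.exists_minimalPrimes_le
      ((Ideal.span_singleton_le_iff_mem (I := P')).mpr hgP')
    haveI := hP.1.1
    have hPne : P ≠ ⊥ := by
      intro hbot
      have : g ∈ P := hP.1.2 (Ideal.subset_span rfl)
      rw [hbot, Ideal.mem_bot] at this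
      exact hg0 this
    have hht : P'.height ≤ 1 :=
      Ideal.height_le_one_of_isPrincipal_of_mem_minimalPrimes (Ideal.span {x}) P' hP'
    have hPP' : P = P' := eq_of_le_of_height_le_one E hPne hPle hht
    exact hx' P hP (hPP' ▸ hxP')
  have hhtm : (maximalIdeal E).height ≤ 1 :=
    Ideal.height_le_one_of_isPrincipal_of_mem_minimalPrimes (Ideal.span {g}) _ hmem
  intro P hP hPne
  haveI := hP
  exact eq_of_le_of_height_le_one E hPne (le_maximalIdeal hP.ne_top) hhtm

end DimOne

section Dim

/-- injective integral ring maps preserve the Krull dimension -/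
theorem ringKrullDim_eq_of_isIntegral_of_injective {R S : Type*} [CommRing R] [CommRing S]
    (f : R →+* S) (hf : f.IsIntegral) (hinj : Function.Injective f) :
    ringKrullDim R = ringKrullDim S := by
  algebraize [f]
  apply le_antisymm
  · unfold ringKrullDim
    refine iSup_le fun l => ?_
    have hker : (⊥ : Ideal S).comap (algebraMap R S) ≤ l.head.asIdeal := by
      have hinj' : Function.Injective (algebraMap R S) := hinj
      rw [← RingHom.ker_eq_comap_bot, (RingHom.injective_iff_ker_eq_bot _).mp hinj']
      exact bot_le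
    obtain ⟨P, -, hP, hPl⟩ := Ideal.exists_ideal_over_prime_of_isIntegral l.head.asIdeal ⊥ hker
    have : P.LiesOver l.head.asIdeal := ⟨hPl.symm⟩
    obtain ⟨L, hL, -, -⟩ := Ideal.exists_ltSeries_of_hasGoingUp l P
    rw [← hL]
    exact Order.LTSeries.length_le_krullDim L
  · unfold ringKrullDim
    refine Order.krullDim_le_of_strictMono (PrimeSpectrum.comap (algebraMap R S)) ?_
    intro P Q hPQ
    have := Ideal.IsIntegral.comap_lt_comap (R := R) (I := P.asIdeal) (J := Q.asIdeal) hPQ
    exact this

end Dim

section Special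

variable (R : Type u) [CommRing R] [IsDomain R] [IsNoetherianRing R] [IsLocalRing R]
  [IsAdicComplete (maximalIdeal R) R]
  (S : Type u) [CommRing S] [IsNoetherianRing S] [IsLocalRing S] [Algebra R S]
  [IsLocalHom (algebraMap R S)] [hres : Module.Finite R (ResidueField S)]

include hres in
/-- **specialization lemma**: over a complete local domain `R` of dimension `≠ 1`, a prime `q` of
`S` lying over `0` and not containing `g ≠ 0` (a non-unit of `R`) specializes to a prime `q'`
still not containing `g` but lying over a nonzero prime of `R`. -/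
theorem exists_prime_ge_comap_ne_bot (hdim : ringKrullDim R ≠ 1)
    (q : Ideal S) [hq : q.IsPrime] (hq0 : q.comap (algebraMap R S) = ⊥)
    (g : R) (hg0 : g ≠ 0) (hgm : g ∈ maximalIdeal R) :
    ∃ q' : Ideal S, q'.IsPrime ∧ q ≤ q' ∧ algebraMap R S g ∉ q' ∧
      q'.comap (algebraMap R S) ≠ ⊥ := by
  classical
  let 𝒮 : Set (Ideal S) := {q'' | q''.IsPrime ∧ q ≤ q'' ∧ algebraMap R S g ∉ q''}
  have hgq : algebraMap R S g ∉ q := by
    intro hmem
    have : g ∈ q.comap (algebraMap R S) := hmem
    rw [hq0, Ideal.mem_bot] at this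
    exact hg0 this
  have hne : 𝒮.Nonempty := ⟨q, hq, le_rfl, hgq⟩
  obtain ⟨q', hq'mem, hmax⟩ : ∃ q' : Ideal S, q' ∈ 𝒮 ∧ ∀ I ∈ 𝒮, ¬ q' < I :=
    (set_has_maximal_iff_noetherian (R := S) (M := S)).mpr inferInstance 𝒮 hne
  obtain ⟨hq'prime, hqq', hgq'⟩ := hq'mem
  refine ⟨q', hq'prime, hqq', hgq', ?_⟩
  intro hbot
  haveI := hq'prime
  -- the quotient `E = S ⧸ q'`
  let E := S ⧸ q'
  haveI : IsDomain E := Ideal.Quotient.isDomain q'
  haveI : IsLocalRing E :=
    IsLocalRing.of_surjective' (Ideal.Quotient.mk q') Ideal.Quotient.mk_surjective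
  have hinj : Function.Injective (algebraMap R E) := by
    rw [injective_iff_map_eq_zero]
    intro a ha
    have h1 : a ∈ q'.comap (algebraMap R S) := by
      rw [Ideal.mem_comap]
      exact Ideal.Quotient.eq_zero_iff_mem.mp ha
    rw [hbot, Ideal.mem_bot] at h1
    exact h1
  have hmS : ∀ a ∈ maximalIdeal R, algebraMap R S a ∈ maximalIdeal S := by
    intro a ha
    rw [mem_maximalIdeal, mem_nonunits_iff] at ha ⊢
    exact fun hu => ha (isUnit_of_map_unit (algebraMap R S) a hu)
  have hmE : ∀ x ∈ maximalIdeal S, Ideal.Quotient.mk q' x ∈ maximalIdeal E := by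
    intro x hx
    rw [mem_maximalIdeal, mem_nonunits_iff]
    intro hu
    obtain ⟨y, hy⟩ := hu.exists_right_inv
    obtain ⟨y, rfl⟩ := Ideal.Quotient.mk_surjective y
    rw [← map_mul, ← map_one (Ideal.Quotient.mk q'), Ideal.Quotient.eq] at hy
    have h1 : x * y - 1 ∈ maximalIdeal S := le_maximalIdeal hq'prime.ne_top hy
    have h2 : x * y ∈ maximalIdeal S := Ideal.mul_mem_right _ _ hx
    have h3 : (1 : S) ∈ maximalIdeal S := by
      have := Ideal.sub_mem _ h2 h1
      rwa [sub_sub_cancel] at this
    exact (Ideal.ne_top_iff_one _).mp (maximalIdeal.isMaximal S).ne_top h3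
  set gE : E := algebraMap R E g with hgE
  have hgE0 : gE ≠ 0 := fun h0 => hg0 (hinj (by rw [← hgE, h0, map_zero]))
  have hgEm : gE ∈ maximalIdeal E := hmE _ (hmS g hgm)
  -- every nonzero prime of `E` contains `g`
  have hall : ∀ P : Ideal E, P.IsPrime → P ≠ ⊥ → gE ∈ P := by
    intro P hP hPne
    by_contra hgP
    haveI := hP
    have hmem : P.comap (Ideal.Quotient.mk q') ∈ 𝒮 := by
      refine ⟨inferInstance, ?_, hgP⟩
      refine hqq'.trans ?_
      intro x hx
      rw [Ideal.mem_comap, Ideal.Quotient.eq_zero_iff_mem.mpr hx]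
      exact Ideal.zero_mem _
    have hle : q' ≤ P.comap (Ideal.Quotient.mk q') := by
      intro x hx
      rw [Ideal.mem_comap, Ideal.Quotient.eq_zero_iff_mem.mpr hx]
      exact Ideal.zero_mem _
    have hneq : q' ≠ P.comap (Ideal.Quotient.mk q') := by
      intro heq
      apply hPne
      rw [eq_bot_iff]
      intro y hy
      obtain ⟨x, rfl⟩ := Ideal.Quotient.mk_surjective y
      have : x ∈ q' := by rw [heq]; exact hy
      rw [Ideal.mem_bot]
      exact Ideal.Quotient.eq_zero_iff_mem.mpr this
    exact hmax _ hmem (lt_of_le_of_ne hle hneq)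
  have hone := eq_maximalIdeal_of_forall_mem E gE hgE0 hgEm hall
  -- `𝔪_R E` is primary to the maximal ideal
  set J : Ideal E := (maximalIdeal R).map (algebraMap R E) with hJ
  have hJle : J ≤ maximalIdeal E := by
    rw [hJ, Ideal.map_le_iff_le_comap]
    intro a ha
    exact hmE _ (hmS a ha)
  have hgJ : gE ∈ J := Ideal.mem_map_of_mem _ hgm
  have hrad : maximalIdeal E ≤ J.radical := by
    rw [Ideal.radical_eq_sInf]
    refine le_sInf ?_
    rintro P ⟨hJP, hP⟩
    have hPne : P ≠ ⊥ := by
      intro hPbot
      have : gE ∈ P := hJP hgJ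
      rw [hPbot, Ideal.mem_bot] at this
      exact hgE0 this
    rw [hone P hP hPne]
  obtain ⟨N, hN⟩ := Ideal.exists_pow_le_of_le_radical_of_fg hrad
    (maximalIdeal E).fg_of_isNoetherianRing
  -- residue field of `E` is finite over `R`
  haveI : Module.Finite R (ResidueField E) := by
    have hcomap : maximalIdeal S ≤ (maximalIdeal E).comap (Ideal.Quotient.mkₐ R q') := hmE
    let f : S ⧸ maximalIdeal S →ₐ[R] E ⧸ maximalIdeal E :=
      Ideal.quotientMapₐ (maximalIdeal E) (Ideal.Quotient.mkₐ R q') hcomap
    have hf : Function.Surjective f :=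
      Ideal.quotientMap_surjective (H := hcomap) (Ideal.Quotient.mk_surjective)
    haveI : Module.Finite R (S ⧸ maximalIdeal S) := hres
    exact Module.Finite.of_surjective f.toLinearMap hf
  -- `E` is finite over `R`
  have hJne : J ≠ ⊤ := fun h => (maximalIdeal.isMaximal E).ne_top (top_le_iff.mp (h ▸ hJle))
  haveI : IsHausdorff J E := IsHausdorff.of_isLocalRing _ _ hJne
  haveI : IsHausdorff (maximalIdeal R) E := (IsHausdorff.map_algebraMap_iff (S := E)).mp ‹_›
  have hfinE : Module.Finite R E := by
    apply Groth.Agent.S0544.result R (maximalIdeal R) E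
    let P : Submodule E E := J • (⊤ : Submodule E E)
    have hPeq : (maximalIdeal R • ⊤ : Submodule R E) = P.restrictScalars R := by
      rw [Ideal.smul_restrictScalars, Submodule.restrictScalars_top]
    have hkill : (maximalIdeal E) ^ N • (⊤ : Submodule E (E ⧸ P)) = ⊥ := by
      rw [eq_bot_iff]
      intro x hx
      rw [Submodule.mem_bot]
      refine Submodule.smul_induction_on hx ?_ ?_
      · intro r hr y _
        obtain ⟨y, rfl⟩ := Submodule.Quotient.mk_surjective _ y
        rw [← Submodule.Quotient.mk_smul, Submodule.Quotient.mk_eq_zero]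
        exact Submodule.smul_mem_smul (hN hr) trivial
      · intro x y hx hy
        rw [hx, hy, add_zero]
    haveI h1 : Module.Finite R (E ⧸ P) := finite_of_pow_smul_top_eq_bot' N (E ⧸ P) hkill
    haveI h2 : Module.Finite R (E ⧸ P.restrictScalars R) :=
      Module.Finite.equiv (Submodule.Quotient.restrictScalarsEquiv R P).symm
    exact Module.Finite.equiv (Submodule.quotEquivOfEq _ _ hPeq.symm)
  -- dimension count
  haveI := hfinE
  have hint : (algebraMap R E).IsIntegral := by
    haveI : Algebra.IsIntegral R E := Algebra.IsIntegral.of_finite R E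
    exact algebraMap_isIntegral_iff.mpr inferInstance
  have hdimeq := ringKrullDim_eq_of_isIntegral_of_injective (algebraMap R E) hint hinj
  have hdimE : ringKrullDim E = 1 := by
    rw [← IsLocalRing.maximalIdeal_height_eq_ringKrullDim]
    have hmmem : maximalIdeal E ∈ (Ideal.span {gE}).minimalPrimes := by
      refine ⟨⟨inferInstance, (Ideal.span_singleton_le_iff_mem _).mpr hgEm⟩, ?_⟩
      rintro P ⟨hP, hgP⟩ -
      have hPne : P ≠ ⊥ := by
        intro hPbot
        have : gE ∈ P := hgP (Ideal.subset_span rfl)
        rw [hPbot, Ideal.mem_bot] at this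
        exact hgE0 this
      rw [hone P hP hPne]
    have hle : (maximalIdeal E).height ≤ 1 :=
      Ideal.height_le_one_of_isPrincipal_of_mem_minimalPrimes (Ideal.span {gE}) _ hmmem
    have hne0 : (maximalIdeal E).height ≠ 0 := by
      intro h0
      have hbot' := Ideal.height_eq_zero_iff_eq_bot.mp h0
      have : gE ∈ (⊥ : Ideal E) := hbot' ▸ hgEm
      exact hgE0 ((Ideal.mem_bot).mp this)
    have : (maximalIdeal E).height = 1 :=
      le_antisymm hle (Order.one_le_iff_pos.mpr (pos_iff_ne_zero.mpr hne0))
    rw [this]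
    rfl
  exact hdim (hdimeq.trans hdimE)

end Special

end Groth.Agent.Lib.Helper88.CMLift
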