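import Groth.Agent.Lib.Helper88.NormBC3
import Groth.Agent.Lib.Helper49.HenselFormal
import Mathlib

/-!
# `N ⊗ S` is integrally closed in `K ⊗ S` (`N` the normalization of a Noetherian domain `R`)
-/

universe u

namespace Groth.Agent.Lib.Helper88.NormBC

open Polynomial TensorProduct IsLocalRing

section Concrete

variable (R : Type u) [CommRing R] [IsDomain R] [IsNoetherianRing R] (m : Ideal R) [m.IsPrime]

/-- the localization -/
noncomputable abbrev Rm := Localization.AtPrime m

/-- the completion of the localization -/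
noncomputable abbrev Rhat := AdicCompletion (maximalIdeal (Rm R m)) (Rm R m)

noncomputable instance : IsNoetherianRing (Rhat R m) :=
  Groth.Agent.Lib.Helper49.HenselFormal.isNoetherianRing_cpl (Rm R m)

theorem flat_Rhat : Module.Flat R (Rhat R m) := Module.Flat.trans R (Rm R m) (Rhat R m)

theorem algebraMap_mem_nonZeroDivisors {r : R} (hr : r ≠ 0) :
    algebraMap R (Rhat R m) r ∈ nonZeroDivisors (Rhat R m) := by
  haveI := flat_Rhat R m
  have hreg : IsSMulRegular R r := (IsRegular.of_ne_zero hr).left.isSMulRegular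
  have h2 : IsSMulRegular (Rhat R m) (algebraMap R (Rhat R m) r) := IsSMulRegular.of_flat hreg
  rw [mem_nonZeroDivisors_iff_right]
  intro x hx
  apply h2
  change algebraMap R (Rhat R m) r • x = algebraMap R (Rhat R m) r • 0
  rw [smul_eq_mul, smul_zero, mul_comm]
  exact hx

theorem algebraMap_notMem_of_mem_minimalPrimes {P : Ideal (Rhat R m)}
    (hP : P ∈ minimalPrimes (Rhat R m)) {r : R} (hr : r ≠ 0) : algebraMap R (Rhat R m) r ∉ P := by
  intro h
  have := Ideal.disjoint_nonZeroDivisors_of_mem_minimalPrimes hP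
  exact Set.disjoint_left.1 this h (algebraMap_mem_nonZeroDivisors R m hr)

theorem contraction (I : Ideal R) (c : R)
    (h : algebraMap R (Rhat R m) c ∈ I.map (algebraMap R (Rhat R m))) :
    ∃ u : R, u ∉ m ∧ u * c ∈ I := by
  haveI : Module.FaithfullyFlat (Rm R m) (Rhat R m) := Module.FaithfullyFlat.of_flat_of_isLocalHom
  have h1 : I.map (algebraMap R (Rhat R m)) =
      (I.map (algebraMap R (Rm R m))).map (algebraMap (Rm R m) (Rhat R m)) := by
    rw [Ideal.map_map, ← IsScalarTower.algebraMap_eq]
  rw [h1, IsScalarTower.algebraMap_apply R (Rm R m) (Rhat R m), ← Ideal.mem_comap,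
    Ideal.comap_map_eq_self_of_faithfullyFlat] at h
  rw [IsLocalization.mem_map_algebraMap_iff m.primeCompl] at h
  obtain ⟨⟨i, u⟩, hiu⟩ := h
  refine ⟨u, u.2, ?_⟩
  have : c * u = i := IsLocalization.injective (Rm R m) m.primeCompl_le_nonZeroDivisors
    (by rw [map_mul]; exact hiu)
  rw [mul_comm, this]
  exact i.2

/-- the index type: minimal primes of the completion -/
abbrev MinP : Type u := ↥(minimalPrimes (Rhat R m))

instance (P : MinP R m) : P.1.IsPrime := P.2.1.1

instance : Finite (MinP R m) := (minimalPrimes.finite_of_isNoetherianRing (Rhat R m)).to_subtype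

/-- the fraction field of `R̂ ⧸ P` -/
abbrev LL (P : MinP R m) : Type u := FractionRing (Rhat R m ⧸ P.1)

/-- the normalization of `R̂ ⧸ P` -/
abbrev DD (P : MinP R m) : Type u := ↥(integralClosure (Rhat R m ⧸ P.1) (LL R m P))

noncomputable instance (P : MinP R m) : IsNoetherianRing (DD R m P) := by
  have hN : CAlg.IsNagata (Rhat R m ⧸ P.1) :=
    AnUnram2.isNagata_of_finite (Rhat R m) _
      (Groth.Agent.Lib.Helper49.HenselFormal.isNagata_cpl (Rm R m))
  haveI : Module.Finite (Rhat R m ⧸ P.1) (DD R m P) := AnUnram2.isN1_of_isNagata _ hN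
  exact IsNoetherianRing.of_finite (Rhat R m ⧸ P.1) _

noncomputable instance (P : MinP R m) : IsIntegrallyClosed (DD R m P) :=
  integralClosure.isIntegrallyClosedOfFiniteExtension (FractionRing (Rhat R m ⧸ P.1))

theorem algebraMap_LL_injective (P : MinP R m) :
    Function.Injective (algebraMap R (LL R m P)) := by
  rw [injective_iff_map_eq_zero]
  intro r hr
  by_contra hne
  rw [IsScalarTower.algebraMap_apply R (Rhat R m ⧸ P.1) (LL R m P),
    map_eq_zero_iff _ (IsFractionRing.injective _ _),
    IsScalarTower.algebraMap_apply R (Rhat R m) (Rhat R m ⧸ P.1), Ideal.Quotient.algebraMap_eq,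
    Ideal.Quotient.eq_zero_iff_mem] at hr
  exact algebraMap_notMem_of_mem_minimalPrimes R m P.2 hne hr

variable (K : Type u) [Field K] [Algebra R K] [IsFractionRing R K]

/-- `K → Frac (R̂ ⧸ P)` -/
noncomputable def phi (P : MinP R m) : K →ₐ[R] LL R m P :=
  IsFractionRing.liftAlgHom (g := Algebra.ofId R (LL R m P)) (algebraMap_LL_injective R m P)

theorem phi_algebraMap (P : MinP R m) (a : R) :
    phi R m K P (algebraMap R K a) = algebraMap R (LL R m P) a := by
  rw [phi, IsFractionRing.liftAlgHom_apply, IsFractionRing.lift_algebraMap]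
  rfl

theorem exists_isIntegral_of_mem_N₁ (x : K)
    (hx : x ∈ N₁ R K (DD R m) (LL R m) (phi R m K)) :
    ∃ u : R, u ∉ m ∧ IsIntegral R (algebraMap R K u * x) := by
  obtain ⟨a, b, hb, rfl⟩ := IsFractionRing.div_surjective (A := R) x
  have hb0 : b ≠ 0 := nonZeroDivisors.ne_zero hb
  rw [mem_N₁_iff] at hx
  apply exists_isIntegral_of_forall_minimalPrimes (R' := Rhat R m)
    (minimalPrimes.finite_of_isNoetherianRing _) m (contraction R m) a b hb0
  intro P hP
  obtain ⟨d, hd⟩ := hx ⟨P, hP⟩
  haveI : P.IsPrime := hP.1.1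
  apply exists_monic_hval_mem P _ _ (algebraMap_notMem_of_mem_minimalPrimes R m hP hb0)
  have e : algebraMap (Rhat R m ⧸ P) (FractionRing (Rhat R m ⧸ P))
        (Ideal.Quotient.mk P (algebraMap R (Rhat R m) a)) /
      algebraMap (Rhat R m ⧸ P) (FractionRing (Rhat R m ⧸ P))
        (Ideal.Quotient.mk P (algebraMap R (Rhat R m) b)) =
      phi R m K ⟨P, hP⟩ (algebraMap R K a / algebraMap R K b) := by
    rw [map_div₀, phi_algebraMap, phi_algebraMap]
    rfl
  rw [e, ← hd]
  exact d.2

end Concrete

end Groth.Agent.Lib.Helper88.NormBC
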