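import Mathlib

/-!
# Mori–Nagata, light version

Let `R` be a domain with fraction field `K`, `R'` an `R`-algebra with finitely many minimal primes
in which nonzero elements of `R` stay nonzerodivisors and which satisfies a contraction property
for ideals relative to a prime `m` of `R` (e.g. the completion of `R_m`).  If `x = a / b ∈ K` is
"integral over `R' ⧸ P`" for every minimal prime `P` of `R'`, then `u x` is integral over `R` for
some `u ∉ m`.
-/

universe u

namespace Groth.Agent.Lib.Helper88.NormBC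

open Polynomial

section HVal

variable {R' : Type*} [CommRing R']

/-- the value at `(a, b)` of the homogenization of `p` -/
noncomputable def hval (a b : R') (p : R'[X]) : R' := (p.scaleRoots b).eval a

theorem hval_mul (a b : R') {p q : R'[X]} (hp : p.Monic) (hq : q.Monic) :
    hval a b (p * q) = hval a b p * hval a b q := by
  rcases subsingleton_or_nontrivial R' with h | h
  · exact Subsingleton.elim _ _
  · unfold hval
    rw [mul_scaleRoots' p q b (by rw [hp.leadingCoeff, hq.leadingCoeff, one_mul]; exact one_ne_zero),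
      eval_mul]

theorem hval_one (a b : R') : hval a b (1 : R'[X]) = 1 := by
  unfold hval
  rw [one_scaleRoots, eval_one]

theorem hval_pow (a b : R') {p : R'[X]} (hp : p.Monic) (n : ℕ) :
    hval a b (p ^ n) = hval a b p ^ n := by
  induction n with
  | zero => rw [pow_zero, pow_zero, hval_one]
  | succ n ih => rw [pow_succ, pow_succ, hval_mul a b (hp.pow n) hp, ih]

theorem hval_prod (a b : R') {ι : Type*} (s : Finset ι) (p : ι → R'[X])
    (hp : ∀ i ∈ s, (p i).Monic) :
    hval a b (∏ i ∈ s, p i) = ∏ i ∈ s, hval a b (p i) := by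
  classical
  induction s using Finset.induction_on with
  | empty => rw [Finset.prod_empty, Finset.prod_empty, hval_one]
  | insert i s hi ih =>
    rw [Finset.prod_insert hi, Finset.prod_insert hi,
      hval_mul a b (hp i (Finset.mem_insert_self i s))
        (monic_prod_of_monic s p (fun j hj => hp j (Finset.mem_insert_of_mem hj))),
      ih (fun j hj => hp j (Finset.mem_insert_of_mem hj))]

theorem hval_eq (a b : R') {p : R'[X]} (hp : p.Monic) :
    hval a b p = a ^ p.natDegree +
      ∑ i ∈ Finset.range p.natDegree, p.coeff i * b ^ (p.natDegree - i) * a ^ i := by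
  unfold hval
  rw [eval_eq_sum_range, natDegree_scaleRoots, Finset.sum_range_succ, coeff_scaleRoots,
    hp.coeff_natDegree, Nat.sub_self, pow_zero, one_mul, one_mul, add_comm]
  congr 1
  refine Finset.sum_congr rfl (fun i _ => ?_)
  rw [coeff_scaleRoots]

/-- a monic polynomial over `R' ⧸ P` killing `ā / b̄` gives a monic polynomial over `R'` whose
homogenized value at `(a, b)` lies in `P` -/
theorem exists_monic_hval_mem (P : Ideal R') [P.IsPrime] (a b : R') (hb : b ∉ P)
    (h : IsIntegral (R' ⧸ P)
      (algebraMap (R' ⧸ P) (FractionRing (R' ⧸ P)) (Ideal.Quotient.mk P a) /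
        algebraMap (R' ⧸ P) (FractionRing (R' ⧸ P)) (Ideal.Quotient.mk P b))) :
    ∃ p : R'[X], p.Monic ∧ hval a b p ∈ P := by
  obtain ⟨pbar, hmonic, heval⟩ := h
  have hbne : Ideal.Quotient.mk P b ∈ nonZeroDivisors (R' ⧸ P) := by
    apply mem_nonZeroDivisors_of_ne_zero
    rwa [ne_eq, Ideal.Quotient.eq_zero_iff_mem]
  have h1 := scaleRoots_eval₂_eq_zero_of_eval₂_div_eq_zero
    (IsFractionRing.injective (R' ⧸ P) (FractionRing (R' ⧸ P))) heval hbne
  rw [eval₂_hom, map_eq_zero_iff _ (IsFractionRing.injective (R' ⧸ P) (FractionRing (R' ⧸ P)))]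
    at h1
  obtain ⟨p, hp, -, hpm⟩ := lifts_and_natDegree_eq_and_monic
    (mem_lifts_of_surjective Ideal.Quotient.mk_surjective pbar) hmonic  -- placeholder name
  refine ⟨p, hpm, ?_⟩
  rw [← Ideal.Quotient.eq_zero_iff_mem]
  unfold hval
  rw [← eval_map_apply, map_scaleRoots, hp]
  · exact h1
  · rw [hpm.leadingCoeff, map_one]
    exact one_ne_zero

end HVal

section Main

variable {R : Type*} [CommRing R] [IsDomain R] {K : Type*} [Field K] [Algebra R K]
  [IsFractionRing R K]

/-- from a homogeneous integral equation (up to a factor `u`) to integrality of `u a / b` -/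
theorem isIntegral_of_mul_pow_mem_span (a b u : R) (hb : b ≠ 0) (n : ℕ)
    (h : u * a ^ n ∈ Ideal.span (Set.range fun i : Fin n => a ^ (i : ℕ) * b ^ (n - i))) :
    IsIntegral R (algebraMap R K u * (algebraMap R K a / algebraMap R K b)) := by
  rw [Ideal.mem_span_range_iff_exists_fun] at h
  obtain ⟨c, hc⟩ := h
  rcases n with _ | k
  · rw [Finset.univ_eq_empty, Finset.sum_empty, pow_zero, mul_one] at hc
    rw [← hc, map_zero, zero_mul]
    exact isIntegral_zero
  have hbK : algebraMap R K b ≠ 0 := by
    rwa [ne_eq, map_eq_zero_iff _ (IsFractionRing.injective R K)]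
  set x : K := algebraMap R K a / algebraMap R K b with hx
  set y : K := algebraMap R K u * x with hy
  have hax : algebraMap R K a = x * algebraMap R K b := by
    rw [hx, div_mul_cancel₀ _ hbK]
  -- `u x^n = Σ c_i x^i`
  have h1 : algebraMap R K u * x ^ (k + 1) =
      ∑ i : Fin (k + 1), algebraMap R K (c i) * x ^ (i : ℕ) := by
    have h2 := congrArg (algebraMap R K) hc
    rw [map_sum, map_mul, map_pow, hax, mul_pow] at h2
    have h3 : ∀ i : Fin (k + 1), algebraMap R K (c i * (a ^ (i : ℕ) * b ^ (k + 1 - i))) =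
        (algebraMap R K (c i) * x ^ (i : ℕ)) * algebraMap R K b ^ (k + 1) := by
      intro i
      rw [map_mul, map_mul, map_pow, map_pow, hax, mul_pow, mul_assoc, mul_assoc, ← pow_add,
        Nat.add_sub_cancel' i.2.le]
    rw [Finset.sum_congr rfl (fun i _ => h3 i), ← Finset.sum_mul, ← mul_assoc] at h2
    exact (mul_right_cancel₀ (pow_ne_zero (k + 1) hbK) h2).symm
  -- the monic polynomial
  let f : R[X] := X ^ (k + 1) - ∑ i : Fin (k + 1), C (c i * u ^ (k - i)) * X ^ (i : ℕ)
  have hdeg : (∑ i : Fin (k + 1), C (c i * u ^ (k - i)) * X ^ (i : ℕ) : R[X]).degree <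
      ((k + 1 : ℕ) : WithBot ℕ) := by
    refine lt_of_le_of_lt (degree_sum_le _ _) ?_
    refine (Finset.sup_lt_iff (WithBot.bot_lt_coe (k + 1))).2 ?_
    intro i _
    refine lt_of_le_of_lt (degree_C_mul_X_pow_le _ _) ?_
    exact WithBot.coe_lt_coe.2 i.2
  have hmonic : f.Monic := monic_X_pow_sub hdeg
  refine ⟨f, hmonic, ?_⟩
  rw [eval₂_sub, eval₂_X_pow, eval₂_finsetSum]
  have h4 : ∀ i : Fin (k + 1), eval₂ (algebraMap R K) y (C (c i * u ^ (k - i)) * X ^ (i : ℕ)) =
      algebraMap R K u ^ k * (algebraMap R K (c i) * x ^ (i : ℕ)) := by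
    intro i
    rw [eval₂_mul, eval₂_C, eval₂_X_pow, hy, mul_pow, map_mul, map_pow]
    have : algebraMap R K u ^ k = algebraMap R K u ^ (k - i) * algebraMap R K u ^ (i : ℕ) := by
      rw [← pow_add]
      congr 1
      have := i.2; omega
    rw [this]
    ring
  rw [Finset.sum_congr rfl (fun i _ => h4 i), ← Finset.mul_sum, ← h1, hy, mul_pow, pow_succ
    (algebraMap R K u) k]
  ring

variable {R' : Type*} [CommRing R'] [Algebra R R']

/-- **Mori–Nagata, light version.** -/
theorem exists_isIntegral_of_forall_minimalPrimes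
    (hfin : (minimalPrimes R').Finite) (m : Ideal R)
    (hcontr : ∀ (I : Ideal R) (c : R), algebraMap R R' c ∈ I.map (algebraMap R R') →
      ∃ u : R, u ∉ m ∧ u * c ∈ I)
    (a b : R) (hb : b ≠ 0)
    (h : ∀ P ∈ minimalPrimes R', ∃ p : R'[X], p.Monic ∧
      hval (algebraMap R R' a) (algebraMap R R' b) p ∈ P) :
    ∃ u : R, u ∉ m ∧
      IsIntegral R (algebraMap R K u * (algebraMap R K a / algebraMap R K b)) := by
  classical
  choose! p hp using h
  set a' := algebraMap R R' a
  set b' := algebraMap R R' b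
  let q : R'[X] := ∏ P ∈ hfin.toFinset, p P
  have hq : q.Monic := monic_prod_of_monic _ _ (fun P hP => (hp P (hfin.mem_toFinset.1 hP)).1)
  have hqv : hval a' b' q ∈ nilradical R' := by
    rw [nilradical_eq_sInf, Ideal.mem_sInf]
    intro J hJ
    haveI : J.IsPrime := hJ
    obtain ⟨P, hP, hPJ⟩ := Ideal.exists_minimalPrimes_le (I := ⊥) (J := J) bot_le
    apply hPJ
    rw [show hval a' b' q = ∏ P ∈ hfin.toFinset, hval a' b' (p P) from
      hval_prod a' b' _ p (fun P hP => (hp P (hfin.mem_toFinset.1 hP)).1)]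
    exact Ideal.prod_mem _ (hfin.mem_toFinset.2 hP) (hp P hP).2
  obtain ⟨e, he⟩ := hqv
  rw [← hval_pow a' b' hq] at he
  have hqe : (q ^ e).Monic := hq.pow e
  set n := (q ^ e).natDegree with hn
  rw [hval_eq a' b' hqe] at he
  let I : Ideal R := Ideal.span (Set.range fun i : Fin n => a ^ (i : ℕ) * b ^ (n - i))
  have hmem : algebraMap R R' (a ^ n) ∈ I.map (algebraMap R R') := by
    rw [map_pow, eq_neg_of_add_eq_zero_left he]
    rw [Ideal.neg_mem_iff]
    refine Ideal.sum_mem _ (fun i hi => ?_)
    have hi' : i < n := Finset.mem_range.1 hi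
    rw [mul_assoc]
    apply Ideal.mul_mem_left
    have : b' ^ (n - i) * a' ^ i = algebraMap R R' (a ^ i * b ^ (n - i)) := by
      rw [map_mul, map_pow, map_pow, mul_comm]
    rw [this]
    exact Ideal.mem_map_of_mem _ (Ideal.subset_span ⟨⟨i, hi'⟩, rfl⟩)
  obtain ⟨u, hu, hua⟩ := hcontr I _ hmem
  exact ⟨u, hu, isIntegral_of_mul_pow_mem_span a b u hb n hua⟩

end Main

end Groth.Agent.Lib.Helper88.NormBC
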