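import Groth.Agent.Lib.Helper88.KrullB
import Mathlib

/-!
# Abstract Krull families with centres on a finite base

Given a Noetherian domain `C` with fraction field `K` and a family of `ℤᵐ⁰`-valued valuations
defining the integral closure of `C` in `K`, of finite character, which is split into "good"
members (whose valuation rings are localizations of the integral closure at elements of `C`) and
irredundant "bad" members (whose centres on the integral closure are determined by their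
contractions to `C`), the essential valuation rings are the integral closures of the
localizations of `C` at its height-one primes.
-/

namespace Groth.Agent.Lib.Helper88.Krull

open scoped WithZero
open MonoidWithZeroHom

theorem dvr_of_nontrivial {K : Type*} [Field K] (v : Valuation K ℤᵐ⁰) (c : K) (hc0 : c ≠ 0)
    (hc : v c < 1) : IsDiscreteValuationRing v.valuationSubring := by
  haveI : Nontrivial (valueGroup (.ofClass v)) := by
    rw [Subgroup.nontrivial_iff_exists_ne_one]
    have hvc0 : v c ≠ 0 := (Valuation.ne_zero_iff _).2 hc0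
    refine ⟨Units.mk0 (v c) hvc0, mem_valueGroup _ (Set.mem_range_self c), ?_⟩
    intro h
    have : v c = 1 := by
      have := congrArg Units.val h
      simpa using this
    rw [this] at hc
    exact lt_irrefl _ hc
  infer_instance

/-- a valuation ring of a rank one valuation is maximal -/
theorem le_one_of_forall_le_one {K : Type*} [Field K] (v₁ v₂ : Valuation K ℤᵐ⁰)
    (h : ∀ x, v₁ x ≤ 1 → v₂ x ≤ 1) (c : K) (hc0 : c ≠ 0) (hc : v₂ c < 1) (x : K)
    (hx : v₂ x ≤ 1) : v₁ x ≤ 1 := by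
  by_contra hlt
  rw [not_le] at hlt
  have hc1 : v₁ c < 1 := by
    by_contra hge
    rw [not_lt] at hge
    have h1 : v₁ c⁻¹ ≤ 1 := by
      rw [map_inv₀]
      exact inv_le_one_of_one_le₀ hge
    have h2 := h _ h1
    rw [map_inv₀] at h2
    have hv0 : v₂ c ≠ 0 := (Valuation.ne_zero_iff _).2 hc0
    have : 1 ≤ v₂ c := by
      rwa [inv_le_one₀ (zero_lt_iff.2 hv0)] at h2
    exact absurd hc (not_lt.2 this)
  have hc10 : v₁ c ≠ 0 := (Valuation.ne_zero_iff _).2 hc0
  obtain ⟨n, m, hn, hm, hnm⟩ := exists_pow_mul_pow_eq_one hlt hc1 hc10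
  have ht1 : v₁ (x ^ n * c ^ m)⁻¹ ≤ 1 := by
    rw [map_inv₀, map_mul, map_pow, map_pow, hnm, inv_one]
  have ht2 := h _ ht1
  have hx0 : x ≠ 0 := by
    rintro rfl
    rw [map_zero] at hlt
    exact absurd hlt (not_lt.2 zero_le')
  have hv0 : v₂ (x ^ n * c ^ m) ≠ 0 :=
    (Valuation.ne_zero_iff _).2 (mul_ne_zero (pow_ne_zero _ hx0) (pow_ne_zero _ hc0))
  rw [map_inv₀, inv_le_one₀ (zero_lt_iff.2 hv0), map_mul, map_pow, map_pow] at ht2
  have : v₂ x ^ n * v₂ c ^ m < 1 := by
    calc v₂ x ^ n * v₂ c ^ m ≤ 1 * v₂ c ^ m := mul_le_mul' (pow_le_one₀ zero_le' hx) le_rfl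
      _ = v₂ c ^ m := one_mul _
      _ < 1 := pow_lt_one₀ zero_le' hc hm.ne'
  exact absurd ht2 (not_le.2 this)

section Cen

variable {R K : Type*} [CommRing R] [Field K] [Algebra R K] (v : Valuation K ℤᵐ⁰)
  (h : ∀ r : R, v (algebraMap R K r) ≤ 1)

/-- the centre of a valuation on a ring over which it is non-negative -/
def cen : Ideal R where
  carrier := {r | v (algebraMap R K r) < 1}
  add_mem' := by
    intro a b ha hb
    simp only [Set.mem_setOf_eq, map_add] at *
    exact lt_of_le_of_lt (v.map_add _ _) (max_lt ha hb)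
  zero_mem' := by simp
  smul_mem' := by
    intro c x hx
    simp only [Set.mem_setOf_eq, smul_eq_mul, map_mul] at *
    calc v (algebraMap R K c) * v (algebraMap R K x) ≤ 1 * v (algebraMap R K x) :=
          mul_le_mul' (h c) le_rfl
      _ = v (algebraMap R K x) := one_mul _
      _ < 1 := hx

theorem mem_cen {r : R} : r ∈ cen v h ↔ v (algebraMap R K r) < 1 := Iff.rfl

theorem eq_one_of_notMem_cen {r : R} (hr : r ∉ cen v h) : v (algebraMap R K r) = 1 :=
  le_antisymm (h r) (not_lt.1 hr)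

instance cen_isPrime : (cen v h).IsPrime := by
  constructor
  · rw [Ne, Ideal.eq_top_iff_one, mem_cen, map_one, map_one]
    exact lt_irrefl _
  · intro a b hab
    by_contra hcon
    push Not at hcon
    rw [mem_cen, map_mul, map_mul, eq_one_of_notMem_cen v h hcon.1,
      eq_one_of_notMem_cen v h hcon.2, one_mul] at hab
    exact lt_irrefl _ hab

end Cen

section Abstract

variable {C : Type*} [CommRing C] [IsDomain C]
  {K : Type*} [Field K] [Algebra C K] [IsFractionRing C K]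
  {ι : Type*} (w : ι → Valuation K ℤᵐ⁰)
  (hO : ∀ x : K, IsIntegral C x ↔ ∀ i, w i x ≤ 1)

include hO in
theorem w_algebraMap_le_one (i : ι) (c : C) : w i (algebraMap C K c) ≤ 1 :=
  (hO _).1 isIntegral_algebraMap i

include hO in
theorem w_coe_le_one (i : ι) (x : integralClosure C K) :
    w i (algebraMap (integralClosure C K) K x) ≤ 1 :=
  (hO _).1 x.2 i

/-- centre on the base -/
def cenC (i : ι) : Ideal C := cen (w i) (w_algebraMap_le_one w hO i)

/-- centre on the integral closure -/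
def cenI (i : ι) : Ideal (integralClosure C K) := cen (w i) (w_coe_le_one w hO i)

instance (i : ι) : (cenC w hO i).IsPrime := cen_isPrime _ _

instance (i : ι) : (cenI w hO i).IsPrime := cen_isPrime _ _

theorem mem_cenC {i : ι} {c : C} : c ∈ cenC w hO i ↔ w i (algebraMap C K c) < 1 := Iff.rfl

theorem mem_cenI {i : ι} {x : integralClosure C K} : x ∈ cenI w hO i ↔ w i (x : K) < 1 := Iff.rfl

theorem le_one_of_cenC_eq_bot (i : ι) (hi : cenC w hO i = ⊥) (x : K) : w i x ≤ 1 := by
  obtain ⟨a, b, hb, rfl⟩ := IsFractionRing.div_surjective (A := C) x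
  have hb0 : b ≠ 0 := nonZeroDivisors.ne_zero hb
  have hb1 : w i (algebraMap C K b) = 1 := by
    refine le_antisymm (w_algebraMap_le_one w hO i b) (not_lt.1 fun hlt => hb0 ?_)
    have : b ∈ cenC w hO i := hlt
    rw [hi] at this
    exact this
  rw [map_div₀, hb1, div_one]
  exact w_algebraMap_le_one w hO i a

theorem le_one_of_isIntegral_mul (p : Ideal C) (i : ι) (hi : cenC w hO i = p) (s : C)
    (hs : s ∉ p) (x : K) (hsx : IsIntegral C (algebraMap C K s * x)) : w i x ≤ 1 := by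
  have h1 : w i (algebraMap C K s) = 1 :=
    eq_one_of_notMem_cen (w i) (w_algebraMap_le_one w hO i) (by rw [← hi] at hs; exact hs)
  have := (hO _).1 hsx i
  rwa [map_mul, h1, one_mul] at this

omit [IsFractionRing C K] in
/-- lying over, elementwise -/
theorem mem_of_mul_isIntegral [FaithfulSMul C K] (p : Ideal C) [p.IsPrime] (c s : C) (hc : c ∈ p)
    (a : K) (ha : IsIntegral C a) (h : algebraMap C K s = algebraMap C K c * a) : s ∈ p := by
  have hinj : Function.Injective (algebraMap C (integralClosure C K)) := by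
    intro x y hxy
    apply FaithfulSMul.algebraMap_injective C K
    exact congrArg Subtype.val hxy
  obtain ⟨𝔫, -, h𝔫, h𝔫p⟩ := Ideal.exists_ideal_over_prime_of_isIntegral
    (S := integralClosure C K) p ⊥ (by
      rw [← RingHom.ker_eq_comap_bot, (RingHom.injective_iff_ker_eq_bot _).1 hinj]
      exact bot_le)
  rw [← h𝔫p, Ideal.mem_comap]
  have : algebraMap C (integralClosure C K) s =
      algebraMap C (integralClosure C K) c * ⟨a, ha⟩ := Subtype.ext h
  rw [this]
  apply Ideal.mul_mem_right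
  rw [← Ideal.mem_comap, h𝔫p]
  exact hc

variable (hfin : ∀ x : K, x ≠ 0 → {i | 1 < w i x}.Finite)

include hfin in
theorem exists_notMem_isIntegral (p : Ideal C) [p.IsPrime] (hp : p.height = 1) (x : K)
    (hx : ∀ i, cenC w hO i = p → w i x ≤ 1) :
    ∃ s : C, s ∉ p ∧ IsIntegral C (algebraMap C K s * x) := by
  let O : Subring K := (integralClosure C K).toSubring
  have hO' : ∀ x, x ∈ O ↔ ∀ i, w i x ≤ 1 := hO
  let S : Submonoid K := p.primeCompl.map (algebraMap C K : C →* K)
  have hS : (S : Set K) ⊆ O := by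
    rintro _ ⟨s, -, rfl⟩
    exact isIntegral_algebraMap
  have key : ∀ i, 1 < w i x → ∃ u ∈ S, w i u < 1 := by
    intro i hi
    have hne : cenC w hO i ≠ p := fun h => absurd (hx i h) (not_le.2 hi)
    have hbot : cenC w hO i ≠ ⊥ :=
      fun h => absurd (le_one_of_cenC_eq_bot w hO i h x) (not_le.2 hi)
    have hnle : ¬ cenC w hO i ≤ p := fun hle => hne (eq_of_le_of_height_eq_one hp hle hbot)
    obtain ⟨u, hu, hup⟩ := SetLike.not_le_iff_exists.1 hnle
    exact ⟨algebraMap C K u, ⟨u, hup, rfl⟩, hu⟩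
  obtain ⟨s, ⟨s', hs', rfl⟩, hsx⟩ := exists_mul_mem w O hO' hfin S hS x key
  exact ⟨s', hs', hsx⟩

include hfin in
theorem exists_cenC_eq (p : Ideal C) [p.IsPrime] (hp : p.height = 1) :
    ∃ i, cenC w hO i = p := by
  by_contra hcon
  push Not at hcon
  have hpbot : p ≠ ⊥ := by
    rintro rfl
    rw [Ideal.height_bot] at hp
    exact zero_ne_one hp
  obtain ⟨c, hc, hc0⟩ := Submodule.exists_mem_ne_zero_of_ne_bot hpbot
  obtain ⟨s, hs, hsx⟩ := exists_notMem_isIntegral w hO hfin p hp (algebraMap C K c)⁻¹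
    (fun i hi => absurd hi (hcon i))
  apply hs
  apply mem_of_mul_isIntegral p c s hc _ hsx
  have : algebraMap C K c ≠ 0 := by
    rwa [Ne, map_eq_zero_iff _ (IsFractionRing.injective C K)]
  field_simp

include hfin in
/-- nonzero primes of the integral closure contain a nonzero centre -/
theorem exists_cenI_le (𝔫 : Ideal (integralClosure C K)) [𝔫.IsPrime] (h𝔫 : 𝔫 ≠ ⊥) :
    ∃ i, cenI w hO i ≠ ⊥ ∧ cenI w hO i ≤ 𝔫 := by
  by_contra hcon
  push Not at hcon
  obtain ⟨d, hd, hd0⟩ := Submodule.exists_mem_ne_zero_of_ne_bot h𝔫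
  let O : Subring K := (integralClosure C K).toSubring
  have hO' : ∀ x, x ∈ O ↔ ∀ i, w i x ≤ 1 := hO
  let S : Submonoid K := 𝔫.primeCompl.map ((integralClosure C K).val : _ →* K)
  have hS : (S : Set K) ⊆ O := by
    rintro _ ⟨s, -, rfl⟩
    exact s.2
  have hd0' : (d : K) ≠ 0 := fun h => hd0 (Subtype.ext h)
  have key : ∀ i, 1 < w i (d : K)⁻¹ → ∃ u ∈ S, w i u < 1 := by
    intro i hi
    have hdi : d ∈ cenI w hO i := by
      rw [mem_cenI]
      rw [map_inv₀] at hi
      have hv0 : w i (d : K) ≠ 0 := (Valuation.ne_zero_iff _).2 hd0'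
      exact (one_lt_inv₀ (zero_lt_iff.2 hv0)).1 hi
    have hbot : cenI w hO i ≠ ⊥ := fun h => hd0 (by rw [h] at hdi; exact hdi)
    obtain ⟨u, hu, hun⟩ := SetLike.not_le_iff_exists.1 (hcon i hbot)
    exact ⟨(u : K), ⟨u, hun, rfl⟩, hu⟩
  obtain ⟨s, ⟨s', hs', rfl⟩, hsx⟩ := exists_mul_mem w O hO' hfin S hS (d : K)⁻¹ key
  apply hs'
  have : s' = d * ⟨_, hsx⟩ := by
    apply Subtype.ext
    change (s' : K) = (d : K) * ((s' : K) * (d : K)⁻¹)
    field_simp
  rw [this]
  exact Ideal.mul_mem_right _ _ hd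

end Abstract

section Main

variable {C : Type*} [CommRing C] [IsDomain C]
  {K : Type*} [Field K] [Algebra C K] [IsFractionRing C K]
  {ι : Type*} (w : ι → Valuation K ℤᵐ⁰)
  (hO : ∀ x : K, IsIntegral C x ↔ ∀ i, w i x ≤ 1)
  (hfin : ∀ x : K, x ≠ 0 → {i | 1 < w i x}.Finite)
  (good : ι → Prop)
  (hgood : ∀ i, good i → ∀ x : K, w i x ≤ 1 →
    ∃ u : C, w i (algebraMap C K u) = 1 ∧ IsIntegral C (algebraMap C K u * x))
  (hirr : ∀ j, ¬ good j → ∃ y : K, 1 < w j y ∧ ∀ i, i ≠ j → w i y ≤ 1)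
  (hU : ∀ j, ¬ good j → ∀ 𝔫 : Ideal (integralClosure C K), 𝔫.IsPrime →
    (∀ c : C, algebraMap C (integralClosure C K) c ∈ 𝔫 ↔ w j (algebraMap C K c) < 1) →
    ∀ x : integralClosure C K, x ∈ 𝔫 ↔ w j (x : K) < 1)

include hgood in
theorem le_one_of_good (i₁ i₂ : ι) (h₁ : good i₁) (heq : cenC w hO i₁ = cenC w hO i₂) (x : K)
    (hx : w i₁ x ≤ 1) : w i₂ x ≤ 1 := by
  obtain ⟨u, hu1, hux⟩ := hgood i₁ h₁ x hx
  have hu2 : w i₂ (algebraMap C K u) = 1 := by
    apply eq_one_of_notMem_cen (w i₂) (w_algebraMap_le_one w hO i₂)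
    intro hmem
    have : u ∈ cenC w hO i₁ := by rw [heq]; exact hmem
    rw [mem_cenC, hu1] at this
    exact lt_irrefl _ this
  have := (hO _).1 hux i₂
  rwa [map_mul, hu2, one_mul] at this

include hirr hU in
theorem eq_of_not_good (i₁ i₂ : ι) (h₁ : ¬ good i₁) (h₂ : ¬ good i₂)
    (heq : cenC w hO i₁ = cenC w hO i₂) (hne : cenC w hO i₁ ≠ ⊥) : i₁ = i₂ := by
  by_contra hne12
  have hI : ∀ x : integralClosure C K, x ∈ cenI w hO i₁ ↔ w i₂ (x : K) < 1 := by
    apply hU i₂ h₂ (cenI w hO i₁) inferInstance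
    intro c
    have : c ∈ cenC w hO i₁ ↔ c ∈ cenC w hO i₂ := by rw [heq]
    exact this
  obtain ⟨y, hy, hy'⟩ := hirr i₁ h₁
  obtain ⟨c, hc, hc0⟩ := Submodule.exists_mem_ne_zero_of_ne_bot hne
  let O : Subring K := (integralClosure C K).toSubring
  have hO' : ∀ x, x ∈ O ↔ ∀ i, w i x ≤ 1 := hO
  have hc0' : algebraMap C K c ≠ 0 := by
    rwa [Ne, map_eq_zero_iff _ (IsFractionRing.injective C K)]
  obtain ⟨t, ht, ht1, ht'⟩ := exists_mem_eq_one w O hO' i₁ y hy hy' (algebraMap C K c)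
    isIntegral_algebraMap hc0' hc
  have h2 : w i₂ t < 1 := by
    apply ht' i₂ (Ne.symm hne12)
    have : c ∈ cenC w hO i₂ := by rw [← heq]; exact hc
    exact this
  have h3 : (⟨t, ht⟩ : integralClosure C K) ∈ cenI w hO i₁ := (hI ⟨t, ht⟩).2 h2
  rw [mem_cenI] at h3
  change w i₁ t < 1 at h3
  rw [ht1] at h3
  exact lt_irrefl _ h3

include hO hfin hgood hirr hU in
/-- **(a)** the integral closure of the localization at a height-one prime is a DVR -/
theorem exists_valuationSubring (p : Ideal C) [p.IsPrime] (hp : p.height = 1) :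
    ∃ V : ValuationSubring K, IsDiscreteValuationRing V ∧
      ∀ x, x ∈ V ↔ ∃ s : C, s ∉ p ∧ IsIntegral C (algebraMap C K s * x) := by
  obtain ⟨i₀, hi₀⟩ := exists_cenC_eq w hO hfin p hp
  have hpbot : p ≠ ⊥ := by
    rintro rfl
    rw [Ideal.height_bot] at hp
    exact zero_ne_one hp
  obtain ⟨c, hc, hc0⟩ := Submodule.exists_mem_ne_zero_of_ne_bot hpbot
  have hc0' : algebraMap C K c ≠ 0 := by
    rwa [Ne, map_eq_zero_iff _ (IsFractionRing.injective C K)]
  have hci : ∀ i, cenC w hO i = p → w i (algebraMap C K c) < 1 := by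
    intro i hi
    have : c ∈ cenC w hO i := by rw [hi]; exact hc
    exact this
  -- members with the same centre have the same valuation ring
  have same : ∀ i₁ i₂, good i₁ → cenC w hO i₁ = p → cenC w hO i₂ = p →
      ∀ x, w i₁ x ≤ 1 ↔ w i₂ x ≤ 1 := by
    intro i₁ i₂ hg h1 h2 x
    have hle := le_one_of_good w hO good hgood i₁ i₂ hg (h1.trans h2.symm)
    exact ⟨hle x, le_one_of_forall_le_one _ _ hle _ hc0' (hci i₂ h2) x⟩
  have key : ∀ i, cenC w hO i = p → ∀ x, w i₀ x ≤ 1 ↔ w i x ≤ 1 := by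
    intro i hi x
    by_cases hex : ∃ i₁, good i₁ ∧ cenC w hO i₁ = p
    · obtain ⟨i₁, hg, h1⟩ := hex
      exact (same i₁ i₀ hg h1 hi₀ x).symm.trans (same i₁ i hg h1 hi x)
    · push Not at hex
      have h0 : ¬ good i₀ := fun hg => hex i₀ hg hi₀
      have h1 : ¬ good i := fun hg => hex i hg hi
      have : i₀ = i := eq_of_not_good w hO good hirr hU i₀ i h0 h1 (hi₀.trans hi.symm)
        (by rw [hi₀]; exact hpbot)
      rw [this]
  refine ⟨(w i₀).valuationSubring, dvr_of_nontrivial _ _ hc0' (hci i₀ hi₀), fun x => ?_⟩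
  rw [Valuation.mem_valuationSubring_iff]
  constructor
  · intro hx
    exact exists_notMem_isIntegral w hO hfin p hp x (fun i hi => (key i hi x).1 hx)
  · rintro ⟨s, hs, hsx⟩
    exact le_one_of_isIntegral_mul w hO p i₀ hi₀ s hs x hsx

include hgood in
theorem height_cenC_of_good (i : ι) (hg : good i) (hbot : cenC w hO i ≠ ⊥) :
    (cenC w hO i).height = 1 := by
  apply height_eq_one_of_forall hbot
  intro P hP hlt
  by_contra hPbot
  obtain ⟨y, hy, hy0⟩ := Submodule.exists_mem_ne_zero_of_ne_bot hPbot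
  obtain ⟨c, hc, hcP⟩ := SetLike.exists_of_lt hlt
  have hy0' : algebraMap C K y ≠ 0 := by
    rwa [Ne, map_eq_zero_iff _ (IsFractionRing.injective C K)]
  have hwy : w i (algebraMap C K y) < 1 := hlt.le hy
  have hwy0 : w i (algebraMap C K y) ≠ 0 := (Valuation.ne_zero_iff _).2 hy0'
  have hwc : w i (algebraMap C K c) < 1 := hc
  have hc0' : algebraMap C K c ≠ 0 := by
    rw [Ne, map_eq_zero_iff _ (IsFractionRing.injective C K)]
    rintro rfl
    exact hcP P.zero_mem
  have hwc0 : w i (algebraMap C K c) ≠ 0 := (Valuation.ne_zero_iff _).2 hc0'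
  have ha : 1 < w i (algebraMap C K y)⁻¹ := by
    rw [map_inv₀]
    exact (one_lt_inv₀ (zero_lt_iff.2 hwy0)).2 hwy
  obtain ⟨n, m, hn, hm, hnm⟩ := exists_pow_mul_pow_eq_one ha hwc hwc0
  have ht : w i ((algebraMap C K y)⁻¹ ^ n * algebraMap C K c ^ m) ≤ 1 := by
    rw [map_mul, map_pow, map_pow, hnm]
  obtain ⟨u, hu1, hut⟩ := hgood i hg _ ht
  have hmem : u * c ^ m ∈ P := by
    apply mem_of_mul_isIntegral P (y ^ n) (u * c ^ m) (P.pow_mem_of_mem hy n hn) _ hut
    rw [map_mul, map_pow, map_pow]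
    have hyn : algebraMap C K y ^ n * (algebraMap C K y)⁻¹ ^ n = 1 := by
      rw [← mul_pow, mul_inv_cancel₀ hy0', one_pow]
    calc algebraMap C K u * algebraMap C K c ^ m
        = (algebraMap C K y ^ n * (algebraMap C K y)⁻¹ ^ n) *
            (algebraMap C K u * algebraMap C K c ^ m) := by rw [hyn, one_mul]
      _ = _ := by ring
  rcases hP.mem_or_mem hmem with h | h
  · have : w i (algebraMap C K u) < 1 := hlt.le h
    rw [hu1] at this
    exact lt_irrefl _ this
  · exact hcP (hP.mem_of_pow_mem _ h)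

include hfin hirr hU in
theorem height_cenC_of_not_good (j : ι) (hg : ¬ good j) (hbot : cenC w hO j ≠ ⊥) :
    (cenC w hO j).height = 1 := by
  apply height_eq_one_of_forall hbot
  intro P hP hlt
  by_contra hPbot
  have hinj : Function.Injective (algebraMap C (integralClosure C K)) := by
    intro x y hxy
    apply IsFractionRing.injective C K
    exact congrArg Subtype.val hxy
  obtain ⟨𝔫', -, h𝔫', h𝔫'P⟩ := Ideal.exists_ideal_over_prime_of_isIntegral
    (S := integralClosure C K) P ⊥ (by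
      rw [← RingHom.ker_eq_comap_bot, (RingHom.injective_iff_ker_eq_bot _).1 hinj]
      exact bot_le)
  obtain ⟨𝔫, h𝔫le, h𝔫, h𝔫j⟩ := Ideal.exists_ideal_over_prime_of_isIntegral_of_isPrime
    (S := integralClosure C K) (cenC w hO j) 𝔫' (by rw [h𝔫'P]; exact hlt.le)
  have h𝔫eq : ∀ x : integralClosure C K, x ∈ 𝔫 ↔ w j (x : K) < 1 := by
    apply hU j hg 𝔫 h𝔫
    intro c
    rw [← Ideal.mem_comap, h𝔫j]
    rfl
  have h𝔫'bot : 𝔫' ≠ ⊥ := by
    rintro rfl
    apply hPbot
    rw [← h𝔫'P, ← RingHom.ker_eq_comap_bot, (RingHom.injective_iff_ker_eq_bot _).1 hinj]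
  obtain ⟨i, hibot, hile⟩ := exists_cenI_le w hO hfin 𝔫' h𝔫'bot
  have hij : i ≠ j := by
    rintro rfl
    have h1 : 𝔫 ≤ 𝔫' := fun x hx => hile ((h𝔫eq x).1 hx)
    have h2 : 𝔫' = 𝔫 := le_antisymm h𝔫le h1
    rw [h2, h𝔫j] at h𝔫'P
    exact hlt.ne h𝔫'P.symm
  obtain ⟨y, hy, hy'⟩ := hirr j hg
  obtain ⟨z, hz, hz0⟩ := Submodule.exists_mem_ne_zero_of_ne_bot hibot
  let O : Subring K := (integralClosure C K).toSubring
  have hO' : ∀ x, x ∈ O ↔ ∀ i, w i x ≤ 1 := hO
  have hz0' : (z : K) ≠ 0 := fun h => hz0 (Subtype.ext h)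
  have hzj : w j (z : K) < 1 := (h𝔫eq z).1 (h𝔫le (hile hz))
  obtain ⟨t, ht, ht1, ht'⟩ := exists_mem_eq_one w O hO' j y hy hy' (z : K) z.2 hz0' hzj
  have h2 : w i t < 1 := ht' i hij hz
  have h3 : (⟨t, ht⟩ : integralClosure C K) ∈ 𝔫 := h𝔫le (hile h2)
  have h4 := (h𝔫eq _).1 h3
  change w j t < 1 at h4
  rw [ht1] at h4
  exact lt_irrefl _ h4

include hO hfin hgood hirr hU in
/-- **(b)** the integral closure is the intersection of the essential valuation rings -/
theorem isIntegral_iff_forall (x : K) : IsIntegral C x ↔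
    ∀ (p : Ideal C) [p.IsPrime], p.height = 1 →
      ∃ s : C, s ∉ p ∧ IsIntegral C (algebraMap C K s * x) := by
  constructor
  · intro hx p hp _
    refine ⟨1, (Ideal.ne_top_iff_one p).1 hp.ne_top, ?_⟩
    rwa [map_one, one_mul]
  · intro h
    rw [hO]
    intro i
    by_cases hbot : cenC w hO i = ⊥
    · exact le_one_of_cenC_eq_bot w hO i hbot x
    · have hht : (cenC w hO i).height = 1 := by
        by_cases hg : good i
        · exact height_cenC_of_good w hO good hgood i hg hbot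
        · exact height_cenC_of_not_good w hO hfin good hirr hU i hg hbot
      obtain ⟨s, hs, hsx⟩ := h (cenC w hO i) hht
      exact le_one_of_isIntegral_mul w hO _ i rfl s hs x hsx

omit [IsDomain C] in
/-- **(c)** finite character -/
theorem finite_setOf_not_exists [IsDomain C] [IsNoetherianRing C] (x : K) :
    {p : Ideal C | p.IsPrime ∧ p.height = 1 ∧
      ¬ ∃ s : C, s ∉ p ∧ IsIntegral C (algebraMap C K s * x)}.Finite := by
  obtain ⟨a, b, hb, rfl⟩ := IsFractionRing.div_surjective (A := C) x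
  have hb0 : b ≠ 0 := nonZeroDivisors.ne_zero hb
  have hb0' : algebraMap C K b ≠ 0 := by
    rwa [Ne, map_eq_zero_iff _ (IsFractionRing.injective C K)]
  apply Set.Finite.subset (Ideal.finite_minimalPrimes_of_isNoetherianRing C (Ideal.span {b}))
  rintro p ⟨hp, hht, hnot⟩
  have hbp : b ∈ p := by
    by_contra hbp
    refine hnot ⟨b, hbp, ?_⟩
    rw [mul_div_cancel₀ _ hb0']
    exact isIntegral_algebraMap
  refine ⟨⟨hp, (Ideal.span_singleton_le_iff_mem _).2 hbp⟩, fun P ⟨hP, hbP⟩ hPp => ?_⟩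
  have hPbot : P ≠ ⊥ := by
    rintro rfl
    exact hb0 (by simpa using hbP)
  exact (eq_of_le_of_height_eq_one hht hPp hPbot).ge

end Main

end Groth.Agent.Lib.Helper88.Krull
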