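import Groth.Agent.Lib.Helper88.KrullE
import Groth.Agent.Lib.Helper88.KrullG
import Mathlib

/-!
# The Krull structure of the integral closure of a Noetherian local domain
-/

universe u

namespace Groth.Agent.Lib.Helper88.Krull

open scoped WithZero
open IsLocalRing NormBC

section Centers

variable (A : Type u) [CommRing A] [IsDomain A] [IsNoetherianRing A] (m : Ideal A) [m.IsPrime]
  (K : Type u) [Field K] [Algebra A K] [IsFractionRing A K]

/-- the centre of a member of the family on the integral closure -/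
noncomputable def cenA (q : Idx A m) : Ideal (integralClosure A K) :=
  q.2.1.comap (rhoA A m K q.1)

instance (q : Idx A m) : (cenA A m K q).IsPrime := Ideal.comap_isPrime _ _

theorem mem_cenA_iff (q : Idx A m) (x : integralClosure A K) :
    x ∈ cenA A m K q ↔ wv A m K q (x : K) < 1 := by
  rw [cenA, Ideal.mem_comap, ← vH_algebraMap_lt_one_iff (DD A m q.1) (LL A m q.1) q.2, wv_apply]
  rfl

theorem wv_le_one_of_mem (q : Idx A m) (x : integralClosure A K) : wv A m K q (x : K) ≤ 1 :=
  wv_le_one_of_isIntegral A m K q x.2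

theorem wv_eq_one_of_notMem (q : Idx A m) (x : integralClosure A K) (hx : x ∉ cenA A m K q) :
    wv A m K q (x : K) = 1 :=
  le_antisymm (wv_le_one_of_mem A m K q x) (not_lt.1 (fun h => hx ((mem_cenA_iff A m K q x).2 h)))

end Centers

section Sep

variable (A : Type u) [CommRing A] [IsDomain A] [IsNoetherianRing A] (m : Ideal A) [m.IsPrime]
  (K : Type u) [Field K] [Algebra A K] [IsFractionRing A K]

open Classical in
theorem exists_sep (j : Idx A m) : ∃ E : Finset (integralClosure A K),
    (∀ e ∈ E, e ∈ cenA A m K j) ∧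
    ∀ 𝔫 : Ideal (integralClosure A K), 𝔫.IsPrime →
      𝔫.comap (algebraMap A (integralClosure A K)) =
        (cenA A m K j).comap (algebraMap A (integralClosure A K)) →
      𝔫 ≠ cenA A m K j → ∃ e ∈ E, e ∉ 𝔫 := by
  set p₀ := (cenA A m K j).comap (algebraMap A (integralClosure A K)) with hp₀
  have hF := finite_primesOver A p₀ K
  have hex : ∀ 𝔫 : Ideal (integralClosure A K), ∃ e : integralClosure A K,
      e ∈ cenA A m K j ∧ (𝔫.IsPrime → 𝔫.comap (algebraMap A (integralClosure A K)) = p₀ →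
        𝔫 ≠ cenA A m K j → e ∉ 𝔫) := by
    intro 𝔫
    by_cases h : 𝔫.IsPrime ∧ 𝔫.comap (algebraMap A (integralClosure A K)) = p₀ ∧
        𝔫 ≠ cenA A m K j
    · obtain ⟨h1, h2, h3⟩ := h
      have hnle : ¬ cenA A m K j ≤ 𝔫 := by
        intro hle
        have hlt : cenA A m K j < 𝔫 := lt_of_le_of_ne hle (Ne.symm h3)
        have := Ideal.IsIntegral.comap_lt_comap (R := A) hlt
        rw [h2] at this
        exact lt_irrefl _ this
      obtain ⟨e, he, hen⟩ := SetLike.not_le_iff_exists.1 hnle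
      exact ⟨e, he, fun _ _ _ => hen⟩
    · exact ⟨0, Ideal.zero_mem _, fun h1 h2 h3 => absurd ⟨h1, h2, h3⟩ h⟩
  choose e he1 he2 using hex
  refine ⟨hF.toFinset.image e, ?_, ?_⟩
  · intro x hx
    obtain ⟨𝔫, -, rfl⟩ := Finset.mem_image.1 hx
    exact he1 𝔫
  · intro 𝔫 h1 h2 h3
    exact ⟨e 𝔫, Finset.mem_image_of_mem _ (hF.mem_toFinset.2 ⟨h1, h2⟩), he2 𝔫 h1 h2 h3⟩

open Classical in
theorem exists_finite_subalgebra (J : Finset (Idx A m)) :
    ∃ C : Subalgebra A K, C ≤ integralClosure A K ∧ Module.Finite A C ∧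
      ∀ j ∈ J, ∀ 𝔫 : Ideal (integralClosure A K), 𝔫.IsPrime →
        (∀ x : integralClosure A K, (x : K) ∈ C → (x ∈ 𝔫 ↔ wv A m K j (x : K) < 1)) →
        ∀ x : integralClosure A K, x ∈ 𝔫 ↔ wv A m K j (x : K) < 1 := by
  choose E hE1 hE2 using exists_sep A m K
  let Etot : Finset (integralClosure A K) := J.biUnion E
  let s : Set K := Subtype.val '' (Etot : Set (integralClosure A K))
  have hsfin : s.Finite := (Finset.finite_toSet _).image _
  have hsint : ∀ x ∈ s, IsIntegral A x := by
    rintro _ ⟨x, -, rfl⟩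
    exact x.2
  refine ⟨Algebra.adjoin A s, Algebra.adjoin_le hsint, ?_, ?_⟩
  · exact Module.Finite.iff_fg.2 (fg_adjoin_of_finite hsfin hsint)
  · intro j hj 𝔫 h𝔫 hyp x
    by_cases heq : 𝔫 = cenA A m K j
    · rw [heq]
      exact mem_cenA_iff A m K j x
    · exfalso
      have hcomap : 𝔫.comap (algebraMap A (integralClosure A K)) =
          (cenA A m K j).comap (algebraMap A (integralClosure A K)) := by
        ext a
        rw [Ideal.mem_comap, Ideal.mem_comap, mem_cenA_iff]
        exact hyp _ (Subalgebra.algebraMap_mem _ a)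
      obtain ⟨e, heE, hen⟩ := hE2 j 𝔫 h𝔫 hcomap heq
      apply hen
      rw [hyp e (Algebra.subset_adjoin ⟨e, Finset.mem_coe.2 (Finset.mem_biUnion.2 ⟨j, hj, heE⟩),
        rfl⟩)]
      exact (mem_cenA_iff A m K j e).1 (hE1 j e heE)

end Sep

section Local

variable (A : Type u) [CommRing A] [IsDomain A] [IsNoetherianRing A] [IsLocalRing A]
  (K : Type u) [Field K] [Algebra A K] [IsFractionRing A K]

theorem mem_integralClosure_iff (x : K) :
    x ∈ integralClosure A K ↔
      ∀ q : Idx A (maximalIdeal A), wv A (maximalIdeal A) K q x ≤ 1 := by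
  constructor
  · intro hx q
    exact wv_le_one_of_isIntegral A _ K q hx
  · intro h
    obtain ⟨u, hu, hint⟩ := exists_isIntegral_of_forall_wv_le_one A (maximalIdeal A) K x h
    have huu : IsUnit u := IsLocalRing.notMem_maximalIdeal.1 hu
    obtain ⟨v, hv⟩ := huu.exists_left_inv
    have : x = algebraMap A K v * (algebraMap A K u * x) := by
      rw [← mul_assoc, ← map_mul, hv, map_one, one_mul]
    rw [this]
    exact (integralClosure A K).mul_mem (isIntegral_algebraMap) hint

open Classical in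
/-- an irredundant finite set of bad members -/
theorem exists_irredundant :
    ∃ J : Finset (Idx A (maximalIdeal A)), (∀ j ∈ J, ¬ good A (maximalIdeal A) j) ∧
      (∀ x : K, (∀ q, good A (maximalIdeal A) q ∨ q ∈ J → wv A (maximalIdeal A) K q x ≤ 1) →
        x ∈ integralClosure A K) ∧
      ∀ j ∈ J, ∃ y : K, 1 < wv A (maximalIdeal A) K j y ∧
        ∀ q, (good A (maximalIdeal A) q ∨ q ∈ J) → q ≠ j → wv A (maximalIdeal A) K q y ≤ 1 := by
  set bad := (finite_setOf_not_good A (maximalIdeal A)).toFinset with hbad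
  let Pdef : Finset (Idx A (maximalIdeal A)) → Prop := fun J =>
    ∀ x : K, (∀ q, good A (maximalIdeal A) q ∨ q ∈ J → wv A (maximalIdeal A) K q x ≤ 1) →
      x ∈ integralClosure A K
  have hPbad : Pdef bad := by
    intro x hx
    rw [mem_integralClosure_iff]
    intro q
    by_cases hq : good A (maximalIdeal A) q
    · exact hx q (Or.inl hq)
    · exact hx q (Or.inr ((Set.Finite.mem_toFinset _).2 hq))
  let S : Finset (Finset (Idx A (maximalIdeal A))) := bad.powerset.filter Pdef
  have hS : S.Nonempty := ⟨bad, Finset.mem_filter.2 ⟨Finset.mem_powerset.2 subset_rfl, hPbad⟩⟩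
  obtain ⟨J, hJS, hJmin⟩ := S.exists_minimal hS
  obtain ⟨hJbad, hJP⟩ := Finset.mem_filter.1 hJS
  rw [Finset.mem_powerset] at hJbad
  refine ⟨J, fun j hj => (Set.Finite.mem_toFinset _).1 (hJbad hj), hJP, ?_⟩
  intro j hj
  have hlt : J.erase j < J := Finset.erase_ssubset hj
  have hnotP : ¬ Pdef (J.erase j) := by
    intro hP
    have hmem : J.erase j ∈ S :=
      Finset.mem_filter.2 ⟨Finset.mem_powerset.2 ((Finset.erase_subset _ _).trans hJbad), hP⟩
    have hle := hJmin hmem hlt.le
    exact Finset.notMem_erase j J (hle hj)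
  simp only [Pdef, not_forall] at hnotP
  obtain ⟨y, hy, hyO⟩ := hnotP
  refine ⟨y, ?_, ?_⟩
  · by_contra hle
    apply hyO
    apply hJP
    intro q hq
    by_cases hqj : q = j
    · rw [hqj]; exact not_lt.1 hle
    · rcases hq with hq | hq
      · exact hy q (Or.inl hq)
      · exact hy q (Or.inr (Finset.mem_erase.2 ⟨hqj, hq⟩))
  · intro q hq hqj
    rcases hq with hq | hq
    · exact hy q (Or.inl hq)
    · exact hy q (Or.inr (Finset.mem_erase.2 ⟨hqj, hq⟩))

/-- **Mori–Nagata in Krull form**, over any fraction field. -/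
theorem krull_main : ∃ C : Subalgebra A K, Module.Finite A C ∧
      (∀ (p : Ideal C) [p.IsPrime], p.height = 1 →
        ∃ V : ValuationSubring K, IsDiscreteValuationRing V ∧
          ∀ x : K, x ∈ V ↔ ∃ s : C, s ∉ p ∧ IsIntegral C ((s : K) * x)) ∧
      (∀ x : K, x ∈ integralClosure A K ↔
        ∀ (p : Ideal C) [p.IsPrime], p.height = 1 →
          ∃ s : C, s ∉ p ∧ IsIntegral C ((s : K) * x)) ∧
      (∀ x : K, {p : Ideal C | p.IsPrime ∧ p.height = 1 ∧
        ¬ ∃ s : C, s ∉ p ∧ IsIntegral C ((s : K) * x)}.Finite) := by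
  obtain ⟨J, hJbad, hJO, hJirr⟩ := exists_irredundant A K
  obtain ⟨C, hC, hCfin, hCU⟩ := exists_finite_subalgebra A (maximalIdeal A) K J
  haveI := hCfin
  haveI : IsNoetherianRing C := Algebra.FiniteType.isNoetherianRing A C
  haveI : Algebra.IsIntegral A C := Algebra.IsIntegral.of_finite A C
  have hint : ∀ x : K, IsIntegral C x ↔ IsIntegral A x := by
    intro x
    exact ⟨fun h => isIntegral_trans x h, fun h => h.tower_top⟩
  let ι' := {q : Idx A (maximalIdeal A) // good A (maximalIdeal A) q ∨ q ∈ J}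
  let w : ι' → Valuation K ℤᵐ⁰ := fun q => wv A (maximalIdeal A) K q.1
  have hO : ∀ x : K, IsIntegral C x ↔ ∀ i, w i x ≤ 1 := by
    intro x
    rw [hint]
    constructor
    · intro hx i
      exact wv_le_one_of_isIntegral A _ K i.1 hx
    · intro h
      exact hJO x (fun q hq => h ⟨q, hq⟩)
  have hfin : ∀ x : K, x ≠ 0 → {i | 1 < w i x}.Finite := by
    intro x hx
    have h1 := finite_setOf_one_lt_wv A (maximalIdeal A) K x hx
    have h2 : {i : ι' | 1 < w i x} =
        Subtype.val ⁻¹' {q : Idx A (maximalIdeal A) | 1 < wv A (maximalIdeal A) K q x} := rfl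
    rw [h2]
    exact h1.preimage (Subtype.val_injective.injOn)
  let gd : ι' → Prop := fun q => good A (maximalIdeal A) q.1
  have hgood : ∀ i, gd i → ∀ x : K, w i x ≤ 1 →
      ∃ u : C, w i (algebraMap C K u) = 1 ∧ IsIntegral C (algebraMap C K u * x) := by
    intro i hi x hx
    obtain ⟨u, hu1, hux⟩ := exists_isIntegral_of_good A _ K i.1 hi x hx
    exact ⟨⟨algebraMap A K u, C.algebraMap_mem u⟩, hu1, (hint _).2 hux⟩
  have hirr : ∀ j, ¬ gd j → ∃ y : K, 1 < w j y ∧ ∀ i, i ≠ j → w i y ≤ 1 := by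
    intro j hj
    have hjJ : j.1 ∈ J := j.2.resolve_left hj
    obtain ⟨y, hy, hy'⟩ := hJirr j.1 hjJ
    exact ⟨y, hy, fun i hi => hy' i.1 i.2 (fun h => hi (Subtype.ext h))⟩
  have hU : ∀ j, ¬ gd j → ∀ 𝔫 : Ideal (integralClosure C K), 𝔫.IsPrime →
      (∀ c : C, algebraMap C (integralClosure C K) c ∈ 𝔫 ↔ w j (algebraMap C K c) < 1) →
      ∀ x : integralClosure C K, x ∈ 𝔫 ↔ w j (x : K) < 1 := by
    intro j hj 𝔫 h𝔫 hyp x
    have hjJ : j.1 ∈ J := j.2.resolve_left hj
    let e : integralClosure A K →+* integralClosure C K :=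
      { toFun := fun x => ⟨x.1, (hint _).2 x.2⟩
        map_one' := rfl
        map_mul' := fun _ _ => rfl
        map_zero' := rfl
        map_add' := fun _ _ => rfl }
    have key := hCU j.1 hjJ (𝔫.comap e) (Ideal.comap_isPrime _ _) (fun x hx => hyp ⟨x.1, hx⟩)
      ⟨x.1, (hint _).1 x.2⟩
    exact key
  refine ⟨C, hCfin, ?_, ?_, ?_⟩
  · intro p _ hp
    exact exists_valuationSubring w hO hfin gd hgood hirr hU p hp
  · intro x
    change IsIntegral A x ↔ _
    rw [← hint]
    exact isIntegral_iff_forall w hO hfin gd hgood hirr hU x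
  · intro x
    exact finite_setOf_not_exists x

end Local

end Groth.Agent.Lib.Helper88.Krull
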