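import Groth.Prelude.Def_Found
import Groth.Agent.Lib.Helper88.AnUnram2
import Groth.Agent.S9604
import Groth.Agent.S9405
import Mathlib

/-!
# Reduced finite algebras over a Nagata local ring have reduced completions (EGA IV 7.6.4)
-/

universe u

namespace Groth.Agent.Lib.Helper88.AnUnram3

open IsLocalRing CAlg TensorProduct

section Reduced

variable (A : Type u) [CommRing A] [IsNoetherianRing A] [IsLocalRing A]

/-- a reduced finite algebra over a Nagata local ring stays reduced after completing -/
theorem isReduced_tensor_of_isReduced (hA : CAlg.IsNagata A) (C : Type u) [CommRing C]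
    [Algebra A C] [Module.Finite A C] [IsReduced C] :
    IsReduced (AdicCompletion (maximalIdeal A) A ⊗[A] C) := by
  classical
  let Ahat := AdicCompletion (maximalIdeal A) A
  haveI : Module.Flat A Ahat := inferInstance
  haveI : IsNoetherianRing C := IsNoetherianRing.of_finite A C
  have hNC : CAlg.IsNagata C := AnUnram2.isNagata_of_finite A C hA
  let ι := ↥(minimalPrimes C)
  haveI : Finite ι := (minimalPrimes.finite_of_isNoetherianRing C).to_subtype
  letI : Fintype ι := Fintype.ofFinite ι
  haveI hprime : ∀ q : ι, (q.1).IsPrime := fun q => q.2.1.1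
  have hred : ∀ q : ι, IsReduced (Ahat ⊗[A] (C ⧸ q.1)) := by
    intro q
    haveI : Module.Finite A (C ⧸ q.1) :=
      Module.Finite.of_surjective (Ideal.Quotient.mkₐ A q.1).toLinearMap
        (Ideal.Quotient.mkₐ_surjective A q.1)
    have h1 : IsReduced ((C ⧸ q.1) ⊗[A] Ahat) :=
      AnUnram2.isReduced_tensor_adicCompletion A (C ⧸ q.1)
        (AnUnram2.isNagata_of_finite C (C ⧸ q.1) hNC)
    exact isReduced_of_injective (Algebra.TensorProduct.comm A Ahat (C ⧸ q.1))
      (AlgEquiv.injective _)
  let ψ : C →ₗ[A] (∀ q : ι, C ⧸ q.1) :=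
    LinearMap.pi (fun q => (Ideal.Quotient.mkₐ A q.1).toLinearMap)
  have hψ : Function.Injective ψ := by
    rw [injective_iff_map_eq_zero]
    intro c hc
    have hmem : c ∈ sInf (minimalPrimes C) := by
      rw [Ideal.mem_sInf]
      intro q hq
      have := congrFun hc ⟨q, hq⟩
      exact Ideal.Quotient.eq_zero_iff_mem.mp this
    rw [minimalPrimes, Ideal.sInf_minimalPrimes] at hmem
    change c ∈ nilradical C at hmem
    rwa [nilradical_eq_zero, Ideal.zero_eq_bot, Ideal.mem_bot] at hmem
  have hinj : Function.Injective (ψ.lTensor Ahat) :=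
    Module.Flat.lTensor_preserves_injective_linearMap ψ hψ
  have hcomp : ∀ (t : Ahat ⊗[A] C) (q : ι),
      TensorProduct.piRight A A Ahat (fun q : ι => C ⧸ q.1) (ψ.lTensor Ahat t) q =
        Algebra.TensorProduct.map (AlgHom.id A Ahat) (Ideal.Quotient.mkₐ A q.1) t := by
    intro t q
    induction t using TensorProduct.induction_on with
    | zero => simp
    | tmul a c => simp [ψ]
    | add x y hx hy => simp only [map_add, Pi.add_apply, hx, hy]
  refine ⟨fun t ht => ?_⟩
  apply hinj
  rw [map_zero]
  apply (TensorProduct.piRight A A Ahat (fun q : ι => C ⧸ q.1)).injective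
  rw [map_zero]
  funext q
  rw [hcomp t q]
  haveI := hred q
  exact IsReduced.eq_zero _ (ht.map _)

end Reduced

section Jacobson

variable (A : Type u) [CommRing A] [IsLocalRing A]
  (C : Type u) [CommRing C] [Algebra A C] [Module.Finite A C]

theorem map_maximalIdeal_le_of_isMaximal (M : Ideal C) [hM : M.IsMaximal] :
    (maximalIdeal A).map (algebraMap A C) ≤ M := by
  haveI : Algebra.IsIntegral A C := Algebra.IsIntegral.of_finite A C
  have h1 : (M.comap (algebraMap A C)).IsMaximal :=
    Ideal.isMaximal_comap_of_isIntegral_of_isMaximal (R := A) M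
  rw [Ideal.map_le_iff_le_comap, IsLocalRing.eq_maximalIdeal h1]

theorem map_maximalIdeal_le_jacobson :
    (maximalIdeal A).map (algebraMap A C) ≤ (⊥ : Ideal C).jacobson := by
  rw [Ideal.jacobson]
  apply le_sInf
  rintro M ⟨-, hM⟩
  haveI := hM
  exact map_maximalIdeal_le_of_isMaximal A C M

theorem isMaximal_of_map_maximalIdeal_le (P : Ideal C) [hP : P.IsPrime]
    (h : (maximalIdeal A).map (algebraMap A C) ≤ P) : P.IsMaximal := by
  haveI : Algebra.IsIntegral A C := Algebra.IsIntegral.of_finite A C
  have hle : maximalIdeal A ≤ P.comap (algebraMap A C) := Ideal.map_le_iff_le_comap.mp h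
  have hcp : (P.comap (algebraMap A C)).IsPrime := Ideal.IsPrime.comap _
  have heq : maximalIdeal A = P.comap (algebraMap A C) :=
    (IsLocalRing.maximalIdeal.isMaximal A).eq_of_le hcp.ne_top hle
  apply Ideal.isMaximal_of_isIntegral_of_isMaximal_comap (R := A) P
  rw [← heq]
  exact IsLocalRing.maximalIdeal.isMaximal A

theorem exists_jacobson_pow_le [IsNoetherianRing A] :
    ∃ d : ℕ, 0 < d ∧ (⊥ : Ideal C).jacobson ^ d ≤ (maximalIdeal A).map (algebraMap A C) := by
  haveI : IsNoetherianRing C := IsNoetherianRing.of_finite A C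
  set I := (maximalIdeal A).map (algebraMap A C) with hI
  have hrad : (⊥ : Ideal C).jacobson ≤ I.radical := by
    rw [Ideal.radical_eq_sInf]
    apply le_sInf
    rintro P ⟨hPle, hPprime⟩
    haveI := hPprime
    have hmax := isMaximal_of_map_maximalIdeal_le A C P hPle
    rw [Ideal.jacobson]
    exact sInf_le ⟨bot_le, hmax⟩
  obtain ⟨n, hn⟩ := Ideal.exists_radical_pow_le_of_fg I (IsNoetherian.noetherian _)
  refine ⟨n + 1, Nat.succ_pos n, ?_⟩
  calc (⊥ : Ideal C).jacobson ^ (n + 1) ≤ (⊥ : Ideal C).jacobson ^ n :=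
        Ideal.pow_le_pow_right (Nat.le_succ n)
    _ ≤ I.radical ^ n := Ideal.pow_right_mono hrad n
    _ ≤ I := hn

end Jacobson

section Main

variable (A : Type u) [CommRing A] [IsNoetherianRing A] [IsLocalRing A]
  (C : Type u) [CommRing C] [Algebra A C] [Module.Finite A C]

/-- `C ⊗ Â` is complete for the ideal generated by the Jacobson radical of `C` -/
theorem isAdicComplete_jacobson_tensor :
    IsAdicComplete ((⊥ : Ideal C).jacobson.map
      (algebraMap C (C ⊗[A] AdicCompletion (maximalIdeal A) A)))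
      (C ⊗[A] AdicCompletion (maximalIdeal A) A) := by
  let Ahat := AdicCompletion (maximalIdeal A) A
  haveI : IsNoetherianRing Ahat := Groth.Agent.S0543.result A _
  let T' := Ahat ⊗[A] C
  let T := C ⊗[A] Ahat
  let I' : Ideal T' := (maximalIdeal Ahat).map (algebraMap Ahat T')
  have hcomp' : IsAdicComplete I' T' := Groth.Agent.S9405.isAdicComplete_map Ahat T'
  let e : T' ≃+* T := (Algebra.TensorProduct.comm A Ahat C).toRingEquiv
  have h3 : IsAdicComplete (I'.map e) T := (IsAdicComplete.congr_ringEquiv I' e).mpr hcomp'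
  let IA : Ideal T := (maximalIdeal A).map (algebraMap A T)
  have hI : I'.map e = IA := by
    change Ideal.map (e : T' →+* T) I' = IA
    have h1 : maximalIdeal Ahat = (maximalIdeal A).map (algebraMap A Ahat) :=
      AdicCompletion.maximalIdeal_eq_map
    simp only [I', IA]
    rw [h1, Ideal.map_map, Ideal.map_map]
    congr 1
    ext a
    simp only [RingHom.comp_apply, RingHom.coe_coe]
    change (Algebra.TensorProduct.comm A Ahat C) (algebraMap Ahat T' (algebraMap A Ahat a)) = _
    rw [← IsScalarTower.algebraMap_apply A Ahat T', AlgEquiv.commutes]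
  rw [hI] at h3
  obtain ⟨d, hd, hJd⟩ := exists_jacobson_pow_le A C
  have hIA : IA = ((maximalIdeal A).map (algebraMap A C)).map (algebraMap C T) := by
    simp only [IA]
    rw [Ideal.map_map, ← IsScalarTower.algebraMap_eq]
  refine Groth.Agent.S9604.aux IA _ 1 d one_pos hd ?_ ?_ T h3
  · rw [pow_one, hIA]
    exact Ideal.map_mono (map_maximalIdeal_le_jacobson A C)
  · rw [hIA, ← Ideal.map_pow]
    exact Ideal.map_mono hJd

/-- **EGA IV 7.6.4 b) ⇒ a)**: a reduced finite algebra over a Nagata local ring has reduced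
completion along its Jacobson radical. -/
theorem isReduced_adicCompletion_jacobson (hA : CAlg.IsNagata A) [IsReduced C] :
    IsReduced (AdicCompletion (⊥ : Ideal C).jacobson C) := by
  let Ahat := AdicCompletion (maximalIdeal A) A
  let T := C ⊗[A] Ahat
  let J := (⊥ : Ideal C).jacobson
  let JT : Ideal T := J.map (algebraMap C T)
  haveI hT' : IsReduced (Ahat ⊗[A] C) := isReduced_tensor_of_isReduced A hA C
  haveI hT : IsReduced T :=
    isReduced_of_injective (Algebra.TensorProduct.comm A C Ahat) (AlgEquiv.injective _)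
  haveI : IsAdicComplete JT T := isAdicComplete_jacobson_tensor A C
  haveI : Module.Flat A Ahat := inferInstance
  haveI : IsLocalHom (algebraMap A Ahat) := inferInstance
  haveI : Module.FaithfullyFlat A Ahat := Module.FaithfullyFlat.of_flat_of_isLocalHom
  haveI : Module.FaithfullyFlat C T := inferInstance
  have hle : ∀ n, J ^ n ≤ (JT ^ n).comap (algebraMap C T) := fun n => by
    rw [← Ideal.map_pow]; exact Ideal.le_comap_map
  let f : (n : ℕ) → AdicCompletion J C →+* T ⧸ JT ^ n := fun n =>
    (Ideal.quotientMap (JT ^ n) (algebraMap C T) (hle n)).comp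
      (AdicCompletion.evalₐ J n).toRingHom
  have hf : ∀ {m n : ℕ} (hmn : m ≤ n), (Ideal.Quotient.factorPow JT hmn).comp (f n) = f m := by
    intro m n hmn
    ext x
    obtain ⟨s, rfl⟩ := AdicCompletion.mk_surjective J C x
    simp only [f, RingHom.comp_apply, AlgHom.toRingHom_eq_coe, RingHom.coe_coe,
      AdicCompletion.evalₐ_mk, Ideal.quotientMap_mk, Ideal.Quotient.factorPow,
      Ideal.Quotient.factor_mk]
    rw [Ideal.Quotient.eq, ← map_sub]
    apply hle m
    have h1 := (s.property hmn).symm
    rw [SModEq.sub_mem] at h1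
    simpa using h1
  let φ := IsAdicComplete.liftRingHom JT f hf
  have hφ : ∀ n x, Ideal.Quotient.mk (JT ^ n) (φ x) = f n x :=
    IsAdicComplete.mk_liftRingHom JT f hf
  refine ⟨fun x hx => ?_⟩
  have h0 : φ x = 0 := IsReduced.eq_zero _ (hx.map φ)
  apply AdicCompletion.ext_evalₐ
  intro n
  have h1 : f n x = 0 := by rw [← hφ, h0, map_zero]
  have hinj : Function.Injective (Ideal.quotientMap (JT ^ n) (algebraMap C T) (hle n)) := by
    apply Ideal.quotientMap_injective'
    simp only [JT]
    rw [← Ideal.map_pow, Ideal.comap_map_eq_self_of_faithfullyFlat]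
  rw [map_zero]
  apply hinj
  rw [map_zero]
  exact h1

end Main

section Converse

variable (A : Type u) [CommRing A] [IsNoetherianRing A] [IsLocalRing A]
  (C : Type u) [CommRing C] [Algebra A C] [Module.Finite A C]

/-- elements of `Â` are approximated by elements of `A` -/
theorem exists_sub_mem_pow_smul_top (n : ℕ) (r : AdicCompletion (maximalIdeal A) A) :
    ∃ r₀ : A, r - algebraMap A (AdicCompletion (maximalIdeal A) A) r₀ ∈
      (maximalIdeal A ^ n • ⊤ : Submodule A (AdicCompletion (maximalIdeal A) A)) := by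
  obtain ⟨r₀, hr₀⟩ := Submodule.mkQ_surjective _ (AdicCompletion.eval (maximalIdeal A) A n r)
  refine ⟨r₀, ?_⟩
  rw [AdicCompletion.pow_smul_top_eq_ker_eval (maximalIdeal A).fg_of_isNoetherianRing,
    LinearMap.mem_ker, map_sub, ← hr₀, sub_eq_zero]
  rfl

/-- `C` is dense in `C ⊗ Â` for the `Jac(C)`-adic topology -/
theorem exists_sub_mem_jacobson_pow (n : ℕ) (t : C ⊗[A] AdicCompletion (maximalIdeal A) A) :
    ∃ c : C, t - algebraMap C (C ⊗[A] AdicCompletion (maximalIdeal A) A) c ∈
      ((⊥ : Ideal C).jacobson.map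
        (algebraMap C (C ⊗[A] AdicCompletion (maximalIdeal A) A))) ^ n := by
  let Ahat := AdicCompletion (maximalIdeal A) A
  let T := C ⊗[A] Ahat
  let J := (⊥ : Ideal C).jacobson
  have hmem : ∀ a ∈ (maximalIdeal A ^ n • ⊤ : Submodule A Ahat), ∀ c : C,
      c ⊗ₜ[A] a ∈ (J.map (algebraMap C T)) ^ n := by
    intro a ha
    refine Submodule.smul_induction_on (p := fun a => ∀ c : C,
      c ⊗ₜ[A] a ∈ (J.map (algebraMap C T)) ^ n) ha ?_ ?_
    · intro r hr s _ c
      have h1 : c ⊗ₜ[A] (r • s) = algebraMap C T (algebraMap A C r) * (c ⊗ₜ[A] s) := by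
        rw [Algebra.TensorProduct.algebraMap_apply, Algebra.TensorProduct.tmul_mul_tmul, one_mul,
          Algebra.algebraMap_self, RingHom.id_apply, ← Algebra.smul_def, TensorProduct.smul_tmul]
      rw [h1, ← Ideal.map_pow]
      apply Ideal.mul_mem_right
      apply Ideal.mem_map_of_mem
      have h2 : algebraMap A C r ∈ ((maximalIdeal A).map (algebraMap A C)) ^ n := by
        rw [← Ideal.map_pow]
        exact Ideal.mem_map_of_mem _ hr
      exact Ideal.pow_right_mono (map_maximalIdeal_le_jacobson A C) n h2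
    · intro x y hx hy c
      rw [TensorProduct.tmul_add]
      exact Ideal.add_mem _ (hx c) (hy c)
  induction t using TensorProduct.induction_on with
  | zero => exact ⟨0, by simp⟩
  | tmul c r =>
    obtain ⟨r₀, hr₀⟩ := exists_sub_mem_pow_smul_top A n r
    refine ⟨r₀ • c, ?_⟩
    have h1 : c ⊗ₜ[A] r - algebraMap C T (r₀ • c) = c ⊗ₜ[A] (r - algebraMap A Ahat r₀) := by
      rw [TensorProduct.tmul_sub, Algebra.TensorProduct.algebraMap_apply, Algebra.algebraMap_self,
        RingHom.id_apply, Algebra.algebraMap_eq_smul_one r₀, TensorProduct.smul_tmul]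
    rw [h1]
    exact hmem _ hr₀ c
  | add x y hx hy =>
    obtain ⟨c₁, h₁⟩ := hx
    obtain ⟨c₂, h₂⟩ := hy
    refine ⟨c₁ + c₂, ?_⟩
    have : x + y - algebraMap C T (c₁ + c₂) = (x - algebraMap C T c₁) + (y - algebraMap C T c₂) := by
      rw [map_add]; ring
    rw [this]
    exact Ideal.add_mem _ h₁ h₂

/-- **EGA IV 7.6.4, converse comparison**: if the Jacobson-adic completion of the finite
`A`-algebra `C` is reduced, so is `C ⊗ Â`. -/
theorem isReduced_tensor_of_isReduced_adicCompletion_jacobson
    (h : IsReduced (AdicCompletion (⊥ : Ideal C).jacobson C)) :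
    IsReduced (C ⊗[A] AdicCompletion (maximalIdeal A) A) := by
  let Ahat := AdicCompletion (maximalIdeal A) A
  let T := C ⊗[A] Ahat
  let J := (⊥ : Ideal C).jacobson
  let JT : Ideal T := J.map (algebraMap C T)
  haveI : IsAdicComplete JT T := isAdicComplete_jacobson_tensor A C
  haveI : Module.Flat A Ahat := inferInstance
  haveI : IsLocalHom (algebraMap A Ahat) := inferInstance
  haveI : Module.FaithfullyFlat A Ahat := Module.FaithfullyFlat.of_flat_of_isLocalHom
  haveI : Module.FaithfullyFlat C T := inferInstance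
  have hcomap : ∀ n, (JT ^ n).comap (algebraMap C T) = J ^ n := by
    intro n
    simp only [JT]
    rw [← Ideal.map_pow, Ideal.comap_map_eq_self_of_faithfullyFlat]
  refine ⟨fun t ht => ?_⟩
  obtain ⟨e, he⟩ := ht
  choose d hd using fun n => exists_sub_mem_jacobson_pow A C n t
  have hcauchy : ∀ {m n : ℕ}, m ≤ n → d m - d n ∈ J ^ m := by
    intro m n hmn
    rw [← hcomap m, Ideal.mem_comap, map_sub]
    have h1 := hd m
    have h2 := Ideal.pow_le_pow_right hmn (hd n)
    have : algebraMap C T (d m) - algebraMap C T (d n) =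
        (t - algebraMap C T (d n)) - (t - algebraMap C T (d m)) := by ring
    rw [this]
    exact Ideal.sub_mem _ h2 h1
  let s : AdicCompletion.AdicCauchySequence J C := ⟨d, fun {m n} hmn => by
    rw [SModEq.sub_mem, smul_eq_mul, Ideal.mul_top]
    exact hcauchy hmn⟩
  let x := AdicCompletion.mk J C s
  have hxe : x ^ e = 0 := by
    apply AdicCompletion.ext_evalₐ
    intro n
    rw [map_pow, map_zero, AdicCompletion.evalₐ_mk, ← map_pow, Ideal.Quotient.eq_zero_iff_mem,
      ← hcomap n, Ideal.mem_comap, map_pow]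
    have h1 : algebraMap C T (d n) ^ e - t ^ e ∈ JT ^ n := by
      obtain ⟨w, hw⟩ := sub_dvd_pow_sub_pow (algebraMap C T (d n)) t e
      rw [hw]
      apply Ideal.mul_mem_right
      have := Ideal.neg_mem_iff (JT ^ n) |>.mpr (hd n)
      rwa [neg_sub] at this
    rwa [he, sub_zero] at h1
  have hx0 : x = 0 := IsReduced.eq_zero x ⟨e, hxe⟩
  have htmem : ∀ n, t ∈ JT ^ n := by
    intro n
    have h1 : d n ∈ J ^ n := by
      have := congrArg (AdicCompletion.evalₐ J n) hx0
      rw [AdicCompletion.evalₐ_mk, map_zero, Ideal.Quotient.eq_zero_iff_mem] at this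
      exact this
    have h2 : algebraMap C T (d n) ∈ JT ^ n := by
      simp only [JT]
      rw [← Ideal.map_pow]
      exact Ideal.mem_map_of_mem _ h1
    have := Ideal.add_mem _ (hd n) h2
    rwa [sub_add_cancel] at this
  apply IsHausdorff.haus (inferInstance : IsHausdorff JT T) t
  intro n
  rw [SModEq.zero, smul_eq_mul, Ideal.mul_top]
  exact htmem n

end Converse

end Groth.Agent.Lib.Helper88.AnUnram3
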