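import Groth.Prelude.Def_Found
import Groth.Agent.Lib.Helper88.FormalFibre
import Groth.Agent.Lib.Helper88.AnUnram3
import Groth.Agent.S0558
import Mathlib

/-!
# Geometrically reduced formal fibres versus reduced completions (EGA IV 7.6.4 a ⇔ a'')
-/

universe u

namespace Groth.Agent.Lib.Helper88.FormalFibre2

open IsLocalRing CAlg TensorProduct

section Loc

/-- a localization is reduced if the local rings at the primes disjoint from the submonoid are -/
theorem isReduced_of_isLocalization_of_forall_prime {R W : Type*} [CommRing R] [CommRing W]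
    [Algebra R W] (M : Submonoid R) [IsLocalization M W]
    (h : ∀ (q : Ideal R) [q.IsPrime], Disjoint (q : Set R) (M : Set R) →
      IsReduced (Localization.AtPrime q)) : IsReduced W := by
  refine ⟨fun w hw => ?_⟩
  obtain ⟨⟨r, m⟩, rfl⟩ := IsLocalization.mk'_surjective M w
  change IsNilpotent (IsLocalization.mk' W r m) at hw
  change IsLocalization.mk' W r m = 0
  have hr : IsNilpotent (algebraMap R W r) := by
    rw [← IsLocalization.mk'_spec W r m]
    exact Commute.isNilpotent_mul_right (Commute.all _ _) hw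
  rw [IsLocalization.mk'_eq_zero_iff]
  by_contra hcon
  push Not at hcon
  obtain ⟨e, he⟩ := hr
  rw [← map_pow, IsLocalization.map_eq_zero_iff M W] at he
  obtain ⟨m', hm'⟩ := he
  let 𝔞 : Ideal R := Submodule.annihilator (Ideal.span {r})
  have h𝔞 : ∀ a : R, a ∈ 𝔞 ↔ a * r = 0 := fun a => by
    simp only [𝔞]
    rw [Submodule.mem_annihilator_span_singleton, smul_eq_mul]
  have hdisj : Disjoint (𝔞 : Set R) (M : Set R) := by
    rw [Set.disjoint_left]
    intro a ha haM
    exact hcon ⟨a, haM⟩ ((h𝔞 a).mp ha)
  obtain ⟨q, hq, h𝔞q, hqM⟩ := Ideal.exists_le_prime_disjoint 𝔞 M hdisj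
  haveI := hq
  haveI := h q hqM
  have hm'q : (m' : R) ∉ q := fun hmq => Set.disjoint_left.mp hqM hmq m'.2
  have hu : IsUnit (algebraMap R (Localization.AtPrime q) (m' : R)) :=
    IsLocalization.map_units _ (⟨m', hm'q⟩ : q.primeCompl)
  have h1 : algebraMap R (Localization.AtPrime q) (m' : R) *
      algebraMap R (Localization.AtPrime q) r ^ e = 0 := by
    rw [← map_pow, ← map_mul, hm', map_zero]
  have h2 : algebraMap R (Localization.AtPrime q) r ^ e = 0 := (hu.mul_right_eq_zero).mp h1
  have h3 : algebraMap R (Localization.AtPrime q) r = 0 := IsReduced.eq_zero _ ⟨e, h2⟩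
  rw [IsLocalization.map_eq_zero_iff q.primeCompl] at h3
  obtain ⟨s, hs⟩ := h3
  exact s.2 (h𝔞q ((h𝔞 s).mpr hs))

end Loc

section

variable (A : Type u) [CommRing A] [IsNoetherianRing A] [IsLocalRing A]

/-- if `D ⊗ Â` is reduced for a domain `D` with fraction field `B`, then `B ⊗ Â` is reduced -/
theorem isReduced_tensor_of_isFractionRing (D B : Type u) [CommRing D] [CommRing B] [Algebra A D]
    [Algebra A B] [Algebra D B] [IsScalarTower A D B] [IsFractionRing D B]
    (Ahat : Type u) [CommRing Ahat] [Algebra A Ahat]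
    (h : IsReduced (D ⊗[A] Ahat)) : IsReduced (B ⊗[A] Ahat) := by
  letI : Algebra (D ⊗[A] Ahat) (B ⊗[A] Ahat) :=
    (Algebra.TensorProduct.map (IsScalarTower.toAlgHom A D B) (AlgHom.id A Ahat)).toRingHom.toAlgebra
  haveI : IsScalarTower D (D ⊗[A] Ahat) (B ⊗[A] Ahat) := IsScalarTower.of_algebraMap_eq' (by
    ext x
    rw [RingHom.comp_apply, RingHom.algebraMap_toAlgebra, Algebra.TensorProduct.algebraMap_apply,
      Algebra.TensorProduct.algebraMap_apply]
    simp)
  have H : (algebraMap (D ⊗[A] Ahat) (B ⊗[A] Ahat)).comp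
      (Algebra.TensorProduct.includeRight : Ahat →ₐ[A] D ⊗[A] Ahat).toRingHom =
      (Algebra.TensorProduct.includeRight : Ahat →ₐ[A] B ⊗[A] Ahat).toRingHom := by
    ext x
    simp [RingHom.algebraMap_toAlgebra]
  haveI := IsLocalization.tensorProduct_tensorProduct A Ahat (nonZeroDivisors D) B H
  exact isReduced_localizationPreserves
    (Algebra.algebraMapSubmonoid (D ⊗[A] Ahat) (nonZeroDivisors D)) (B ⊗[A] Ahat) h

/-- if the local rings of `D ⊗ Â` at the primes lying over `0` are reduced, `Frac D ⊗ Â` is
reduced -/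
theorem isReduced_tensor_of_forall_prime (D B : Type u) [CommRing D] [IsDomain D] [CommRing B]
    [Algebra A D] [Algebra A B] [Algebra D B] [IsScalarTower A D B] [IsFractionRing D B]
    (Ahat : Type u) [CommRing Ahat] [Algebra A Ahat]
    (h : ∀ (q : Ideal (D ⊗[A] Ahat)) [q.IsPrime],
      q.comap (algebraMap D (D ⊗[A] Ahat)) = ⊥ → IsReduced (Localization.AtPrime q)) :
    IsReduced (B ⊗[A] Ahat) := by
  letI : Algebra (D ⊗[A] Ahat) (B ⊗[A] Ahat) :=
    (Algebra.TensorProduct.map (IsScalarTower.toAlgHom A D B) (AlgHom.id A Ahat)).toRingHom.toAlgebra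
  haveI : IsScalarTower D (D ⊗[A] Ahat) (B ⊗[A] Ahat) := IsScalarTower.of_algebraMap_eq' (by
    ext x
    rw [RingHom.comp_apply, RingHom.algebraMap_toAlgebra, Algebra.TensorProduct.algebraMap_apply,
      Algebra.TensorProduct.algebraMap_apply]
    simp)
  have H : (algebraMap (D ⊗[A] Ahat) (B ⊗[A] Ahat)).comp
      (Algebra.TensorProduct.includeRight : Ahat →ₐ[A] D ⊗[A] Ahat).toRingHom =
      (Algebra.TensorProduct.includeRight : Ahat →ₐ[A] B ⊗[A] Ahat).toRingHom := by
    ext x
    simp [RingHom.algebraMap_toAlgebra]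
  haveI := IsLocalization.tensorProduct_tensorProduct A Ahat (nonZeroDivisors D) B H
  apply isReduced_of_isLocalization_of_forall_prime
    (Algebra.algebraMapSubmonoid (D ⊗[A] Ahat) (nonZeroDivisors D))
  intro q hq hdisj
  apply h q
  rw [eq_bot_iff]
  intro d hd
  rw [Ideal.mem_bot]
  by_contra hd0
  have hdM : algebraMap D (D ⊗[A] Ahat) d ∈
      Algebra.algebraMapSubmonoid (D ⊗[A] Ahat) (nonZeroDivisors D) :=
    ⟨d, mem_nonZeroDivisors_of_ne_zero hd0, rfl⟩
  exact Set.disjoint_left.mp hdisj (Ideal.mem_comap.mp hd) hdM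

/-- geometric reducedness of the formal fibres from reducedness of `Frac D ⊗ Â` for the finite
`A`-algebras `D` which are domains -/
theorem isGeometricallyReduced_fiber_of_forall_fraction
    (H : ∀ (D B : Type u) [CommRing D] [IsDomain D] [Field B] [Algebra A D] [Module.Finite A D]
      [Algebra A B] [Algebra D B] [IsScalarTower A D B] [IsFractionRing D B],
      IsReduced (B ⊗[A] AdicCompletion (maximalIdeal A) A))
    (p : Ideal A) [p.IsPrime] :
    Algebra.IsGeometricallyReduced p.ResidueField
      (p.Fiber (AdicCompletion (maximalIdeal A) A)) := by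
  let Ahat := AdicCompletion (maximalIdeal A) A
  let κ := p.ResidueField
  let Ω := AlgebraicClosure κ
  rw [Algebra.isGeometricallyReduced_field_iff]
  suffices hs : IsReduced ((κ ⊗[A] Ahat) ⊗[κ] Ω) from
    isReduced_of_injective (Algebra.TensorProduct.comm κ Ω (κ ⊗[A] Ahat)) (AlgEquiv.injective _)
  apply IsReduced.tensorProduct_of_flat_of_forall_fg
  intro B hB
  haveI : Algebra.IsIntegral κ B :=
    ⟨fun b => (isIntegral_algHom_iff B.val Subtype.val_injective).mp
      (Algebra.IsIntegral.isIntegral (R := κ) (b : Ω))⟩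
  haveI : Algebra.FiniteType κ B := (Subalgebra.fg_iff_finiteType B).mp hB
  haveI : Module.Finite κ B := Algebra.IsIntegral.finite
  haveI : IsArtinianRing B := IsArtinianRing.of_finite κ B
  have hfield : IsField B := IsArtinianRing.isField_of_isDomain B
  letI : Field B := hfield.toField
  obtain ⟨S', -, hmod, hfr⟩ :=
    Groth.Agent.Lib.Helper88.exists_finite_subalgebra_isFractionRing (A ⧸ p) κ B
  haveI := hmod
  haveI := hfr
  haveI : Module.Finite A S' := Module.Finite.trans (A ⧸ p) S'
  have hB' : IsReduced (B ⊗[A] Ahat) := H S' B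
  let e1 : B ⊗[κ] (κ ⊗[A] Ahat) ≃ₐ[B] B ⊗[A] Ahat :=
    Algebra.TensorProduct.cancelBaseChange A κ B B Ahat
  have h2 : IsReduced (B ⊗[κ] (κ ⊗[A] Ahat)) := isReduced_of_injective e1 e1.injective
  exact isReduced_of_injective (Algebra.TensorProduct.comm κ (κ ⊗[A] Ahat) B)
    (AlgEquiv.injective _)

/-- **EGA IV 7.6.4 a) ⇒ a'')**: if every reduced finite `A`-algebra has reduced completion, the
formal fibres of `A` are geometrically reduced. -/
theorem isGeometricallyReduced_fiber_of_forall_reduced
    (H : ∀ (C : Type u) [CommRing C] [Algebra A C], Module.Finite A C → IsReduced C →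
      IsReduced (AdicCompletion ((⊥ : Ideal C).jacobson) C))
    (p : Ideal A) [p.IsPrime] :
    Algebra.IsGeometricallyReduced p.ResidueField
      (p.Fiber (AdicCompletion (maximalIdeal A) A)) := by
  apply isGeometricallyReduced_fiber_of_forall_fraction
  intro D B _ _ _ _ _ _ _ _ _
  exact isReduced_tensor_of_isFractionRing A D B _
    (AnUnram3.isReduced_tensor_of_isReduced_adicCompletion_jacobson A D
      (H D inferInstance inferInstance))

/-- a Nagata Noetherian local ring has geometrically reduced formal fibres -/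
theorem isGeometricallyReduced_fiber_of_isNagata (hA : CAlg.IsNagata A) (p : Ideal A)
    [p.IsPrime] :
    Algebra.IsGeometricallyReduced p.ResidueField
      (p.Fiber (AdicCompletion (maximalIdeal A) A)) :=
  isGeometricallyReduced_fiber_of_forall_reduced A (fun C _ _ hfin hred => by
    haveI := hfin
    haveI := hred
    exact AnUnram3.isReduced_adicCompletion_jacobson A C hA) p

/-- for a Noetherian local ring: geometrically reduced formal fibres ⇔ Nagata -/
theorem forall_isGeometricallyReduced_fiber_iff_isNagata :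
    (∀ (p : Ideal A) [p.IsPrime], Algebra.IsGeometricallyReduced p.ResidueField
      (p.Fiber (AdicCompletion (maximalIdeal A) A))) ↔ CAlg.IsNagata A :=
  ⟨fun h => FormalFibre.isNagata_of_geomReducedFormalFibres A h,
    fun h p _ => isGeometricallyReduced_fiber_of_isNagata A h p⟩

end

section Descent

/-- a regular ring is reduced -/
theorem isReduced_of_isRegularRing (R : Type u) [CommRing R] [IsRegularRing R] : IsReduced R := by
  apply isReduced_ofLocalizationMaximal
  intro J hJ
  haveI : IsDomain (Localization.AtPrime J) := Groth.Agent.S0558.result _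
  infer_instance

/-- geometric reducedness can be tested on finite field extensions -/
theorem isGeometricallyReduced_of_forall_finite (k F : Type u) [Field k] [CommRing F] [Algebra k F]
    (h : ∀ (k' : Type u) [Field k'] [Algebra k k'], Module.Finite k k' → IsReduced (k' ⊗[k] F)) :
    Algebra.IsGeometricallyReduced k F := by
  let Ω := AlgebraicClosure k
  rw [Algebra.isGeometricallyReduced_field_iff]
  suffices hs : IsReduced (F ⊗[k] Ω) from
    isReduced_of_injective (Algebra.TensorProduct.comm k Ω F) (AlgEquiv.injective _)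
  apply IsReduced.tensorProduct_of_flat_of_forall_fg
  intro B hB
  haveI : Algebra.IsIntegral k B :=
    ⟨fun b => (isIntegral_algHom_iff B.val Subtype.val_injective).mp
      (Algebra.IsIntegral.isIntegral (R := k) (b : Ω))⟩
  haveI : Algebra.FiniteType k B := (Subalgebra.fg_iff_finiteType B).mp hB
  haveI : Module.Finite k B := Algebra.IsIntegral.finite
  haveI : IsArtinianRing B := IsArtinianRing.of_finite k B
  have hfield : IsField B := IsArtinianRing.isField_of_isDomain B
  letI : Field B := hfield.toField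
  have h2 : IsReduced (B ⊗[k] F) := h B inferInstance
  exact isReduced_of_injective (Algebra.TensorProduct.comm k F B) (AlgEquiv.injective _)

/-- **Descent of N-2 along a faithfully flat map to a Nagata ring with geometrically reduced
fibre** (EGA IV 7.6.4/7.7.2 type argument) -/
theorem isN2_quotient_of_faithfullyFlat_nagata (A A' : Type u) [CommRing A] [CommRing A']
    [Algebra A A'] [Module.FaithfullyFlat A A'] (hA' : CAlg.IsNagata A') (p : Ideal A)
    [hp : p.IsPrime] (h : Algebra.IsGeometricallyReduced p.ResidueField (p.Fiber A')) :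
    CAlg.IsN2 (A ⧸ p) := by
  intro K' _ _ _ _ hfin
  haveI := hfin
  let B := A ⧸ p
  let J : Ideal A' := p.map (algebraMap A A')
  let S := A' ⧸ J
  have hNag : CAlg.IsNagata S := AnUnram2.isNagata_of_finite A' S hA'
  let e : S ≃ₐ[B] B ⊗[A] A' := Algebra.TensorProduct.quotIdealMapEquivQuotTensor A' p
  haveI : Module.FaithfullyFlat B S := Module.FaithfullyFlat.of_linearEquiv _ _ e.toLinearEquiv
  let κ := p.ResidueField
  let eκ : FractionRing B ≃ₐ[B] κ := FractionRing.algEquiv B κ
  letI : Algebra A K' := ((algebraMap B K').comp (algebraMap A B)).toAlgebra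
  haveI : IsScalarTower A B K' := IsScalarTower.of_algebraMap_eq' rfl
  letI : Algebra κ K' := ((algebraMap (FractionRing B) K').comp eκ.symm.toRingHom).toAlgebra
  letI : Algebra (FractionRing B) κ := eκ.toRingHom.toAlgebra
  haveI : IsScalarTower (FractionRing B) κ K' := IsScalarTower.of_algebraMap_eq' (by
    ext x
    simp [RingHom.algebraMap_toAlgebra])
  haveI : IsScalarTower B κ K' := IsScalarTower.of_algebraMap_eq' (by
    ext x
    rw [RingHom.comp_apply, RingHom.algebraMap_toAlgebra, RingHom.comp_apply]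
    simp [← IsScalarTower.algebraMap_apply])
  haveI : IsScalarTower A κ K' := IsScalarTower.of_algebraMap_eq' (by
    ext x
    rw [IsScalarTower.algebraMap_apply A B K', IsScalarTower.algebraMap_apply B κ K',
      RingHom.comp_apply, ← IsScalarTower.algebraMap_apply A B κ])
  haveI : Algebra.IsAlgebraic (FractionRing B) K' := Algebra.IsAlgebraic.of_finite _ _
  haveI : Algebra.IsAlgebraic κ K' := Algebra.IsAlgebraic.tower_top (K := FractionRing B) κ
  haveI : IsReduced (K' ⊗[κ] (p.Fiber A')) := inferInstance
  let e1 : K' ⊗[κ] (κ ⊗[A] A') ≃ₐ[K'] K' ⊗[A] A' :=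
    Algebra.TensorProduct.cancelBaseChange A κ K' K' A'
  let e2 : K' ⊗[B] (B ⊗[A] A') ≃ₐ[K'] K' ⊗[A] A' :=
    Algebra.TensorProduct.cancelBaseChange A B K' K' A'
  let e3 : K' ⊗[B] S ≃ₐ[K'] K' ⊗[B] (B ⊗[A] A') :=
    Algebra.TensorProduct.congr AlgEquiv.refl e
  let e4 : S ⊗[B] K' ≃ₐ[B] K' ⊗[B] S := Algebra.TensorProduct.comm B S K'
  have hred : IsReduced (S ⊗[B] K') := by
    let f : S ⊗[B] K' →+* K' ⊗[κ] (κ ⊗[A] A') :=
      (e1.symm.toRingEquiv.toRingHom.comp e2.toRingEquiv.toRingHom).comp
        (e3.toRingEquiv.toRingHom.comp e4.toRingEquiv.toRingHom)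
    have hf : Function.Injective f :=
      (e1.symm.injective.comp e2.injective).comp (e3.injective.comp e4.injective)
    exact isReduced_of_injective f hf
  exact FormalFibre.finite_integralClosure_of_faithfullyFlat hNag hred

/-- a ring admitting a faithfully flat map with geometrically reduced fibres to a Nagata ring is
Nagata (Noetherian assumed) -/
theorem isNagata_of_faithfullyFlat_nagata (A A' : Type u) [CommRing A] [IsNoetherianRing A]
    [CommRing A'] [Algebra A A'] [Module.FaithfullyFlat A A'] (hA' : CAlg.IsNagata A')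
    (h : ∀ (p : Ideal A) [p.IsPrime],
      Algebra.IsGeometricallyReduced p.ResidueField (p.Fiber A')) : CAlg.IsNagata A :=
  ⟨inferInstance, fun p _ => isN2_quotient_of_faithfullyFlat_nagata A A' hA' p (h p)⟩

end Descent

end Groth.Agent.Lib.Helper88.FormalFibre2
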