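import Groth.Prelude.Def_Found
import Groth.Agent.Lib.Helper4.IndCriterion
import Mathlib

/-!
# Ind-étale algebras have absolutely flat geometric fibres; consequences for reducedness
-/

universe u

namespace Groth.Agent.Lib.Helper88.HensNagata

open TensorProduct

section VNR

/-- von Neumann regular (absolutely flat) commutative rings -/
def IsVNR (G : Type*) [CommRing G] : Prop := ∀ g : G, ∃ h : G, g * g * h = g

theorem isVNR_of_isArtinianRing_of_isReduced (G : Type*) [CommRing G] [IsArtinianRing G]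
    [IsReduced G] : IsVNR G := by
  intro g
  let e := IsArtinianRing.equivPi G
  letI : ∀ I : MaximalSpectrum G, Field (G ⧸ I.asIdeal) := fun I => Ideal.Quotient.field I.asIdeal
  refine ⟨e.symm (fun I => (e g I)⁻¹), ?_⟩
  apply e.injective
  rw [map_mul, map_mul, AlgEquiv.apply_symm_apply]
  funext I
  simp only [Pi.mul_apply]
  exact mul_self_mul_inv _

theorem IsVNR.isReduced {G : Type*} [CommRing G] (h : IsVNR G) : IsReduced G := by
  refine ⟨fun g hg => ?_⟩
  obtain ⟨k, hk⟩ := h g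
  obtain ⟨n, hn⟩ := hg
  have key : ∀ m : ℕ, g = g ^ (m + 1) * k ^ m := by
    intro m
    induction m with
    | zero => simp
    | succ m ih =>
      calc g = g * g * k := hk.symm
        _ = (g ^ (m + 1) * k ^ m) * g * k := by rw [← ih]
        _ = g ^ (m + 1 + 1) * k ^ (m + 1) := by ring
  rw [key n, pow_succ, hn]
  ring

theorem IsVNR.of_surjective {G H : Type*} [CommRing G] [CommRing H] (f : G →+* H)
    (hf : Function.Surjective f) (h : IsVNR G) : IsVNR H := by
  intro y
  obtain ⟨g, rfl⟩ := hf y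
  obtain ⟨k, hk⟩ := h g
  exact ⟨f k, by rw [← map_mul, ← map_mul, hk]⟩

/-- a finite étale algebra over a field is absolutely flat -/
theorem isVNR_of_etale_field (k E : Type*) [Field k] [CommRing E] [Algebra k E]
    [Algebra.Etale k E] : IsVNR E := by
  haveI : Module.Finite k E := Algebra.FormallyUnramified.finite_of_free k E
  haveI : IsReduced E := Algebra.FormallyUnramified.isReduced_of_field k E
  haveI : IsArtinianRing E := IsArtinianRing.of_finite k E
  exact isVNR_of_isArtinianRing_of_isReduced E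

/-- in an absolutely flat ring, if `t ^ m` lies in an extended ideal of a reduced algebra then
so does `t` -/
theorem IsVNR.mem_map_of_pow_mem {G T : Type*} [CommRing G] [CommRing T] (hG : IsVNR G)
    (φ : G →+* T) [IsReduced T] (𝔫 : Ideal G) {t : T} {m : ℕ} (ht : t ^ m ∈ 𝔫.map φ) :
    t ∈ 𝔫.map φ := by
  have key : ∀ y ∈ 𝔫.map φ, ∃ e ∈ 𝔫, e * e = e ∧ φ e * y = y := by
    intro y hy
    refine Submodule.span_induction (p := fun y _ => ∃ e ∈ 𝔫, e * e = e ∧ φ e * y = y)
      ?_ ?_ ?_ ?_ hy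
    · rintro _ ⟨g, hg, rfl⟩
      obtain ⟨k, hk⟩ := hG g
      refine ⟨g * k, 𝔫.mul_mem_right _ hg, ?_, ?_⟩
      · calc g * k * (g * k) = (g * g * k) * k := by ring
          _ = g * k := by rw [hk]
      · rw [← map_mul]
        congr 1
        calc g * k * g = g * g * k := by ring
          _ = g := hk
    · exact ⟨0, 𝔫.zero_mem, by simp, by simp⟩
    · rintro y₁ y₂ _ _ ⟨e₁, he₁, hi₁, h₁⟩ ⟨e₂, he₂, hi₂, h₂⟩
      refine ⟨e₁ + e₂ - e₁ * e₂, 𝔫.sub_mem (𝔫.add_mem he₁ he₂) (𝔫.mul_mem_right _ he₁), ?_, ?_⟩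
      · calc (e₁ + e₂ - e₁ * e₂) * (e₁ + e₂ - e₁ * e₂)
            = e₁ * e₁ + e₂ * e₂ + 2 * (e₁ * e₂) - 2 * ((e₁ * e₁) * e₂) - 2 * (e₁ * (e₂ * e₂))
              + (e₁ * e₁) * (e₂ * e₂) := by ring
          _ = e₁ + e₂ - e₁ * e₂ := by rw [hi₁, hi₂]; ring
      · have a₁ : φ (e₁ + e₂ - e₁ * e₂) * y₁ = y₁ := by
          rw [map_sub, map_add, map_mul]
          calc (φ e₁ + φ e₂ - φ e₁ * φ e₂) * y₁
              = φ e₁ * y₁ + φ e₂ * y₁ - φ e₂ * (φ e₁ * y₁) := by ring
            _ = y₁ := by rw [h₁]; ring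
        have a₂ : φ (e₁ + e₂ - e₁ * e₂) * y₂ = y₂ := by
          rw [map_sub, map_add, map_mul]
          calc (φ e₁ + φ e₂ - φ e₁ * φ e₂) * y₂
              = φ e₁ * y₂ + φ e₂ * y₂ - φ e₁ * (φ e₂ * y₂) := by ring
            _ = y₂ := by rw [h₂]; ring
        rw [mul_add, a₁, a₂]
    · rintro a y _ ⟨e, he, hi, h⟩
      refine ⟨e, he, hi, ?_⟩
      rw [smul_eq_mul, mul_left_comm, h]
  obtain ⟨e, he, hi, h⟩ := key _ ht
  have hu : ((1 - φ e) * t) ^ (m + 1) = 0 := by
    have h1 : (1 - φ e) * t ^ m = 0 := by rw [sub_mul, one_mul, h, sub_self]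
    calc ((1 - φ e) * t) ^ (m + 1) = (1 - φ e) ^ (m + 1) * t ^ (m + 1) := mul_pow _ _ _
      _ = (1 - φ e) ^ m * t * ((1 - φ e) * t ^ m) := by ring
      _ = 0 := by rw [h1, mul_zero]
  have hz : (1 - φ e) * t = 0 := IsReduced.eq_zero _ ⟨_, hu⟩
  have : t = φ e * t := by
    have := hz
    rw [sub_mul, one_mul, sub_eq_zero] at this
    exact this
  rw [this]
  exact Ideal.mul_mem_right _ _ (Ideal.mem_map_of_mem φ he)

end VNR

section Factor

open Groth.Agent.Lib.Helper4

variable {R S : Type u} [CommRing R] [CommRing S] [Algebra R S]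

theorem exists_etale_of_hasFactorization (hS : HasFactorization (etaleClass R) S)
    (k' : Type u) [CommRing k'] [Algebra R k'] (g : k' ⊗[R] S) :
    ∃ (E : Type u) (_ : CommRing E) (_ : Algebra R E), Algebra.Etale R E ∧
      ∃ (β : E →ₐ[R] S) (g₀ : k' ⊗[R] E),
        Algebra.TensorProduct.map (AlgHom.id R k') β g₀ = g := by
  induction g using TensorProduct.induction_on with
  | zero =>
    exact ⟨R, inferInstance, inferInstance, inferInstance, Algebra.ofId R S, 0, map_zero _⟩
  | tmul c s =>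
    obtain ⟨E, _, _, hE, α, β, hαβ⟩ := hS (Polynomial R) (Polynomial.aeval s)
    refine ⟨E, inferInstance, inferInstance, hE, β, c ⊗ₜ α Polynomial.X, ?_⟩
    rw [Algebra.TensorProduct.map_tmul, AlgHom.id_apply, ← AlgHom.comp_apply, hαβ,
      Polynomial.aeval_X]
  | add g₁ g₂ h₁ h₂ =>
    obtain ⟨E₁, _, _, hE₁, β₁, a₁, ha₁⟩ := h₁
    obtain ⟨E₂, _, _, hE₂, β₂, a₂, ha₂⟩ := h₂
    haveI : Algebra.Etale R E₁ := hE₁
    haveI : Algebra.Etale R E₂ := hE₂
    haveI : Algebra.Etale R (E₁ ⊗[R] E₂) := Algebra.Etale.comp R E₁ (E₁ ⊗[R] E₂)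
    refine ⟨E₁ ⊗[R] E₂, inferInstance, inferInstance, inferInstance,
      Algebra.TensorProduct.productMap β₁ β₂,
      Algebra.TensorProduct.map (AlgHom.id R k') Algebra.TensorProduct.includeLeft a₁ +
        Algebra.TensorProduct.map (AlgHom.id R k') Algebra.TensorProduct.includeRight a₂, ?_⟩
    have e₁ : (Algebra.TensorProduct.map (AlgHom.id R k')
        (Algebra.TensorProduct.productMap β₁ β₂)).comp
        (Algebra.TensorProduct.map (AlgHom.id R k') Algebra.TensorProduct.includeLeft) =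
        Algebra.TensorProduct.map (AlgHom.id R k') β₁ := by
      ext x
      · simp
      · simp
    have e₂ : (Algebra.TensorProduct.map (AlgHom.id R k')
        (Algebra.TensorProduct.productMap β₁ β₂)).comp
        (Algebra.TensorProduct.map (AlgHom.id R k') Algebra.TensorProduct.includeRight) =
        Algebra.TensorProduct.map (AlgHom.id R k') β₂ := by
      ext x
      · simp
      · simp
    rw [map_add, ← AlgHom.comp_apply, ← AlgHom.comp_apply, e₁, e₂, ha₁, ha₂]

/-- the geometric fibres of an ind-étale algebra are absolutely flat -/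
theorem isVNR_tensor_of_hasFactorization (hS : HasFactorization (etaleClass R) S)
    (k' : Type u) [Field k'] [Algebra R k'] : IsVNR (k' ⊗[R] S) := by
  intro g
  obtain ⟨E, _, _, hE, β, g₀, rfl⟩ := exists_etale_of_hasFactorization hS k' g
  haveI : Algebra.Etale R E := hE
  haveI : Algebra.Etale k' (k' ⊗[R] E) := inferInstance
  obtain ⟨h₀, hh₀⟩ := isVNR_of_etale_field k' (k' ⊗[R] E) g₀
  exact ⟨Algebra.TensorProduct.map (AlgHom.id R k') β h₀, by
    rw [← map_mul, ← map_mul, hh₀]⟩

end Factor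

section Descent

variable {R S K C : Type u} [CommRing R] [CommRing S] [Algebra R S] [CommRing K] [Algebra R K]
  [Algebra S K] [IsScalarTower R S K] [CommRing C] [Algebra R C] [Algebra S C]
  [IsScalarTower R S C]

/-- if `K ⊗[R] S` is absolutely flat and `K ⊗[R] C` is reduced then `K ⊗[S] C` is reduced -/
theorem isReduced_tensor_of_isVNR (hG : IsVNR (K ⊗[R] S)) [IsReduced (K ⊗[R] C)] :
    IsReduced (K ⊗[S] C) := by
  let π : K ⊗[R] C →ₐ[R] K ⊗[S] C := Algebra.TensorProduct.mapOfCompatibleSMul S R R K C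
  let φ : K ⊗[R] S →ₐ[R] K ⊗[R] C :=
    Algebra.TensorProduct.map (AlgHom.id R K) (IsScalarTower.toAlgHom R S C)
  let μ : K ⊗[R] S →ₐ[R] K :=
    Algebra.TensorProduct.productMap (AlgHom.id R K) (IsScalarTower.toAlgHom R S K)
  let 𝔫 : Ideal (K ⊗[R] S) := RingHom.ker μ.toRingHom
  have hπφ : ∀ g : K ⊗[R] S, π (φ g) = (μ g) ⊗ₜ[S] (1 : C) := by
    intro g
    induction g using TensorProduct.induction_on with
    | zero => simp
    | tmul m s =>
      simp only [φ, π, μ, Algebra.TensorProduct.map_tmul, AlgHom.id_apply,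
        Algebra.TensorProduct.mapOfCompatibleSMul_tmul,
        Algebra.TensorProduct.productMap_apply_tmul, IsScalarTower.coe_toAlgHom']
      rw [Algebra.algebraMap_eq_smul_one s, TensorProduct.tmul_smul, TensorProduct.smul_tmul',
        Algebra.smul_def, mul_comm]
    | add x y hx hy => rw [map_add, map_add, hx, hy, map_add, TensorProduct.add_tmul]
  have hker : ∀ x : K ⊗[R] C, π x = 0 → x ∈ 𝔫.map φ.toRingHom := by
    intro x hx
    have hx' : x ∈ LinearMap.ker (TensorProduct.mapOfCompatibleSMul S R S K C) := hx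
    rw [TensorProduct.AlgebraTensorModule.ker_mapOfCompatibleSMul] at hx'
    refine Submodule.span_induction (p := fun y _ => y ∈ 𝔫.map φ.toRingHom) ?_ ?_ ?_ ?_ hx'
    · rintro _ ⟨s, m, n, rfl⟩
      have h1 : (s • m) ⊗ₜ[R] n - m ⊗ₜ[R] (s • n) =
          φ ((s • m) ⊗ₜ[R] (1 : S) - m ⊗ₜ[R] s) * ((1 : K) ⊗ₜ[R] n) := by
        simp only [φ, map_sub, Algebra.TensorProduct.map_tmul, AlgHom.id_apply, map_one,
          IsScalarTower.coe_toAlgHom', sub_mul, Algebra.TensorProduct.tmul_mul_tmul, mul_one,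
          one_mul]
        rw [Algebra.smul_def s n]
      rw [h1]
      apply Ideal.mul_mem_right
      apply Ideal.mem_map_of_mem
      change μ _ = 0
      simp only [μ, map_sub, Algebra.TensorProduct.productMap_apply_tmul, AlgHom.id_apply,
        map_one, mul_one, IsScalarTower.coe_toAlgHom']
      rw [Algebra.smul_def, mul_comm, sub_self]
    · exact Ideal.zero_mem _
    · intro a b _ _ ha hb
      exact Ideal.add_mem _ ha hb
    · intro s y _ hy
      have : s • y = (algebraMap S K s ⊗ₜ[R] (1 : C)) * y := by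
        rw [← Algebra.TensorProduct.algebraMap_apply, ← Algebra.smul_def]
      rw [this]
      exact Ideal.mul_mem_left _ _ hy
  refine ⟨fun z hz => ?_⟩
  obtain ⟨m, hm⟩ := hz
  obtain ⟨t, rfl⟩ := Algebra.TensorProduct.mapOfCompatibleSMul_surjective S R R K C z
  have h1 : t ^ m ∈ 𝔫.map φ.toRingHom := hker _ (by rw [map_pow]; exact hm)
  have h2 : t ∈ 𝔫.map φ.toRingHom := hG.mem_map_of_pow_mem φ.toRingHom 𝔫 h1
  have h3 : 𝔫.map φ.toRingHom ≤ RingHom.ker π.toRingHom := by
    rw [Ideal.map_le_iff_le_comap]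
    intro g hg
    rw [Ideal.mem_comap, RingHom.mem_ker]
    change π (φ g) = 0
    rw [hπφ]
    have : μ g = 0 := hg
    rw [this, TensorProduct.zero_tmul]
  exact h3 h2

end Descent

end Groth.Agent.Lib.Helper88.HensNagata
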