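import Groth.Prelude.Def_Found
import Groth.Agent.Lib.Helper88.AnUnram2
import Groth.Agent.Lib.Helper88.FormalFibre2
import Mathlib

/-!
# Lifting reducedness from the closed fibre over a Nagata local ring (EGA IV 7.5.x, reduced case)

Let `R → C` be a flat local homomorphism of Noetherian local rings with `R` Nagata, such that
`k' ⊗[R] C` is reduced for all fields `k'` finite over `R` (i.e. the closed fibre is geometrically
reduced). Then `D ⊗[R] C` is reduced for every finite `R`-algebra `D` which is a domain, and all
the fibres of `R → C` are geometrically reduced.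
-/

universe u

namespace Groth.Agent.Lib.Helper88.ReducedLift

open IsLocalRing CAlg TensorProduct

section Lift

variable (R : Type u) [CommRing R] [IsNoetherianRing R] [IsLocalRing R]
  (C : Type u) [CommRing C] [IsNoetherianRing C] [IsLocalRing C] [Algebra R C]
  [IsLocalHom (algebraMap R C)]

/-- Krull intersection in `D ⊗ C` for a finite `R`-algebra `D`. -/
theorem eq_zero_of_forall_pow_dvd (D : Type u) [CommRing D] [Algebra R D] [Module.Finite R D]
    {x : R} (hx : x ∈ maximalIdeal R) (t : D ⊗[R] C)
    (h : ∀ n : ℕ, ∃ t' : D ⊗[R] C,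
      t = algebraMap D (D ⊗[R] C) (algebraMap R D x) ^ n * t') :
    t = 0 := by
  let e : D ⊗[R] C ≃ₗ[R] C ⊗[R] D := TensorProduct.comm R D C
  have hxhat : algebraMap R C x ∈ maximalIdeal C := by
    intro hu
    exact hx (isUnit_of_map_unit (algebraMap R C) x hu)
  have hmem : e t ∈ (⨅ i : ℕ, maximalIdeal C ^ i • ⊤ : Submodule C (C ⊗[R] D)) := by
    rw [Submodule.mem_iInf]
    intro n
    obtain ⟨t', ht'⟩ := h n
    have h1 : t = (x ^ n) • t' := by
      rw [ht', ← IsScalarTower.algebraMap_apply R D, ← map_pow, ← Algebra.smul_def]
    rw [h1, map_smul, ← algebraMap_smul C (x ^ n) (e t'), map_pow]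
    exact Submodule.smul_mem_smul (Ideal.pow_mem_pow hxhat n) Submodule.mem_top
  rw [Ideal.iInf_pow_smul_eq_bot_of_isLocalRing _ Ideal.IsPrime.ne_top', Submodule.mem_bot] at hmem
  exact e.map_eq_zero_iff.mp hmem

/-- a domain finite over `R` and killed by `𝔪` is a field -/
theorem isField_of_forall_algebraMap_eq_zero (D : Type u) [CommRing D] [IsDomain D]
    [Algebra R D] [Module.Finite R D] (h : ∀ x ∈ maximalIdeal R, algebraMap R D x = 0) :
    IsField D := by
  let k := ResidueField R
  letI : Algebra k D := (Ideal.Quotient.lift (maximalIdeal R) (algebraMap R D) h).toAlgebra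
  haveI : IsScalarTower R k D := IsScalarTower.of_algebraMap_eq' rfl
  haveI : Module.Finite k D := Module.Finite.of_restrictScalars_finite R k D
  haveI : IsArtinianRing D := IsArtinianRing.of_finite k D
  exact IsArtinianRing.isField_of_isDomain D

variable [Module.Flat R C]

/-- **inductive form**: for a Nagata domain `D` finite over the Noetherian local ring `R`, the ring
`D ⊗ C` is reduced. -/
theorem isReduced_tensor_aux
    (hP : ∀ (k' : Type u) [Field k'] [Algebra R k'], Module.Finite R k' → IsReduced (k' ⊗[R] C)) :
    ∀ (n : ℕ) (D : Type u) [CommRing D] [IsDomain D] [Algebra R D] [Module.Finite R D],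
      CAlg.IsNagata D → ringKrullDim D ≤ n → IsReduced (D ⊗[R] C) := by
  intro n
  induction n using Nat.strong_induction_on with
  | _ n ih =>
    intro D _ _ _ _ hN hdim
    haveI := hN.1
    -- normalization
    let D' := integralClosure D (FractionRing D)
    haveI hfinD' : Module.Finite D D' := AnUnram2.isN1_of_isNagata D hN
    haveI : Module.Finite R D' := Module.Finite.trans D D'
    have hN' : CAlg.IsNagata D' := AnUnram2.isNagata_of_finite D D' hN
    haveI := hN'.1
    haveI : IsIntegrallyClosed D' :=
      integralClosure.isIntegrallyClosedOfFiniteExtension (FractionRing D)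
    have hdim' : ringKrullDim D' ≤ n :=
      le_trans (Groth.Agent.Lib.Helper11.IntegralDim.ringKrullDim_le_of_isIntegral (R := D)) hdim
    suffices hD' : IsReduced (D' ⊗[R] C) by
      have hinj : Function.Injective
          (Algebra.TensorProduct.map (IsScalarTower.toAlgHom R D D') (AlgHom.id R C)) :=
        Module.Flat.rTensor_preserves_injective_linearMap
          (IsScalarTower.toAlgHom R D D').toLinearMap
          (FaithfulSMul.algebraMap_injective D D')
      exact isReduced_of_injective _ hinj
    by_cases hex : ∃ x ∈ maximalIdeal R, algebraMap R D' x ≠ 0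
    · obtain ⟨x, hx, hx'⟩ := hex
      refine AnUnram2.isReduced_of_zariski (S := D') (T := D' ⊗[R] C) hx' ?_
        (eq_zero_of_forall_pow_dvd R C D' hx)
      intro p hp
      haveI : p.IsPrime := hp.isPrime
      haveI : Module.Finite R (D' ⧸ p) :=
        Module.Finite.of_surjective (Ideal.Quotient.mkₐ R p).toLinearMap
          (Ideal.Quotient.mkₐ_surjective R p)
      have hNp : CAlg.IsNagata (D' ⧸ p) := AnUnram2.isNagata_of_finite D' (D' ⧸ p) hN'
      have hxp : algebraMap R D' x ∈ p :=
        (AnUnram2.exists_uniformizer_of_mem_associatedPrimes hx' hp).1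
      have hle : Ideal.span {algebraMap R D' x} ≤ p := (Ideal.span_singleton_le_iff_mem _).mpr hxp
      have hd1 : ringKrullDim (D' ⧸ p) + 1 ≤ n := by
        calc ringKrullDim (D' ⧸ p) + 1
            ≤ ringKrullDim (D' ⧸ Ideal.span {algebraMap R D' x}) + 1 := by
              gcongr
              exact ringKrullDim_le_of_surjective (Ideal.Quotient.factor hle)
                (Ideal.Quotient.factor_surjective hle)
          _ ≤ ringKrullDim D' :=
              ringKrullDim_quotient_succ_le_of_nonZeroDivisor (mem_nonZeroDivisors_of_ne_zero hx')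
          _ ≤ n := hdim'
      obtain ⟨m, hm, hdm⟩ :=
        AnUnram2.exists_lt_of_add_one_le ringKrullDim_nonneg_of_nontrivial hd1
      have hred := ih m hm (D' ⧸ p) hNp hdm
      let e := Algebra.TensorProduct.quotientTensorEquiv (R := R) R C D' p
      exact isReduced_of_injective e.symm e.symm.injective
    · push Not at hex
      have hfield : IsField D' := isField_of_forall_algebraMap_eq_zero R D' hex
      letI : Field D' := hfield.toField
      exact hP D' inferInstance

/-- **Reducedness lifts from the closed fibre**: `R` a Nagata Noetherian local ring, `C` a flat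
local Noetherian `R`-algebra such that `k' ⊗[R] C` is reduced for all fields `k'` finite over `R`.
Then `D ⊗[R] C` is reduced for every domain `D` finite over `R`. -/
theorem isReduced_tensor_of_closedFibre (hR : CAlg.IsNagata R)
    (hP : ∀ (k' : Type u) [Field k'] [Algebra R k'], Module.Finite R k' → IsReduced (k' ⊗[R] C))
    (D : Type u) [CommRing D] [IsDomain D] [Algebra R D] [Module.Finite R D] :
    IsReduced (D ⊗[R] C) := by
  have hD : CAlg.IsNagata D := AnUnram2.isNagata_of_finite R D hR
  haveI : Algebra.IsIntegral R D := Algebra.IsIntegral.of_finite R D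
  have h1 : ringKrullDim D ≤ ringKrullDim R :=
    Groth.Agent.Lib.Helper11.IntegralDim.ringKrullDim_le_of_isIntegral
  obtain ⟨n, hn⟩ := AnUnram2.exists_nat_ge_of_lt_top (ringKrullDim_lt_top (R := R))
  exact isReduced_tensor_aux R C hP n D hD (h1.trans hn)

end Lift

section Fibre

variable (A : Type u) [CommRing A] (C : Type u) [CommRing C] [Algebra A C]

/-- geometric reducedness of the fibres of `A → C` from reducedness of `Frac D ⊗ C` for the finite
`A`-algebras `D` which are domains -/
theorem isGeometricallyReduced_fiber_of_forall_fraction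
    (H : ∀ (D B : Type u) [CommRing D] [IsDomain D] [Field B] [Algebra A D] [Module.Finite A D]
      [Algebra A B] [Algebra D B] [IsScalarTower A D B] [IsFractionRing D B],
      IsReduced (B ⊗[A] C))
    (p : Ideal A) [p.IsPrime] :
    Algebra.IsGeometricallyReduced p.ResidueField (p.Fiber C) := by
  let κ := p.ResidueField
  let Ω := AlgebraicClosure κ
  rw [Algebra.isGeometricallyReduced_field_iff]
  suffices hs : IsReduced ((κ ⊗[A] C) ⊗[κ] Ω) from
    isReduced_of_injective (Algebra.TensorProduct.comm κ Ω (κ ⊗[A] C)) (AlgEquiv.injective _)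
  apply IsReduced.tensorProduct_of_flat_of_forall_fg
  intro B hB
  haveI : Algebra.IsIntegral κ B :=
    ⟨fun b => (isIntegral_algHom_iff B.val Subtype.val_injective).mp
      (Algebra.IsIntegral.isIntegral (R := κ) (b : Ω))⟩
  haveI : Algebra.FiniteType κ B := (Subalgebra.fg_iff_finiteType B).mp hB
  haveI : Module.Finite κ B := Algebra.IsIntegral.finite
  haveI : IsArtinianRing B := IsArtinianRing.of_finite κ B
  have hfield : IsField B := IsArtinianRing.isField_of_isDomain B
  letI : Field B := hfield.toField
  obtain ⟨S', -, hmod, hfr⟩ :=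
    Groth.Agent.Lib.Helper88.exists_finite_subalgebra_isFractionRing (A ⧸ p) κ B
  haveI := hmod
  haveI := hfr
  haveI : Module.Finite A S' := Module.Finite.trans (A ⧸ p) S'
  have hB' : IsReduced (B ⊗[A] C) := H S' B
  let e1 : B ⊗[κ] (κ ⊗[A] C) ≃ₐ[B] B ⊗[A] C :=
    Algebra.TensorProduct.cancelBaseChange A κ B B C
  have h2 : IsReduced (B ⊗[κ] (κ ⊗[A] C)) := isReduced_of_injective e1 e1.injective
  exact isReduced_of_injective (Algebra.TensorProduct.comm κ (κ ⊗[A] C) B)
    (AlgEquiv.injective _)

end Fibre

section Main

variable (R : Type u) [CommRing R] [IsNoetherianRing R] [IsLocalRing R]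
  (C : Type u) [CommRing C] [IsNoetherianRing C] [IsLocalRing C] [Algebra R C]
  [IsLocalHom (algebraMap R C)] [Module.Flat R C]

/-- **EGA IV 7.5.x (reduced case)**: let `R → C` be a flat local homomorphism of Noetherian local
rings with `R` Nagata, such that `k' ⊗[R] C` is reduced for all fields `k'` finite over `R`. Then
all the fibres of `R → C` are geometrically reduced. -/
theorem isGeometricallyReduced_fiber_of_closedFibre (hR : CAlg.IsNagata R)
    (hP : ∀ (k' : Type u) [Field k'] [Algebra R k'], Module.Finite R k' → IsReduced (k' ⊗[R] C))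
    (p : Ideal R) [p.IsPrime] :
    Algebra.IsGeometricallyReduced p.ResidueField (p.Fiber C) := by
  apply isGeometricallyReduced_fiber_of_forall_fraction
  intro D B _ _ _ _ _ _ _ _ _
  exact FormalFibre2.isReduced_tensor_of_isFractionRing R D B C
    (isReduced_tensor_of_closedFibre R C hR hP D)

end Main

section ClosedFibre

/-- the kernel of a finite algebra map from a local ring to a field contains the maximal ideal -/
theorem maximalIdeal_le_ker (A k' : Type*) [CommRing A] [IsLocalRing A] [Field k'] [Algebra A k']
    [Module.Finite A k'] : maximalIdeal A ≤ RingHom.ker (algebraMap A k') := by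
  haveI : Algebra.IsIntegral A k' := Algebra.IsIntegral.of_finite A k'
  haveI : (⊥ : Ideal k').IsMaximal := Ideal.bot_isMaximal
  have hmax : ((⊥ : Ideal k').comap (algebraMap A k')).IsMaximal :=
    Ideal.isMaximal_comap_of_isIntegral_of_isMaximal (R := A) (⊥ : Ideal k')
  have : RingHom.ker (algebraMap A k') = maximalIdeal A :=
    IsLocalRing.eq_maximalIdeal hmax
  exact this.ge

/-- the closed-fibre hypothesis in the form used by `isReduced_tensor_of_closedFibre` -/
theorem isReduced_tensor_of_isGeometricallyReduced_closedFibre (A C : Type u) [CommRing A]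
    [IsLocalRing A] [CommRing C] [Algebra A C]
    (h : Algebra.IsGeometricallyReduced (maximalIdeal A).ResidueField
      ((maximalIdeal A).Fiber C))
    (k' : Type u) [Field k'] [Algebra A k'] (hfin : Module.Finite A k') :
    IsReduced (k' ⊗[A] C) := by
  haveI := hfin
  let κ := (maximalIdeal A).ResidueField
  let g : κ →+* k' := Ideal.ResidueField.lift (maximalIdeal A) (algebraMap A k')
    (maximalIdeal_le_ker A k') (by
      intro x hx
      have hu : IsUnit x := by
        by_contra hnu
        exact hx ((IsLocalRing.mem_maximalIdeal x).mpr hnu)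
      exact hu.map (algebraMap A k'))
  letI : Algebra κ k' := g.toAlgebra
  haveI : IsScalarTower A κ k' := IsScalarTower.of_algebraMap_eq (fun x => by
    change algebraMap A k' x = g (algebraMap A κ x)
    rw [Ideal.ResidueField.lift_algebraMap])
  haveI : Module.Finite κ k' := Module.Finite.of_restrictScalars_finite A κ k'
  haveI : Algebra.IsAlgebraic κ k' := Algebra.IsAlgebraic.of_finite κ k'
  haveI : IsReduced (k' ⊗[κ] ((maximalIdeal A).Fiber C)) := inferInstance
  let e1 : k' ⊗[κ] (κ ⊗[A] C) ≃ₐ[k'] k' ⊗[A] C :=
    Algebra.TensorProduct.cancelBaseChange A κ k' k' C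
  exact isReduced_of_injective e1.symm e1.symm.injective

/-- **EGA IV 7.5.x (reduced case)**: a flat local homomorphism `R → C` of Noetherian local rings
with `R` Nagata whose closed fibre is geometrically reduced has geometrically reduced fibres. -/
theorem isGeometricallyReduced_fiber_of_isGeometricallyReduced_closedFibre
    (R : Type u) [CommRing R] [IsNoetherianRing R] [IsLocalRing R]
    (C : Type u) [CommRing C] [IsNoetherianRing C] [IsLocalRing C] [Algebra R C]
    [IsLocalHom (algebraMap R C)] [Module.Flat R C] (hR : CAlg.IsNagata R)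
    (h : Algebra.IsGeometricallyReduced (maximalIdeal R).ResidueField
      ((maximalIdeal R).Fiber C)) (p : Ideal R) [p.IsPrime] :
    Algebra.IsGeometricallyReduced p.ResidueField (p.Fiber C) :=
  isGeometricallyReduced_fiber_of_closedFibre R C hR
    (fun k' _ _ hfin => isReduced_tensor_of_isGeometricallyReduced_closedFibre R C h k' hfin) p

end ClosedFibre

end Groth.Agent.Lib.Helper88.ReducedLift
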