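import Groth.Prelude.Def_Found
import Groth.Agent.Lib.Helper88.HensNagata
import Groth.Agent.Lib.Helper88.FormalFibre2
import Groth.Agent.Lib.Helper88.ReducedLift
import Groth.Agent.Lib.Helper37.Hz9
import Groth.Agent.Lib.Helper37.Hz20
import Groth.Agent.Lib.Helper37.Hz31
import Groth.Agent.Lib.Helper9.AdicComplEquiv
import Groth.Agent.S2536
import Mathlib

/-!
# The henselization of a Noetherian local ring is Nagata iff the ring is
-/

universe u

namespace Groth.Agent.Lib.Helper88.HensNagata

open TensorProduct IsLocalRing Groth.Agent.Lib.Helper4 Groth.Agent.Lib.Helper37.Hz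

section Field

/-- if all fibres of `A → C` are geometrically reduced then `B ⊗[A] C` is reduced for every
field `B` over `A` -/
theorem isReduced_tensor_field_of_forall_fiber (A C : Type u) [CommRing A] [CommRing C]
    [Algebra A C]
    (h : ∀ (p : Ideal A) [p.IsPrime], Algebra.IsGeometricallyReduced p.ResidueField (p.Fiber C))
    (B : Type u) [Field B] [Algebra A B] : IsReduced (B ⊗[A] C) := by
  let p : Ideal A := RingHom.ker (algebraMap A B)
  haveI : p.IsPrime := RingHom.ker_isPrime _
  let κ := p.ResidueField
  let g : κ →+* B := Ideal.ResidueField.lift p (algebraMap A B) le_rfl (by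
    intro x hx
    have hx' : algebraMap A B x ≠ 0 := fun h0 => hx ((RingHom.mem_ker).mpr h0)
    exact IsUnit.mk0 _ hx')
  letI : Algebra κ B := g.toAlgebra
  haveI : IsScalarTower A κ B := IsScalarTower.of_algebraMap_eq (fun x => by
    change algebraMap A B x = g (algebraMap A κ x)
    rw [Ideal.ResidueField.lift_algebraMap])
  haveI := h p
  haveI : IsReduced (B ⊗[κ] (p.Fiber C)) :=
    Groth.Agent.S2536.isReduced_tensorProduct_field κ (p.Fiber C) B
  let e1 : B ⊗[κ] (κ ⊗[A] C) ≃ₐ[B] B ⊗[A] C :=
    Algebra.TensorProduct.cancelBaseChange A κ B B C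
  exact isReduced_of_injective e1.symm e1.symm.injective

end Field

section Main

variable (R : Type u) [CommRing R] [IsLocalRing R]
variable (S : Type u) [CommRing S] [IsLocalRing S] [Algebra R S] [IsLocalHom (algebraMap R S)]
  [hS : Hensel.IsHenselization R S]

include hS in
theorem hasFactorization_of_isHenselization : HasFactorization (etaleClass R) S :=
  IsInd.hasFactorization (isIndEtale_of_isHenselization R S)

include hS in
/-- descent: if the henselization is Nagata, so is the ring -/
theorem isNagata_of_isNagata_henselization [IsNoetherianRing R] (h : CAlg.IsNagata S) :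
    CAlg.IsNagata R := by
  haveI := faithfullyFlat_of_isHenselization R S
  have hfact := hasFactorization_of_isHenselization R S
  refine FormalFibre2.isNagata_of_faithfullyFlat_nagata R S h (fun p _ => ?_)
  apply ReducedLift.isGeometricallyReduced_fiber_of_forall_fraction
  intro D B _ _ _ _ _ _ _ _ _
  exact (isVNR_tensor_of_hasFactorization hfact B).isReduced

include hS in
theorem nonempty_algEquiv_adicCompletion [IsNoetherianRing R] :
    Nonempty (AdicCompletion (maximalIdeal R) R ≃ₐ[R] AdicCompletion (maximalIdeal S) S) := by
  haveI := faithfullyFlat_of_isHenselization R S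
  have hmap := map_maximalIdeal_of_isHenselization R S
  have hpow : ∀ n : ℕ, (maximalIdeal R ^ n).map (algebraMap R S) = maximalIdeal S ^ n := by
    intro n
    rw [Ideal.map_pow, hmap]
  refine Groth.Agent.Lib.Helper9.AdicComplEquiv.exists_algEquiv (maximalIdeal R) (maximalIdeal S)
    (Algebra.ofId R S) ?_ ?_ ?_
  · rw [← hmap]
    exact Ideal.le_comap_map
  · intro n a ha
    have : a ∈ ((maximalIdeal R ^ n).map (algebraMap R S)).comap (algebraMap R S) := by
      rw [Ideal.mem_comap, hpow]
      exact ha
    rwa [Ideal.comap_map_eq_self_of_faithfullyFlat] at this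
  · intro n b
    obtain ⟨r, hr⟩ := exists_sub_mem_map_pow_of_isHenselization R S n b
    exact ⟨r, by rw [← hpow]; exact hr⟩

include hS in
/-- the henselization of a Nagata Noetherian local ring is Nagata -/
theorem isNagata_henselization [IsNoetherianRing R] (h : CAlg.IsNagata R) :
    CAlg.IsNagata S := by
  haveI : IsNoetherianRing S := (isNoetherianRing_iff_of_isHenselization R S).mp inferInstance
  have hfact := hasFactorization_of_isHenselization R S
  obtain ⟨e⟩ := nonempty_algEquiv_adicCompletion R S
  apply FormalFibre.isNagata_of_geomReducedFormalFibres S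
  intro q _
  apply ReducedLift.isGeometricallyReduced_fiber_of_forall_fraction
  intro D B _ _ _ _ _ _ _ _ _
  letI : Algebra R B := ((algebraMap S B).comp (algebraMap R S)).toAlgebra
  haveI : IsScalarTower R S B := IsScalarTower.of_algebraMap_eq' rfl
  haveI : IsScalarTower R S (AdicCompletion (maximalIdeal S) S) :=
    IsScalarTower.of_algebraMap_eq (fun x => by
      apply AdicCompletion.ext
      intro n
      rfl)
  have h1 : IsReduced (B ⊗[R] AdicCompletion (maximalIdeal R) R) :=
    isReduced_tensor_field_of_forall_fiber R _
      (fun p _ => FormalFibre2.isGeometricallyReduced_fiber_of_isNagata R h p) B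
  let e2 : B ⊗[R] AdicCompletion (maximalIdeal R) R ≃ₐ[R] B ⊗[R] AdicCompletion (maximalIdeal S) S :=
    Algebra.TensorProduct.congr AlgEquiv.refl e
  haveI : IsReduced (B ⊗[R] AdicCompletion (maximalIdeal S) S) :=
    isReduced_of_injective e2.symm e2.symm.injective
  exact isReduced_tensor_of_isVNR (R := R) (S := S) (isVNR_tensor_of_hasFactorization hfact B)

include hS in
theorem isNagata_henselization_iff [IsNoetherianRing R] :
    CAlg.IsNagata S ↔ CAlg.IsNagata R :=
  ⟨isNagata_of_isNagata_henselization R S, isNagata_henselization R S⟩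

end Main

end Groth.Agent.Lib.Helper88.HensNagata
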