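import Groth.Prelude.Def_Found
import Groth.Agent.Lib.Helper88.CMLift1
import Groth.Agent.S2703
import Mathlib

/-!
# Cohen–Macaulay fibres of flat local homomorphisms of complete local rings (EGA IV 7.5.1, CM case)
-/

universe u

namespace Groth.Agent.Lib.Helper88.CMLift

open IsLocalRing Groth.Agent.Lib.Helper49 Groth.Agent.Lib.Helper49.FibreSk
  Groth.Agent.Lib.Helper49.CMFibre

section Numerics

variable {R S : Type u} [CommRing R] [CommRing S] [IsNoetherianRing R] [IsNoetherianRing S]
  [Algebra R S] [Module.Flat R S]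

theorem fibDim_ne_top (p : Ideal R) (q : Ideal S) [q.IsPrime] [q.LiesOver p] :
    fibDim p q ≠ ⊤ := by
  haveI := isLocalRing_fibLoc p q
  unfold fibDim
  exact Ideal.height_ne_top (Ideal.IsPrime.ne_top')

/-- if `R_p` is CM and the fibre at `q` is CM, then `S_q` is CM -/
theorem isCMLocal_of_fib_eq (p : Ideal R) [p.IsPrime] (q : Ideal S) [q.IsPrime] [q.LiesOver p]
    (h : fibDim p q = fibDepth p q)
    (hp : LocCoh.IsCohenMacaulayLocalRing (Localization.AtPrime p)) :
    LocCoh.IsCohenMacaulayLocalRing (Localization.AtPrime q) := by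
  rw [isCMLocal_iff] at hp ⊢
  rw [depth_localization_eq_add p q, height_eq_add' p q, ← h, hp]

/-- if `S_q` is CM then the fibre at `q` is CM -/
theorem fib_eq_of_isCMLocal (p : Ideal R) [p.IsPrime] (q : Ideal S) [q.IsPrime] [q.LiesOver p]
    (hq : LocCoh.IsCohenMacaulayLocalRing (Localization.AtPrime q)) :
    fibDim p q = fibDepth p q := by
  rw [isCMLocal_iff, depth_localization_eq_add p q, height_eq_add' p q] at hq
  have h1 := depth_le_height R p
  have h2 := fibDepth_le_fibDim p q
  have h3 : p.height ≠ ⊤ := Ideal.height_ne_top (Ideal.IsPrime.ne_top')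
  have h4 := fibDim_ne_top p q
  generalize LocCoh.depth (Localization.AtPrime p) (Localization.AtPrime p) = a at *
  generalize fibDepth p q = b at *
  generalize fibDim p q = d at *
  generalize p.height = c at *
  lift c to ℕ using h3
  lift d to ℕ using h4
  lift a to ℕ using (ne_top_of_le_ne_top (ENat.coe_ne_top c) h1)
  lift b to ℕ using (ne_top_of_le_ne_top (ENat.coe_ne_top d) h2)
  norm_cast at *
  omega

end Numerics

section Domain

variable (R : Type u) [CommRing R] [IsDomain R] [IsNoetherianRing R]

/-- the generic point of a domain is in the CM locus -/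
theorem isCMLocal_bot :
    LocCoh.IsCohenMacaulayLocalRing (Localization.AtPrime (⊥ : Ideal R)) := by
  rw [isCMLocal_iff]
  have h := depth_le_height R (⊥ : Ideal R)
  have h0 : (⊥ : Ideal R).height = 0 := Ideal.height_eq_zero_iff_eq_bot.mpr rfl
  rw [h0] at h ⊢
  exact le_antisymm h zero_le

/-- height-one primes of a Noetherian domain are in the CM locus -/
theorem isCMLocal_of_height_eq_one (p : Ideal R) [p.IsPrime] (hp : p.height = 1) :
    LocCoh.IsCohenMacaulayLocalRing (Localization.AtPrime p) := by
  rw [isCMLocal_iff, hp]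
  refine le_antisymm (hp ▸ depth_le_height R p) ?_
  have hpne : p ≠ ⊥ := by
    intro hbot
    rw [hbot, Ideal.height_eq_zero_iff_eq_bot.mpr rfl] at hp
    exact zero_ne_one hp
  obtain ⟨x, hxp, hx0⟩ : ∃ x ∈ p, x ≠ 0 := by
    by_contra hcon
    push Not at hcon
    exact hpne (eq_bot_iff.mpr fun x hx => (Ideal.mem_bot).mpr (hcon x hx))
  haveI : IsDomain (Localization.AtPrime p) :=
    IsLocalization.isDomain_localization (le_nonZeroDivisors_of_noZeroDivisors
      (fun h0 => h0 (Ideal.zero_mem p)) : p.primeCompl ≤ nonZeroDivisors R)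
  let y := algebraMap R (Localization.AtPrime p) x
  have hy0 : y ≠ 0 := by
    intro h0
    exact hx0 ((IsLocalization.injective (Localization.AtPrime p)
      (le_nonZeroDivisors_of_noZeroDivisors (fun h0 => h0 (Ideal.zero_mem p)) :
        p.primeCompl ≤ nonZeroDivisors R)) (h0.trans (map_zero _).symm))
  have hym : y ∈ maximalIdeal (Localization.AtPrime p) := by
    rw [← Localization.AtPrime.map_eq_maximalIdeal]
    exact Ideal.mem_map_of_mem _ hxp
  have hreg : RingTheory.Sequence.IsWeaklyRegular (Localization.AtPrime p) [y] := by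
    rw [RingTheory.Sequence.isWeaklyRegular_singleton_iff]
    exact (IsRegular.of_ne_zero hy0).isSMulRegular
  have := Groth.Agent.Lib.Helper29.DepthLib.length_le_idealDepth
    (maximalIdeal (Localization.AtPrime p)) (Localization.AtPrime p) hreg (by simpa using hym)
  have h2 : ((([y] : List (Localization.AtPrime p)).length : ℕ) : ℕ∞) = 1 := by simp
  rw [h2] at this
  exact this

end Domain

section Complete

variable (S : Type u) [CommRing S] [IsNoetherianRing S] [IsLocalRing S]
  [IsAdicComplete (maximalIdeal S) S]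

/-- the CM locus of a complete Noetherian local ring is open -/
theorem isOpen_CM_locus_of_complete :
    IsOpen {q : PrimeSpectrum S |
      LocCoh.IsCohenMacaulayLocalRing (Localization.AtPrime q.asIdeal)} := by
  obtain ⟨P, _, hP, f, hf⟩ := Groth.Agent.Lib.Helper15.CompleteUCat.exists_regular_surjective S
  haveI : IsRegularRing P :=
    Groth.Agent.Lib.Helper15.CompleteUCat.isRegularRing_of_isRegularLocalRing P
  letI : Algebra P S := f.toAlgebra
  exact Groth.Agent.S2703.isOpen_CM_locus_of_quotient_regular P S hf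

/-- the CM locus is stable under generization -/
theorem isCMLocal_of_le {q q' : Ideal S} [q.IsPrime] [q'.IsPrime] (hle : q ≤ q')
    (h : LocCoh.IsCohenMacaulayLocalRing (Localization.AtPrime q')) :
    LocCoh.IsCohenMacaulayLocalRing (Localization.AtPrime q) := by
  have hopen := isOpen_CM_locus_of_complete S
  have hspec : (⟨q, inferInstance⟩ : PrimeSpectrum S) ⤳ ⟨q', inferInstance⟩ :=
    (PrimeSpectrum.le_iff_specializes _ _).mp hle
  exact hspec.mem_open hopen h

end Complete

section LemmaD

variable (R : Type u) [CommRing R] [IsDomain R] [IsNoetherianRing R] [IsLocalRing R]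
  [IsAdicComplete (maximalIdeal R) R]
  (S : Type u) [CommRing S] [IsNoetherianRing S] [IsLocalRing S]
  [IsAdicComplete (maximalIdeal S) S]
  [Algebra R S] [IsLocalHom (algebraMap R S)] [Module.Flat R S]
  [hres : Module.Finite R (ResidueField S)]

theorem liesOver_maximalIdeal (R S : Type*) [CommRing R] [CommRing S] [IsLocalRing R]
    [IsLocalRing S] [Algebra R S] [IsLocalHom (algebraMap R S)] :
    (maximalIdeal S).LiesOver (maximalIdeal R) :=
  ⟨(IsLocalRing.maximalIdeal_comap (algebraMap R S)).symm⟩

include hres in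
/-- **key step**: if the fibres over all nonzero primes of the complete local domain `R` are CM,
so is the generic fibre. -/
theorem generic_fib_eq (hm : maximalIdeal R ≠ ⊥)
    (hIH : ∀ (P : Ideal R) [P.IsPrime], P ≠ ⊥ → ∀ (q' : Ideal S) [q'.IsPrime] [q'.LiesOver P],
      fibDim P q' = fibDepth P q')
    (q : Ideal S) [q.IsPrime] [q.LiesOver (⊥ : Ideal R)] :
    fibDim (⊥ : Ideal R) q = fibDepth (⊥ : Ideal R) q := by
  apply fib_eq_of_isCMLocal
  suffices h : ∃ (q' : Ideal S) (_ : q'.IsPrime), q ≤ q' ∧
      LocCoh.IsCohenMacaulayLocalRing (Localization.AtPrime q') by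
    obtain ⟨q', hq', hle, hCM⟩ := h
    exact isCMLocal_of_le S hle hCM
  have hopenR := isOpen_CM_locus_of_complete R
  have hbot : (⟨⊥, Ideal.isPrime_bot⟩ : PrimeSpectrum R) ∈
      {p : PrimeSpectrum R | LocCoh.IsCohenMacaulayLocalRing (Localization.AtPrime p.asIdeal)} :=
    isCMLocal_bot R
  obtain ⟨_, ⟨g, rfl⟩, hgmem, hgsub⟩ :=
    PrimeSpectrum.isTopologicalBasis_basic_opens.exists_subset_of_mem_open hbot hopenR
  have hg0 : g ≠ 0 := by
    rintro rfl
    exact hgmem (Ideal.zero_mem _)
  by_cases hcase : ringKrullDim R = 1 ∨ g ∉ maximalIdeal R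
  · have hmCM : LocCoh.IsCohenMacaulayLocalRing (Localization.AtPrime (maximalIdeal R)) := by
      rcases hcase with h1 | h2
      · apply isCMLocal_of_height_eq_one
        have := IsLocalRing.maximalIdeal_height_eq_ringKrullDim (R := R)
        rw [h1] at this
        exact_mod_cast this
      · exact hgsub (show (⟨maximalIdeal R, inferInstance⟩ : PrimeSpectrum R) ∈
          (PrimeSpectrum.basicOpen g : Set (PrimeSpectrum R)) from h2)
    haveI := liesOver_maximalIdeal R S
    exact ⟨maximalIdeal S, inferInstance, le_maximalIdeal Ideal.IsPrime.ne_top',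
      isCMLocal_of_fib_eq (maximalIdeal R) (maximalIdeal S) (hIH _ hm _) hmCM⟩
  · push Not at hcase
    obtain ⟨hd, hgm⟩ := hcase
    have hq0 : q.comap (algebraMap R S) = ⊥ :=
      (Ideal.LiesOver.over (p := (⊥ : Ideal R)) (P := q)).symm
    obtain ⟨q', hq'p, hle, hgq', hne⟩ := exists_prime_ge_comap_ne_bot R S hd q hq0 g hg0 hgm
    haveI := hq'p
    haveI : q'.LiesOver (q'.comap (algebraMap R S)) := ⟨rfl⟩
    have hCM : LocCoh.IsCohenMacaulayLocalRing
        (Localization.AtPrime (q'.comap (algebraMap R S))) :=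
      hgsub (show (⟨q'.comap (algebraMap R S), inferInstance⟩ : PrimeSpectrum R) ∈
        (PrimeSpectrum.basicOpen g : Set (PrimeSpectrum R)) from hgq')
    exact ⟨q', hq'p, hle, isCMLocal_of_fib_eq _ q' (hIH _ hne q') hCM⟩

end LemmaD

end Groth.Agent.Lib.Helper88.CMLift
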