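import Groth.Prelude.Def_Found
import Groth.Agent.Lib.Helper88.CMLift2
import Groth.Agent.Lib.Helper83.AdicExt
import Groth.Agent.Lib.Helper49.CMQuot
import Groth.Agent.Lib.Helper33.CMComp
import Groth.Agent.Lib.Helper29.CodepthOpen
import Groth.Agent.Lib.Helper88.AnUnram2
import Mathlib

/-!
# Cohen–Macaulay fibres: the complete case (EGA IV 7.5.1 for `P` = CM)
-/

universe u

namespace Groth.Agent.Lib.Helper88.CMLift

open IsLocalRing Groth.Agent.Lib.Helper49 Groth.Agent.Lib.Helper49.FibreSk
  Groth.Agent.Lib.Helper49.CMFibre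

section QuotSetup

variable (R : Type u) [CommRing R] [IsNoetherianRing R] [IsLocalRing R]
  (S : Type u) [CommRing S] [IsNoetherianRing S] [IsLocalRing S]
  [Algebra R S] [IsLocalHom (algebraMap R S)]
  (P : Ideal R)

theorem maximalIdeal_quotient (A : Type*) [CommRing A] [IsLocalRing A] (I : Ideal A)
    [IsLocalRing (A ⧸ I)] (hI : I ≠ ⊤) :
    maximalIdeal (A ⧸ I) = (maximalIdeal A).map (Ideal.Quotient.mk I) := by
  have hmax : ((maximalIdeal A).map (Ideal.Quotient.mk I)).IsMaximal :=
    Ideal.IsMaximal.map_of_surjective_of_ker_le Ideal.Quotient.mk_surjective (by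
      rw [Ideal.mk_ker]
      exact IsLocalRing.le_maximalIdeal hI)
  exact (IsLocalRing.eq_maximalIdeal hmax).symm

theorem isLocalRing_quotient (A : Type*) [CommRing A] [IsLocalRing A] (I : Ideal A) (hI : I ≠ ⊤) :
    IsLocalRing (A ⧸ I) := by
  haveI : Nontrivial (A ⧸ I) := Ideal.Quotient.nontrivial_iff.mpr hI
  exact IsLocalRing.of_surjective' (Ideal.Quotient.mk I) Ideal.Quotient.mk_surjective

theorem isAdicComplete_quotient (A : Type u) [CommRing A] [IsLocalRing A] [IsNoetherianRing A]
    [IsAdicComplete (maximalIdeal A) A] (I : Ideal A)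
    [IsLocalRing (A ⧸ I)] (hI : I ≠ ⊤) : IsAdicComplete (maximalIdeal (A ⧸ I)) (A ⧸ I) := by
  rw [maximalIdeal_quotient A I hI]
  exact Groth.Agent.Lib.Helper83.isAdicComplete_quotient_of_isNoetherianRing _ I

theorem map_ne_top (hP : P ≠ ⊤) : P.map (algebraMap R S) ≠ ⊤ := by
  intro h
  have h1 : P.map (algebraMap R S) ≤ maximalIdeal S :=
    (Ideal.map_mono (le_maximalIdeal hP)).trans (IsLocalRing.map_maximalIdeal_le (algebraMap R S))
  rw [h] at h1
  exact (maximalIdeal.isMaximal S).ne_top (top_le_iff.mp h1)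

theorem isLocalHom_quotient [IsLocalRing (R ⧸ P)] [IsLocalRing (S ⧸ P.map (algebraMap R S))]
    (hP : P ≠ ⊤) :
    IsLocalHom (algebraMap (R ⧸ P) (S ⧸ P.map (algebraMap R S))) := by
  refine ((IsLocalRing.local_hom_TFAE _).out 2 0).mp ?_
  rw [maximalIdeal_quotient R P hP, maximalIdeal_quotient S _ (map_ne_top R S P hP), Ideal.map_map]
  have hcomm : (algebraMap (R ⧸ P) (S ⧸ P.map (algebraMap R S))).comp (Ideal.Quotient.mk P) =
      (Ideal.Quotient.mk (P.map (algebraMap R S))).comp (algebraMap R S) := by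
    ext x
    rfl
  rw [hcomm, ← Ideal.map_map]
  exact Ideal.map_mono (IsLocalRing.map_maximalIdeal_le (algebraMap R S))

theorem flat_quotient [Module.Flat R S] :
    Module.Flat (R ⧸ P) (S ⧸ P.map (algebraMap R S)) :=
  Module.Flat.of_linearEquiv
    (Algebra.TensorProduct.quotIdealMapEquivQuotTensor S P).toLinearEquiv

theorem finite_residueField_quotient [IsLocalRing (S ⧸ P.map (algebraMap R S))]
    [hres : Module.Finite R (ResidueField S)] (hP : P ≠ ⊤) :
    Module.Finite (R ⧸ P) (ResidueField (S ⧸ P.map (algebraMap R S))) := by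
  set I := P.map (algebraMap R S) with hI
  have hcomap : maximalIdeal S ≤ (maximalIdeal (S ⧸ I)).comap (Ideal.Quotient.mkₐ R I) := by
    rw [maximalIdeal_quotient S I (map_ne_top R S P hP)]
    exact Ideal.le_comap_map
  let f : S ⧸ maximalIdeal S →ₐ[R] (S ⧸ I) ⧸ maximalIdeal (S ⧸ I) :=
    Ideal.quotientMapₐ (maximalIdeal (S ⧸ I)) (Ideal.Quotient.mkₐ R I) hcomap
  have hf : Function.Surjective f :=
    Ideal.quotientMap_surjective (H := hcomap) (Ideal.Quotient.mk_surjective)
  haveI : Module.Finite R (S ⧸ maximalIdeal S) := hres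
  haveI h2 : Module.Finite R (ResidueField (S ⧸ I)) :=
    Module.Finite.of_surjective (M := S ⧸ maximalIdeal S)
      (P := (S ⧸ I) ⧸ maximalIdeal (S ⧸ I)) f.toLinearMap hf
  exact Module.Finite.of_restrictScalars_finite R (R ⧸ P) (ResidueField (S ⧸ I))

end QuotSetup

section T0

variable {R S : Type u} [CommRing R] [CommRing S] [IsNoetherianRing R] [IsNoetherianRing S]
  [Algebra R S] (P : Ideal R) (Q : Ideal (S ⧸ P.map (algebraMap R S))) [Q.IsPrime]

/-- the fibre local ring of `R ⧸ P → S ⧸ PS` over `0` is the fibre local ring of `R → S` over `P` -/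
noncomputable def fibLocEquiv :
    FibLoc (⊥ : Ideal (R ⧸ P)) Q ≃+*
      FibLoc P (Q.comap (Ideal.Quotient.mk (P.map (algebraMap R S)))) :=
  have hJ : ((⊥ : Ideal (R ⧸ P)).map (algebraMap (R ⧸ P) (S ⧸ P.map (algebraMap R S)))).map
      (algebraMap (S ⧸ P.map (algebraMap R S)) (Localization.AtPrime Q)) = ⊥ := by
    rw [Ideal.map_bot, Ideal.map_bot]
  ((Ideal.quotEquivOfEq hJ).trans (RingEquiv.quotientBot _)).trans
    (CMQuot.localizationQuotientEquiv (P.map (algebraMap R S)) Q)

theorem fib_eq_of_quotient [Q.LiesOver (⊥ : Ideal (R ⧸ P))]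
    [(Q.comap (Ideal.Quotient.mk (P.map (algebraMap R S)))).LiesOver P]
    (h : fibDim (⊥ : Ideal (R ⧸ P)) Q = fibDepth (⊥ : Ideal (R ⧸ P)) Q) :
    fibDim P (Q.comap (Ideal.Quotient.mk (P.map (algebraMap R S)))) =
      fibDepth P (Q.comap (Ideal.Quotient.mk (P.map (algebraMap R S)))) := by
  haveI := isLocalRing_fibLoc (⊥ : Ideal (R ⧸ P)) Q
  haveI := isLocalRing_fibLoc P (Q.comap (Ideal.Quotient.mk (P.map (algebraMap R S))))
  have e := fibLocEquiv P Q
  have h1 : fibDepth (⊥ : Ideal (R ⧸ P)) Q =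
      fibDepth P (Q.comap (Ideal.Quotient.mk (P.map (algebraMap R S)))) := by
    unfold fibDepth
    exact Serre.depth_eq_of_ringEquiv e
  have h2 : fibDim (⊥ : Ideal (R ⧸ P)) Q =
      fibDim P (Q.comap (Ideal.Quotient.mk (P.map (algebraMap R S)))) := by
    have h3 := ringKrullDim_eq_of_ringEquiv e
    rw [← coe_fibDim, ← coe_fibDim] at h3
    exact WithBot.coe_inj.mp h3
  rw [← h1, ← h2, h]

end T0

section DC

/-- the domain case of the theorem for base rings of dimension `≤ n` -/
def DCProp (n : ℕ) : Prop :=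
  ∀ (R S F : Type u) [CommRing R] [IsDomain R] [IsNoetherianRing R] [IsLocalRing R]
    [IsAdicComplete (maximalIdeal R) R] [CommRing S] [IsNoetherianRing S] [IsLocalRing S]
    [IsAdicComplete (maximalIdeal S) S] [Algebra R S] [IsLocalHom (algebraMap R S)]
    [Module.Flat R S] [Module.Finite R (ResidueField S)] [CommRing F] [IsLocalRing F]
    (_ : LocCoh.IsCohenMacaulayLocalRing F) (π : S →+* F) (_ : Function.Surjective π)
    (_ : RingHom.ker π = (maximalIdeal R).map (algebraMap R S)),
    ringKrullDim R ≤ n → ∀ (q : Ideal S) [q.IsPrime] [q.LiesOver (⊥ : Ideal R)],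
      fibDim (⊥ : Ideal R) q = fibDepth (⊥ : Ideal R) q

/-- passing to the quotient by a prime `P` of the base -/
theorem fib_eq_of_DCProp (m : ℕ) (H : DCProp.{u} m)
    (R S F : Type u) [CommRing R] [IsNoetherianRing R] [IsLocalRing R]
    [IsAdicComplete (maximalIdeal R) R] [CommRing S] [IsNoetherianRing S] [IsLocalRing S]
    [IsAdicComplete (maximalIdeal S) S] [Algebra R S] [IsLocalHom (algebraMap R S)]
    [Module.Flat R S] [Module.Finite R (ResidueField S)] [CommRing F] [IsLocalRing F]
    (hF : LocCoh.IsCohenMacaulayLocalRing F) (π : S →+* F) (hπ : Function.Surjective π)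
    (hker : RingHom.ker π = (maximalIdeal R).map (algebraMap R S))
    (P : Ideal R) [hPp : P.IsPrime] (hdim : ringKrullDim (R ⧸ P) ≤ m)
    (q' : Ideal S) [q'.IsPrime] [hlo : q'.LiesOver P] :
    fibDim P q' = fibDepth P q' := by
  have hP : P ≠ ⊤ := hPp.ne_top
  have hIne := map_ne_top R S P hP
  haveI : IsLocalRing (R ⧸ P) := isLocalRing_quotient R P hP
  haveI : IsLocalRing (S ⧸ P.map (algebraMap R S)) := isLocalRing_quotient S _ hIne
  haveI := isAdicComplete_quotient R P hP
  haveI := isAdicComplete_quotient S _ hIne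
  haveI := isLocalHom_quotient R S P hP
  haveI := flat_quotient R S P
  haveI := finite_residueField_quotient R S P hP
  haveI : IsDomain (R ⧸ P) := Ideal.Quotient.isDomain P
  have hIle : P.map (algebraMap R S) ≤ RingHom.ker π := by
    rw [hker]
    exact Ideal.map_mono (le_maximalIdeal hP)
  let π' : S ⧸ P.map (algebraMap R S) →+* F :=
    Ideal.Quotient.lift (P.map (algebraMap R S)) π (fun a ha => hIle ha)
  have hπ' : Function.Surjective π' := Ideal.Quotient.lift_surjective_of_surjective _ _ hπ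
  have hker' : RingHom.ker π' = (maximalIdeal (R ⧸ P)).map
      (algebraMap (R ⧸ P) (S ⧸ P.map (algebraMap R S))) := by
    rw [maximalIdeal_quotient R P hP, Ideal.map_map]
    have hcomm : (algebraMap (R ⧸ P) (S ⧸ P.map (algebraMap R S))).comp (Ideal.Quotient.mk P) =
        (Ideal.Quotient.mk (P.map (algebraMap R S))).comp (algebraMap R S) := by
      ext x
      rfl
    rw [hcomm, ← Ideal.map_map, ← hker]
    exact Ideal.ker_quotient_lift π hIle
  have hIq' : P.map (algebraMap R S) ≤ q' := by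
    rw [Ideal.map_le_iff_le_comap]
    exact le_of_eq hlo.over
  let Q : Ideal (S ⧸ P.map (algebraMap R S)) :=
    q'.map (Ideal.Quotient.mk (P.map (algebraMap R S)))
  haveI : Q.IsPrime := Ideal.map_isPrime_of_surjective Ideal.Quotient.mk_surjective
    (by rw [Ideal.mk_ker]; exact hIq')
  have hcomap : Q.comap (Ideal.Quotient.mk (P.map (algebraMap R S))) = q' := by
    rw [Ideal.comap_map_of_surjective' _ Ideal.Quotient.mk_surjective, Ideal.mk_ker,
      sup_eq_left.mpr hIq']
  haveI : Q.LiesOver (⊥ : Ideal (R ⧸ P)) := by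
    refine ⟨?_⟩
    ext x
    obtain ⟨r, rfl⟩ := Ideal.Quotient.mk_surjective x
    rw [Ideal.mem_bot, Ideal.Quotient.eq_zero_iff_mem, Ideal.under_def, Ideal.mem_comap]
    change r ∈ P ↔ Ideal.Quotient.mk (P.map (algebraMap R S)) (algebraMap R S r) ∈ Q
    rw [← Ideal.mem_comap, hcomap, hlo.over]
    rfl
  have key := H (R ⧸ P) (S ⧸ P.map (algebraMap R S)) F hF π' hπ' hker' hdim Q
  have tr : ∀ (q₁ : Ideal S) [q₁.IsPrime] [q₁.LiesOver P], q₁ = q' →
      fibDim P q₁ = fibDepth P q₁ → fibDim P q' = fibDepth P q' := by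
    intro q₁ _ _ h1
    subst h1
    exact id
  haveI : (Q.comap (Ideal.Quotient.mk (P.map (algebraMap R S)))).LiesOver P := by
    rw [hcomap]
    exact hlo
  exact tr _ hcomap (fib_eq_of_quotient P Q key)

/-- a local ring whose maximal ideal is zero is Cohen–Macaulay -/
theorem isCMLocal_of_maximalIdeal_eq_bot (R : Type u) [CommRing R] [IsNoetherianRing R]
    [IsLocalRing R] (hm : maximalIdeal R = ⊥) : LocCoh.IsCohenMacaulayLocalRing R := by
  have h0 : ringKrullDim R = 0 := by
    rw [← IsLocalRing.maximalIdeal_height_eq_ringKrullDim, hm]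
    haveI hbp : (⊥ : Ideal R).IsPrime := hm ▸ (inferInstance : (maximalIdeal R).IsPrime)
    have : (⊥ : Ideal R).height = 0 := by
      rw [Ideal.height_eq_zero_iff]
      exact ⟨⟨hbp, bot_le⟩, fun J _ _ => bot_le⟩
    rw [this]
    rfl
  have hle := Groth.Agent.Lib.Helper29.DepthLib.depth_le_supportDim (A := R) R
  rw [Module.supportDim_self_eq_ringKrullDim, h0] at hle
  refine ⟨?_⟩
  rw [Module.supportDim_self_eq_ringKrullDim, h0]
  have h1 : LocCoh.depth R R = 0 := by
    have : ((LocCoh.depth R R : ℕ∞) : WithBot ℕ∞) ≤ ((0 : ℕ∞) : WithBot ℕ∞) := hle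
    exact le_antisymm (WithBot.coe_le_coe.mp this) zero_le
  rw [h1]
  rfl

theorem dcProp : ∀ n : ℕ, DCProp.{u} n := by
  intro n
  induction n using Nat.strong_induction_on with
  | _ n ih =>
    intro R S F _ _ _ _ _ _ _ _ _ _ _ _ _ _ _ hF π hπ hker hdim q _ _
    by_cases hm : maximalIdeal R = ⊥
    · have hR := isCMLocal_of_maximalIdeal_eq_bot R hm
      haveI hS : LocCoh.IsCohenMacaulayLocalRing S :=
        (Groth.Agent.Lib.Helper33.CMComp.cm_flat_local_iff' R S F π hπ hker).mpr ⟨hR, hF⟩
      haveI := Groth.Agent.Lib.Helper29.CodepthOpen.isCohenMacaulayRing_of_local S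
      exact fib_eq_of_isCMLocal (⊥ : Ideal R) q
        (LocCoh.IsCohenMacaulayRing.isCohenMacaulayLocalRing_localization q)
    · apply generic_fib_eq R S hm
      intro P _ hPne q' _ _
      obtain ⟨x, hxP, hx0⟩ : ∃ x ∈ P, x ≠ 0 := by
        by_contra hcon
        push Not at hcon
        exact hPne (eq_bot_iff.mpr fun x hx => (Ideal.mem_bot).mpr (hcon x hx))
      have hle : Ideal.span {x} ≤ P := (Ideal.span_singleton_le_iff_mem _).mpr hxP
      have hd1 : ringKrullDim (R ⧸ P) + 1 ≤ n := by
        calc ringKrullDim (R ⧸ P) + 1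
            ≤ ringKrullDim (R ⧸ Ideal.span {x}) + 1 := by
              gcongr
              exact ringKrullDim_le_of_surjective (Ideal.Quotient.factor hle)
                (Ideal.Quotient.factor_surjective hle)
          _ ≤ ringKrullDim R :=
              ringKrullDim_quotient_succ_le_of_nonZeroDivisor (mem_nonZeroDivisors_of_ne_zero hx0)
          _ ≤ n := hdim
      haveI : Nontrivial (R ⧸ P) := Ideal.Quotient.nontrivial_iff.mpr (Ideal.IsPrime.ne_top')
      obtain ⟨m, hm', hdm⟩ :=
        AnUnram2.exists_lt_of_add_one_le ringKrullDim_nonneg_of_nontrivial hd1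
      exact fib_eq_of_DCProp m (ih m hm') R S F hF π hπ hker P hdm q'

/-- **EGA IV 7.5.1 for the property CM**: a flat local homomorphism `R → S` of complete
Noetherian local rings, with residue field of `S` finite over `R`, whose closed fibre is
Cohen–Macaulay has all its fibres Cohen–Macaulay. -/
theorem complete_case (R S F : Type u) [CommRing R] [IsNoetherianRing R] [IsLocalRing R]
    [IsAdicComplete (maximalIdeal R) R] [CommRing S] [IsNoetherianRing S] [IsLocalRing S]
    [IsAdicComplete (maximalIdeal S) S] [Algebra R S] [IsLocalHom (algebraMap R S)]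
    [Module.Flat R S] [Module.Finite R (ResidueField S)] [CommRing F] [IsLocalRing F]
    (hF : LocCoh.IsCohenMacaulayLocalRing F) (π : S →+* F) (hπ : Function.Surjective π)
    (hker : RingHom.ker π = (maximalIdeal R).map (algebraMap R S))
    (p : Ideal R) [p.IsPrime] (q : Ideal S) [q.IsPrime] [q.LiesOver p] :
    fibDim p q = fibDepth p q := by
  obtain ⟨n, hn⟩ := AnUnram2.exists_nat_ge_of_lt_top (ringKrullDim_lt_top (R := R ⧸ p))
  exact fib_eq_of_DCProp n (dcProp n) R S F hF π hπ hker p hn q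

end DC

end Groth.Agent.Lib.Helper88.CMLift
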