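import Groth.Prelude.Def_W4c5adicflatcomplDec
import Mathlib.RingTheory.Filtration
import Mathlib.RingTheory.Finiteness.Defs
import Mathlib.RingTheory.Finiteness.Ideal

/-!
Helper lemmas on `W4c5adicflatcompl.decaying` (helper88).
-/

set_option autoImplicit false

namespace Groth.Agent.Lib.Helper88

open W4c5adicflatcompl

variable {A : Type*} [CommRing A] (I : Ideal A) (Z : Type*) (N : Type*)
  [AddCommGroup N] [Module A N]

/-- Elements of `span (range a) • P` are finite sums `∑ a i • c i` with `c i ∈ P`. -/
theorem exists_fin_sum_of_mem_smul {r : ℕ} (a : Fin r → A) (P : Submodule A N) (x : N)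
    (hx : x ∈ (Ideal.span (Set.range a)) • P) :
    ∃ c : Fin r → N, (∀ i, c i ∈ P) ∧ x = ∑ i, a i • c i := by
  refine Submodule.smul_induction_on hx ?_ ?_
  · intro b hb p hp
    obtain ⟨d, hd⟩ := (Ideal.mem_span_range_iff_exists_fun).mp hb
    refine ⟨fun i => d i • p, fun i => P.smul_mem _ hp, ?_⟩
    rw [← hd, Finset.sum_smul]
    refine Finset.sum_congr rfl fun i _ => ?_
    rw [smul_smul, mul_comm]
  · rintro x y ⟨c, hc, rfl⟩ ⟨c', hc', rfl⟩
    refine ⟨fun i => c i + c' i, fun i => P.add_mem (hc i) (hc' i), ?_⟩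
    rw [← Finset.sum_add_distrib]
    refine Finset.sum_congr rfl fun i _ => ?_
    rw [smul_add]

theorem pow_smul_top_anti {m n : ℕ} (h : m ≤ n) :
    (I ^ n • ⊤ : Submodule A N) ≤ I ^ m • ⊤ :=
  Submodule.smul_mono (Ideal.pow_le_pow_right h) le_rfl

theorem pow_add_smul_top (n k : ℕ) :
    (I ^ (n + k) • ⊤ : Submodule A N) = I ^ n • (I ^ k • ⊤ : Submodule A N) := by
  rw [pow_add, Submodule.mul_smul]

variable {I Z N}

/-- Values of elements of `I ^ n • decaying` lie in `I ^ n • ⊤`. -/
theorem apply_mem_of_mem_smul_top {n : ℕ} {f : decaying I Z N}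
    (hf : f ∈ (I ^ n • ⊤ : Submodule A (decaying I Z N))) (z : Z) :
    (f : Z → N) z ∈ (I ^ n • ⊤ : Submodule A N) := by
  refine Submodule.smul_induction_on hf ?_ ?_
  · intro a ha g _
    exact Submodule.smul_mem_smul ha Submodule.mem_top
  · intro x y hx hy
    exact Submodule.add_mem _ hx hy

/-- Key lemma: over a module which is `I`-adically separated, with `I ^ n` finitely generated,
a decaying function with all values in `I ^ n • ⊤` lies in `I ^ n • decaying`. -/
theorem mem_smul_top_of_forall_apply_mem {n : ℕ} (hfg : (I ^ n).FG)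
    (hH : (⨅ k : ℕ, I ^ k • ⊤ : Submodule A N) = ⊥) (f : decaying I Z N)
    (hf : ∀ z, (f : Z → N) z ∈ (I ^ n • ⊤ : Submodule A N)) :
    f ∈ (I ^ n • ⊤ : Submodule A (decaying I Z N)) := by
  classical
  obtain ⟨r, a, ha⟩ := Submodule.fg_iff_exists_fin_generating_family.mp hfg
  have ha' : Ideal.span (Set.range a) = I ^ n := ha
  have hai : ∀ i, a i ∈ I ^ n := fun i => by
    rw [← ha']; exact Ideal.subset_span (Set.mem_range_self i)
  -- pointwise decomposition
  have hex : ∀ z : Z, ∃ c : Fin r → N, (f : Z → N) z = ∑ i, a i • c i ∧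
      ∀ k : ℕ, (f : Z → N) z ∈ (I ^ (n + k) • ⊤ : Submodule A N) →
        ∀ i, c i ∈ (I ^ k • ⊤ : Submodule A N) := by
    intro z
    by_cases h0 : (f : Z → N) z = 0
    · exact ⟨fun _ => 0, by simp [h0], fun k _ i => Submodule.zero_mem _⟩
    · have hK : ∃ K : ℕ, (f : Z → N) z ∉ (I ^ (n + K) • ⊤ : Submodule A N) := by
        by_contra hcon
        push Not at hcon
        apply h0
        have : (f : Z → N) z ∈ (⨅ k : ℕ, I ^ k • ⊤ : Submodule A N) := by
          rw [Submodule.mem_iInf]
          intro k
          exact pow_smul_top_anti I N (Nat.le_add_left k n) (hcon k)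
        rw [hH] at this
        exact (Submodule.mem_bot A).mp this
      let K := Nat.find hK
      have hKspec : (f : Z → N) z ∉ (I ^ (n + K) • ⊤ : Submodule A N) := Nat.find_spec hK
      have hKpos : 0 < K := by
        rcases Nat.eq_zero_or_pos K with h | h
        · exfalso
          apply hKspec
          rw [h, Nat.add_zero]
          exact hf z
        · exact h
      have hpred : (f : Z → N) z ∈ (I ^ (n + (K - 1)) • ⊤ : Submodule A N) := by
        by_contra hc
        have := Nat.find_min' hK hc
        omega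
      rw [pow_add_smul_top, ← ha'] at hpred
      obtain ⟨c, hc, hsum⟩ := exists_fin_sum_of_mem_smul N a _ _ hpred
      refine ⟨c, hsum, fun k hk i => ?_⟩
      have hlt : k < K := by
        by_contra hge
        push Not at hge
        exact hKspec (pow_smul_top_anti I N (by omega) hk)
      exact pow_smul_top_anti I N (by omega) (hc i)
  choose c hc1 hc2 using hex
  -- the component functions are decaying
  have hdec : ∀ i, (fun z => c z i) ∈ decaying I Z N := by
    intro i k
    refine (f.2 (n + k)).subset ?_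
    intro z hz
    simp only [Set.mem_ofPred_eq] at hz ⊢
    exact fun h => hz (hc2 z k h i)
  have hfeq : f = ∑ i, a i • (⟨fun z => c z i, hdec i⟩ : decaying I Z N) := by
    apply Subtype.ext
    funext z
    rw [hc1 z]
    simp [Finset.sum_apply]
  rw [hfeq]
  exact Submodule.sum_mem _ fun i _ => Submodule.smul_mem_smul (hai i) Submodule.mem_top

theorem mem_smul_top_iff {n : ℕ} (hfg : (I ^ n).FG)
    (hH : (⨅ k : ℕ, I ^ k • ⊤ : Submodule A N) = ⊥) (f : decaying I Z N) :
    f ∈ (I ^ n • ⊤ : Submodule A (decaying I Z N)) ↔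
      ∀ z, (f : Z → N) z ∈ (I ^ n • ⊤ : Submodule A N) :=
  ⟨fun h z => apply_mem_of_mem_smul_top h z, mem_smul_top_of_forall_apply_mem hfg hH f⟩

/-- If `I` is finitely generated and `N` is `I`-adically complete, so is `decaying I Z N`. -/
theorem isAdicComplete_decaying (hI : I.FG) [IsAdicComplete I N] :
    IsAdicComplete I (decaying I Z N) := by
  have hH : (⨅ k : ℕ, I ^ k • ⊤ : Submodule A N) = ⊥ :=
    IsHausdorff.iInf_pow_smul (inferInstance : IsHausdorff I N)
  have hfg : ∀ n : ℕ, (I ^ n).FG := fun n => Ideal.FG.pow hI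
  refine { haus' := ?_, prec' := ?_ }
  · intro f hf
    apply Subtype.ext
    funext z
    apply (inferInstance : IsHausdorff I N).haus
    intro n
    rw [SModEq.sub_mem, sub_zero]
    have h1 := hf n
    rw [SModEq.sub_mem, sub_zero] at h1
    exact apply_mem_of_mem_smul_top h1 z
  · intro F hF
    have hpt : ∀ z : Z, ∃ L : N, ∀ n, (F n : Z → N) z ≡ L [SMOD (I ^ n • ⊤ : Submodule A N)] := by
      intro z
      apply (inferInstance : IsPrecomplete I N).prec'
      intro m n hmn
      have h1 := hF hmn
      rw [SModEq.sub_mem] at h1 ⊢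
      exact apply_mem_of_mem_smul_top h1 z
    choose L hL using hpt
    have hLdec : L ∈ decaying I Z N := by
      intro n
      refine ((F n).2 n).subset ?_
      intro z hz
      simp only [Set.mem_ofPred_eq] at hz ⊢
      intro h
      apply hz
      have h2 := hL z n
      rw [SModEq.sub_mem] at h2
      have : L z = (F n : Z → N) z - ((F n : Z → N) z - L z) := by abel
      rw [this]
      exact Submodule.sub_mem _ h h2
    refine ⟨⟨L, hLdec⟩, fun n => ?_⟩
    rw [SModEq.sub_mem]
    apply mem_smul_top_of_forall_apply_mem (hfg n) hH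
    intro z
    have h2 := hL z n
    rw [SModEq.sub_mem] at h2
    exact h2

end Groth.Agent.Lib.Helper88
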