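import Groth.Agent.Lib.Helper88.Decaying

/-!
More helper lemmas on `W4c5adicflatcompl.decaying` (helper88).
-/

set_option autoImplicit false

namespace Groth.Agent.Lib.Helper88

open W4c5adicflatcompl

variable {A : Type*} [CommRing A] {I : Ideal A} {Z : Type*} {N : Type*}
  [AddCommGroup N] [Module A N]

/-- Linear maps preserve decaying functions. -/
theorem map_decaying {N' : Type*} [AddCommGroup N'] [Module A N'] (ψ : N →ₗ[A] N')
    {F : Z → N} (hF : F ∈ decaying I Z N) : (fun z => ψ (F z)) ∈ decaying I Z N' := by
  intro n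
  refine (hF n).subset ?_
  intro z hz
  simp only [Set.mem_ofPred_eq] at hz ⊢
  intro h
  apply hz
  have h1 : (I ^ n • ⊤ : Submodule A N).map ψ ≤ I ^ n • ⊤ := by
    rw [Submodule.map_smul'']
    exact Submodule.smul_mono le_rfl le_top
  exact h1 (Submodule.mem_map_of_mem h)

/-- Decaying functions lift along surjections from finite modules over a Noetherian
adically complete ring (universe-polymorphic version). -/
theorem exists_decaying_lift [IsNoetherianRing A] [IsAdicComplete I A]
    {M : Type*} {M'' : Type*} [AddCommGroup M] [Module A M]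
    [Module.Finite A M] [AddCommGroup M''] [Module A M''] (φ : M →ₗ[A] M'')
    (hφ : Function.Surjective φ) (g : Z → M'') (hg : g ∈ decaying I Z M'') :
    ∃ f : Z → M, f ∈ decaying I Z M ∧ ∀ z, φ (f z) = g z := by
  classical
  have : Module.Finite A M'' := Module.Finite.of_surjective φ hφ
  have hkrull : (⨅ i : ℕ, I ^ i • ⊤ : Submodule A M'') = ⊥ :=
    Ideal.iInf_pow_smul_eq_bot_of_le_jacobson I (IsAdicComplete.le_jacobson_bot I)
  have hmap : ∀ n : ℕ, (I ^ n • ⊤ : Submodule A M).map φ = I ^ n • ⊤ := by
    intro n
    rw [Submodule.map_smul'', Submodule.map_top, LinearMap.range_eq_top.mpr hφ]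
  have hex : ∀ z : Z, ∃ m : M, φ m = g z ∧
      ∀ n : ℕ, g z ∈ (I ^ n • ⊤ : Submodule A M'') → m ∈ (I ^ n • ⊤ : Submodule A M) := by
    intro z
    by_cases h0 : g z = 0
    · exact ⟨0, by rw [map_zero, h0], fun n _ => Submodule.zero_mem _⟩
    · have hN : ∃ K : ℕ, g z ∉ (I ^ K • ⊤ : Submodule A M'') := by
        by_contra hcon
        push Not at hcon
        apply h0
        have : g z ∈ (⨅ i : ℕ, I ^ i • ⊤ : Submodule A M'') := (Submodule.mem_iInf _).mpr hcon
        rw [hkrull] at this
        exact (Submodule.mem_bot A).mp this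
      let K := Nat.find hN
      have hNspec : g z ∉ (I ^ K • ⊤ : Submodule A M'') := Nat.find_spec hN
      have hNpos : 0 < K := by
        rcases Nat.eq_zero_or_pos K with h | h
        · exfalso
          apply hNspec
          rw [h, pow_zero, Ideal.one_eq_top, Submodule.top_smul]
          exact Submodule.mem_top
        · exact h
      have hpred : g z ∈ (I ^ (K - 1) • ⊤ : Submodule A M'') := by
        by_contra hc
        have := Nat.find_min' hN hc
        omega
      rw [← hmap (K - 1)] at hpred
      obtain ⟨m, hm, hφm⟩ := hpred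
      refine ⟨m, hφm, fun n hn => ?_⟩
      have hlt : n < K := by
        by_contra hge
        push Not at hge
        exact hNspec (pow_smul_top_anti I M'' hge hn)
      exact pow_smul_top_anti I M (by omega) hm
  choose f hf1 hf2 using hex
  refine ⟨f, ?_, hf1⟩
  intro n
  refine (hg n).subset ?_
  intro z hz
  simp only [Set.mem_ofPred_eq] at hz ⊢
  exact fun h => hz (hf2 z n h)

end Groth.Agent.Lib.Helper88
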