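import Groth.Agent.Lib.Helper88.Decaying2

/-!
The `I`-adically convergent sum map `decaying I Z N → M` attached to a family of linear maps
`μ z : N → M` into a complete module (helper88).
-/

set_option autoImplicit false

namespace Groth.Agent.Lib.Helper88

open W4c5adicflatcompl

variable {A : Type*} [CommRing A] {I : Ideal A} {Z : Type*} {N : Type*}
  [AddCommGroup N] [Module A N] {M : Type*} [AddCommGroup M] [Module A M]

theorem map_mem_pow_smul_top (ψ : N →ₗ[A] M) {n : ℕ} {x : N}
    (hx : x ∈ (I ^ n • ⊤ : Submodule A N)) : ψ x ∈ (I ^ n • ⊤ : Submodule A M) := by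
  have h1 : (I ^ n • ⊤ : Submodule A N).map ψ ≤ I ^ n • ⊤ := by
    rw [Submodule.map_smul'']
    exact Submodule.smul_mono le_rfl le_top
  exact h1 (Submodule.mem_map_of_mem hx)

theorem eq_zero_of_forall_mem_pow_smul_top [IsHausdorff I M] (x : M)
    (hx : ∀ n, x ∈ (I ^ n • ⊤ : Submodule A M)) : x = 0 := by
  apply (inferInstance : IsHausdorff I M).haus
  intro n
  rw [SModEq.sub_mem, sub_zero]
  exact hx n

/-- The exceptional finite sets of a decaying function. -/
noncomputable def excSet (g : decaying I Z N) (n : ℕ) : Finset Z := (g.2 n).toFinset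

theorem apply_mem_of_notMem_excSet (g : decaying I Z N) (n : ℕ) (z : Z) (hz : z ∉ excSet g n) :
    (g : Z → N) z ∈ (I ^ n • ⊤ : Submodule A N) := by
  by_contra h
  exact hz ((g.2 n).mem_toFinset.mpr h)

/-- The convergent-sum map. -/
theorem exists_sumMap [IsAdicComplete I M] (μ : Z → (N →ₗ[A] M)) :
    ∃ φ : decaying I Z N →ₗ[A] M, ∀ (g : decaying I Z N) (n : ℕ) (T : Finset Z),
      excSet g n ⊆ T → φ g - (∑ z ∈ T, μ z ((g : Z → N) z)) ∈ (I ^ n • ⊤ : Submodule A M) := by
  classical
  let S : decaying I Z N → ℕ → Finset Z := fun g n => excSet g n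
  have hterm : ∀ (g : decaying I Z N) (n : ℕ) (z : Z), z ∉ S g n →
      μ z ((g : Z → N) z) ∈ (I ^ n • ⊤ : Submodule A M) := by
    intro g n z hz
    exact map_mem_pow_smul_top (μ z) (apply_mem_of_notMem_excSet g n z hz)
  have hsum : ∀ (g : decaying I Z N) (n : ℕ) (T T' : Finset Z), S g n ⊆ T → S g n ⊆ T' →
      (∑ z ∈ T, μ z ((g : Z → N) z)) - (∑ z ∈ T', μ z ((g : Z → N) z)) ∈
        (I ^ n • ⊤ : Submodule A M) := by
    intro g n T T' hT hT'
    have key : ∀ U : Finset Z, S g n ⊆ U →
        (∑ z ∈ U, μ z ((g : Z → N) z)) - (∑ z ∈ S g n, μ z ((g : Z → N) z)) ∈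
          (I ^ n • ⊤ : Submodule A M) := by
      intro U hU
      rw [← Finset.sum_sdiff hU, add_sub_cancel_right]
      refine Submodule.sum_mem _ fun z hz => hterm g n z ?_
      exact (Finset.mem_sdiff.mp hz).2
    have := Submodule.sub_mem _ (key T hT) (key T' hT')
    simpa using this
  have hmono : ∀ (g : decaying I Z N) {m n : ℕ}, m ≤ n → S g m ⊆ S g n := by
    intro g m n hmn z hz
    simp only [S, excSet, Set.Finite.mem_toFinset] at hz ⊢
    intro h
    exact hz (pow_smul_top_anti I N hmn h)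
  have hlim : ∀ g : decaying I Z N, ∃ L : M, ∀ n,
      (∑ z ∈ S g n, μ z ((g : Z → N) z)) ≡ L [SMOD (I ^ n • ⊤ : Submodule A M)] := by
    intro g
    apply (inferInstance : IsPrecomplete I M).prec'
    intro m n hmn
    rw [SModEq.sub_mem]
    exact hsum g m _ _ subset_rfl (hmono g hmn)
  choose L hL using hlim
  have hchar : ∀ (g : decaying I Z N) (n : ℕ) (T : Finset Z), S g n ⊆ T →
      L g - (∑ z ∈ T, μ z ((g : Z → N) z)) ∈ (I ^ n • ⊤ : Submodule A M) := by
    intro g n T hT
    have h1 := hL g n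
    rw [SModEq.sub_mem] at h1
    have h2 := hsum g n _ _ subset_rfl hT
    have : L g - (∑ z ∈ T, μ z ((g : Z → N) z)) =
        -((∑ z ∈ S g n, μ z ((g : Z → N) z)) - L g) +
          ((∑ z ∈ S g n, μ z ((g : Z → N) z)) - (∑ z ∈ T, μ z ((g : Z → N) z))) := by abel
    rw [this]
    exact Submodule.add_mem _ (Submodule.neg_mem _ h1) h2
  have hadd : ∀ g h : decaying I Z N, L (g + h) = L g + L h := by
    intro g h
    rw [← sub_eq_zero]
    apply eq_zero_of_forall_mem_pow_smul_top (I := I)
    intro n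
    let T := S (g + h) n ∪ S g n ∪ S h n
    have h1 := hchar (g + h) n T (fun z hz => by simp [T, hz])
    have h2 := hchar g n T (fun z hz => by simp [T, hz])
    have h3 := hchar h n T (fun z hz => by simp [T, hz])
    have hs : (∑ z ∈ T, μ z (((g + h : decaying I Z N) : Z → N) z)) =
        (∑ z ∈ T, μ z ((g : Z → N) z)) + (∑ z ∈ T, μ z ((h : Z → N) z)) := by
      rw [← Finset.sum_add_distrib]
      refine Finset.sum_congr rfl fun z _ => ?_
      simp
    have : L (g + h) - (L g + L h) =
        (L (g + h) - (∑ z ∈ T, μ z (((g + h : decaying I Z N) : Z → N) z))) -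
          (L g - (∑ z ∈ T, μ z ((g : Z → N) z))) - (L h - (∑ z ∈ T, μ z ((h : Z → N) z))) := by
      rw [hs]; abel
    rw [this]
    exact Submodule.sub_mem _ (Submodule.sub_mem _ h1 h2) h3
  have hsmul : ∀ (a : A) (g : decaying I Z N), L (a • g) = a • L g := by
    intro a g
    rw [← sub_eq_zero]
    apply eq_zero_of_forall_mem_pow_smul_top (I := I)
    intro n
    let T := S (a • g) n ∪ S g n
    have h1 := hchar (a • g) n T (fun z hz => by simp [T, hz])
    have h2 := hchar g n T (fun z hz => by simp [T, hz])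
    have hs : (∑ z ∈ T, μ z (((a • g : decaying I Z N) : Z → N) z)) =
        a • (∑ z ∈ T, μ z ((g : Z → N) z)) := by
      rw [Finset.smul_sum]
      refine Finset.sum_congr rfl fun z _ => ?_
      simp
    have : L (a • g) - a • L g =
        (L (a • g) - (∑ z ∈ T, μ z (((a • g : decaying I Z N) : Z → N) z))) -
          a • (L g - (∑ z ∈ T, μ z ((g : Z → N) z))) := by
      rw [hs, smul_sub]; abel
    rw [this]
    exact Submodule.sub_mem _ h1 (Submodule.smul_mem _ a h2)
  exact ⟨{ toFun := L, map_add' := hadd, map_smul' := hsmul }, fun g n T hT => hchar g n T hT⟩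

end Groth.Agent.Lib.Helper88
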