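import Groth.Agent.Lib.Helper88.Decaying3

/-!
Transport lemmas for `decaying` and adic completeness (helper88).
-/

set_option autoImplicit false

namespace Groth.Agent.Lib.Helper88

open W4c5adicflatcompl

variable {A : Type*} [CommRing A] {I : Ideal A} {Z : Type*} {N : Type*}
  [AddCommGroup N] [Module A N] {N' : Type*} [AddCommGroup N'] [Module A N']

/-- A linear equivalence of value modules induces one on decaying functions. -/
noncomputable def decayingCongr (e : N ≃ₗ[A] N') : decaying I Z N ≃ₗ[A] decaying I Z N' where
  toFun g := ⟨fun z => e ((g : Z → N) z), map_decaying e.toLinearMap g.2⟩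
  invFun g := ⟨fun z => e.symm ((g : Z → N') z), map_decaying e.symm.toLinearMap g.2⟩
  left_inv g := by
    apply Subtype.ext
    funext z
    simp
  right_inv g := by
    apply Subtype.ext
    funext z
    simp
  map_add' g h := by
    apply Subtype.ext
    funext z
    simp
  map_smul' a g := by
    apply Subtype.ext
    funext z
    simp

/-- A retract of an adically complete module is adically complete. -/
theorem isAdicComplete_of_retract {P F : Type*} [AddCommGroup P] [Module A P]
    [AddCommGroup F] [Module A F] [hFc : IsAdicComplete I F]
    (i : P →ₗ[A] F) (r : F →ₗ[A] P) (hri : ∀ x, r (i x) = x) : IsAdicComplete I P := by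
  refine { haus' := ?_, prec' := ?_ }
  · intro x hx
    have h1 : i x = 0 := by
      apply hFc.toIsHausdorff.haus
      intro n
      have h2 := hx n
      rw [SModEq.sub_mem, sub_zero] at h2 ⊢
      exact map_mem_pow_smul_top i h2
    rw [← hri x, h1, map_zero]
  · intro x hx
    obtain ⟨L, hL⟩ := hFc.toIsPrecomplete.prec' (fun k => i (x k)) (by
      intro m n hmn
      have h2 := hx hmn
      rw [SModEq.sub_mem] at h2 ⊢
      rw [← map_sub]
      exact map_mem_pow_smul_top i h2)
    refine ⟨r L, fun n => ?_⟩
    have h3 := hL n
    rw [SModEq.sub_mem] at h3 ⊢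
    have h4 := map_mem_pow_smul_top r h3
    rw [map_sub, hri] at h4
    exact h4

end Groth.Agent.Lib.Helper88
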