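import Groth.Prelude.Def_Found
import Groth.Agent.Lib.Helper88.Japanese10
import Groth.Agent.S7652
import Mathlib

/-!
# Finite subalgebras of a finite field extension and base change (EGA 0_IV 23.2.x)

Let `A` be a domain with fraction field `K`, `K'` a finite extension of `K`, `B` a Noetherian flat
`A`-algebra such that `B/q` is N-2 for all minimal primes `q`. Among the finite sub-`A`-algebras
`C` of `K'` with fraction field `K'`, the reduced rings `(B ⊗ C)_red` are eventually constant.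
-/

universe u

namespace Groth.Agent.Lib.Helper88.FinSubalg

open TensorProduct

section Basic

variable {A K' : Type u} [CommRing A] [IsDomain A] [Field K'] [Algebra A K']

/-- the property of being a finite subalgebra with fraction field `K'` -/
def P (C : Subalgebra A K') : Prop :=
  Module.Finite A C ∧ ∀ x : K', ∃ a b : C, (b : K') ≠ 0 ∧ x * b = a

variable (hinj : Function.Injective (algebraMap A K'))

include hinj in
/-- `K'` is the localization of `C` at the nonzero elements of `A` -/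
theorem isLocalization_of_P (C : Subalgebra A K') (hC : P C) :
    IsLocalization (Algebra.algebraMapSubmonoid C (nonZeroDivisors A)) K' := by
  haveI := hC.1
  haveI : Algebra.IsIntegral A C := Algebra.IsIntegral.of_finite A C
  refine ⟨?_, ?_, ?_⟩
  · rintro ⟨y, a, ha, rfl⟩
    have h0 : a ≠ 0 := nonZeroDivisors.ne_zero ha
    apply IsUnit.mk0
    change algebraMap C K' (algebraMap A C a) ≠ 0
    rw [← IsScalarTower.algebraMap_apply A C K', Ne, map_eq_zero_iff _ hinj]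
    exact h0
  · intro z
    obtain ⟨a, b, hb, hab⟩ := hC.2 z
    have hb0 : b ≠ 0 := fun h => hb (by rw [h]; rfl)
    have hne : (Ideal.span {b}).comap (algebraMap A C) ≠ ⊥ :=
      Ideal.comap_ne_bot_of_integral_mem hb0 (Ideal.subset_span rfl)
        (Algebra.IsIntegral.isIntegral b)
    obtain ⟨s, hs, hs0⟩ := Submodule.exists_mem_ne_zero_of_ne_bot hne
    rw [Ideal.mem_comap, Ideal.mem_span_singleton'] at hs
    obtain ⟨c', hc'⟩ := hs
    refine ⟨(a * c', ⟨algebraMap A C s, s, mem_nonZeroDivisors_of_ne_zero hs0, rfl⟩), ?_⟩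
    change z * ((algebraMap A C s : C) : K') = ((a * c' : C) : K')
    rw [← hc']
    push_cast
    rw [← hab]
    ring
  · intro x y hxy
    exact ⟨1, by rw [Subtype.ext (show (x : K') = y from hxy)]⟩

include hinj in
/-- `K'` is the fraction field of `C` -/
theorem isFractionRing_of_P (C : Subalgebra A K') (hC : P C) : IsFractionRing C K' := by
  apply IsFractionRing.of_field
  intro z
  obtain ⟨a, b, hb, hab⟩ := hC.2 z
  exact ⟨a, b, by
    change z = (a : K') / (b : K')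
    rw [eq_div_iff hb, hab]⟩

theorem P_of_le {C C' : Subalgebra A K'} (hC : P C) (hle : C ≤ C') (hfin : Module.Finite A C') :
    P C' := by
  refine ⟨hfin, fun x => ?_⟩
  obtain ⟨a, b, hb, hab⟩ := hC.2 x
  exact ⟨⟨a, hle a.2⟩, ⟨b, hle b.2⟩, hb, hab⟩

theorem P_sup {C C' : Subalgebra A K'} (hC : P C) (hC' : P C') : P (C ⊔ C') := by
  haveI := hC.1
  haveI := hC'.1
  exact P_of_le hC le_sup_left (Subalgebra.finite_sup C C')

end Basic

section Tensor

variable {A B K' : Type u} [CommRing A] [IsDomain A] [CommRing B] [Algebra A B] [Module.Flat A B]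
  [Field K'] [Algebra A K']

/-- the inclusion `B ⊗ C → B ⊗ K'` -/
noncomputable def j (C : Subalgebra A K') : B ⊗[A] C →ₐ[B] B ⊗[A] K' :=
  Algebra.TensorProduct.map (AlgHom.id B B) C.val

theorem j_injective (C : Subalgebra A K') : Function.Injective (j (B := B) C) :=
  Module.Flat.lTensor_preserves_injective_linearMap (M := B) C.val.toLinearMap
    Subtype.val_injective

/-- the transition maps -/
noncomputable def tr {C C' : Subalgebra A K'} (hle : C ≤ C') : B ⊗[A] C →ₐ[B] B ⊗[A] C' :=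
  Algebra.TensorProduct.map (AlgHom.id B B) (Subalgebra.inclusion hle)

theorem j_tr {C C' : Subalgebra A K'} (hle : C ≤ C') (x : B ⊗[A] C) :
    j C' (tr (B := B) hle x) = j C x := by
  induction x using TensorProduct.induction_on with
  | zero => simp
  | tmul b c => simp [j, tr]
  | add x y hx hy => simp only [map_add, hx, hy]

/-- nonzero elements of `A` are nonzerodivisors on `B ⊗ C` -/
theorem algebraMap_mem_nonZeroDivisors (C : Subalgebra A K')
    (hinj : Function.Injective (algebraMap A K')) {s : A} (hs : s ≠ 0) :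
    algebraMap A (B ⊗[A] C) s ∈ nonZeroDivisors (B ⊗[A] C) := by
  have h1 : Function.Injective (LinearMap.lsmul A C s) := by
    intro x y hxy
    have h2 : s • x = s • y := hxy
    have h3 : (algebraMap A K' s) * (x : K') = (algebraMap A K' s) * (y : K') := by
      have := congrArg (Subtype.val) h2
      simpa [Algebra.smul_def] using this
    have h4 : algebraMap A K' s ≠ 0 := by
      rw [Ne, map_eq_zero_iff _ hinj]
      exact hs
    exact Subtype.ext (mul_left_cancel₀ h4 h3)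
  have h2 : Function.Injective ((LinearMap.lsmul A C s).lTensor B) :=
    Module.Flat.lTensor_preserves_injective_linearMap (M := B) _ h1
  rw [mem_nonZeroDivisors_iff_right]
  intro x hx
  apply h2
  rw [map_zero]
  have h3 : ∀ z : B ⊗[A] C, (LinearMap.lsmul A C s).lTensor B z = z * algebraMap A (B ⊗[A] C) s := by
    intro z
    induction z using TensorProduct.induction_on with
    | zero => simp
    | tmul b c =>
      rw [LinearMap.lTensor_tmul, Algebra.algebraMap_eq_smul_one, mul_smul_comm, mul_one,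
        LinearMap.lsmul_apply, TensorProduct.tmul_smul]
    | add x y hx hy => rw [map_add, hx, hy, add_mul]
  rw [h3, hx]

end Tensor

section Phi

open Groth.Agent.S7652

variable {A B K' : Type u} [CommRing A] [IsDomain A] [CommRing B] [Algebra A B] [Module.Flat A B]
  [Field K'] [Algebra A K'] (hinj : Function.Injective (algebraMap A K'))
  (C₀ : Subalgebra A K') (hC₀ : P C₀)

/-- `B ⊗ K'` as an algebra over `B ⊗ C₀` -/
noncomputable def algT : Algebra (B ⊗[A] C₀) (B ⊗[A] K') := (j (B := B) C₀).toRingHom.toAlgebra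

attribute [local instance] algT

theorem algebraMap_T_apply (x : B ⊗[A] C₀) : algebraMap (B ⊗[A] C₀) (B ⊗[A] K') x = j C₀ x := rfl

instance : IsScalarTower B (B ⊗[A] C₀) (B ⊗[A] K') :=
  IsScalarTower.of_algebraMap_eq (R := B) (S := B ⊗[A] C₀) (A := B ⊗[A] K') (fun x => by
    rw [algebraMap_T_apply (B := B) C₀]
    simp [j])

/-- the multiplicative set of nonzero elements of `A`, inside `B ⊗ C₀` -/
def M₀ : Submonoid (B ⊗[A] C₀) :=
  (Algebra.algebraMapSubmonoid C₀ (nonZeroDivisors A)).map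
    (Algebra.TensorProduct.includeRight (R := A) (A := B))

theorem mem_M₀_iff (x : B ⊗[A] C₀) :
    x ∈ M₀ (B := B) C₀ ↔ ∃ s : A, s ≠ 0 ∧ x = algebraMap A (B ⊗[A] C₀) s := by
  constructor
  · rintro ⟨_, ⟨s, hs, rfl⟩, rfl⟩
    refine ⟨s, nonZeroDivisors.ne_zero hs, ?_⟩
    rw [Algebra.TensorProduct.algebraMap_apply, Algebra.TensorProduct.includeRight_apply,
      Algebra.algebraMap_eq_smul_one, Algebra.algebraMap_eq_smul_one (A := B),
      TensorProduct.smul_tmul]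
  · rintro ⟨s, hs, rfl⟩
    refine ⟨algebraMap A C₀ s, ⟨s, mem_nonZeroDivisors_of_ne_zero hs, rfl⟩, ?_⟩
    rw [Algebra.TensorProduct.algebraMap_apply, Algebra.TensorProduct.includeRight_apply,
      Algebra.algebraMap_eq_smul_one, Algebra.algebraMap_eq_smul_one (A := B),
      TensorProduct.smul_tmul]

include hinj hC₀ in
theorem isLocalization_T : IsLocalization (M₀ (B := B) C₀) (B ⊗[A] K') := by
  haveI := isLocalization_of_P hinj C₀ hC₀
  refine IsLocalization.tensorProduct_tensorProduct_right A B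
    (Algebra.algebraMapSubmonoid C₀ (nonZeroDivisors A)) K' ?_
  ext x
  simp [algebraMap_T_apply (B := B) C₀, j]

include hinj in
theorem M₀_le_nonZeroDivisors : M₀ (B := B) C₀ ≤ nonZeroDivisors (B ⊗[A] C₀) := by
  intro x hx
  obtain ⟨s, hs, rfl⟩ := (mem_M₀_iff C₀ x).mp hx
  exact algebraMap_mem_nonZeroDivisors C₀ hinj hs

include hinj in
theorem isUnit_algebraMap_PiK (y : M₀ (B := B) C₀) :
    IsUnit (algebraMap (B ⊗[A] C₀) (PiK (B ⊗[A] C₀)) y) := by
  rw [Pi.isUnit_iff]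
  intro i
  apply IsUnit.mk0
  rw [Ne, algebraMap_PiK_apply_eq_zero_iff]
  intro hy
  exact Set.disjoint_left.mp (Ideal.disjoint_nonZeroDivisors_of_mem_minimalPrimes i.2) hy
    (M₀_le_nonZeroDivisors hinj C₀ y.2)

/-- the canonical map `B ⊗ K' → ∏ Frac ((B ⊗ C₀)/p)` -/
noncomputable def Φ : B ⊗[A] K' →+* PiK (B ⊗[A] C₀) :=
  @IsLocalization.lift _ _ (M₀ (B := B) C₀) _ _ _ _ _ (isLocalization_T hinj C₀ hC₀)
    (algebraMap (B ⊗[A] C₀) (PiK (B ⊗[A] C₀))) (isUnit_algebraMap_PiK hinj C₀)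

theorem Φ_j (x : B ⊗[A] C₀) :
    Φ hinj C₀ hC₀ (j C₀ x) = algebraMap (B ⊗[A] C₀) (PiK (B ⊗[A] C₀)) x := by
  rw [← algebraMap_T_apply (B := B) C₀, Φ]
  exact @IsLocalization.lift_eq _ _ (M₀ (B := B) C₀) _ _ _ _ _ (isLocalization_T hinj C₀ hC₀)
    _ (isUnit_algebraMap_PiK hinj C₀) x

/-- the kernel of `Φ` consists of nilpotent elements -/
theorem isNilpotent_of_Φ_eq_zero (t : B ⊗[A] K') (ht : Φ hinj C₀ hC₀ t = 0) : IsNilpotent t := by
  haveI := isLocalization_T (B := B) hinj C₀ hC₀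
  obtain ⟨⟨r, m⟩, hrm⟩ := IsLocalization.surj (M₀ (B := B) C₀) t
  have h1 : Φ hinj C₀ hC₀ (algebraMap (B ⊗[A] C₀) (B ⊗[A] K') r) = 0 := by
    rw [← hrm, map_mul, ht, zero_mul]
  rw [algebraMap_T_apply (B := B) C₀, Φ_j] at h1
  have h2 : r ∈ nilradical (B ⊗[A] C₀) := by
    change r ∈ (⊥ : Ideal (B ⊗[A] C₀)).radical
    rw [← Ideal.sInf_minimalPrimes, Submodule.mem_sInf]
    intro p hp
    have := congrFun h1 ⟨p, hp⟩
    exact (algebraMap_PiK_apply_eq_zero_iff r ⟨p, hp⟩).mp this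
  have h3 : IsNilpotent (algebraMap (B ⊗[A] C₀) (B ⊗[A] K') r) := (mem_nilradical.mp h2).map _
  rw [← hrm] at h3
  have hu : IsUnit (algebraMap (B ⊗[A] C₀) (B ⊗[A] K') m) := IsLocalization.map_units _ m
  obtain ⟨n, hn⟩ := h3
  refine ⟨n, ?_⟩
  rw [mul_pow] at hn
  exact (hu.pow n).mul_left_eq_zero.mp hn

/-- `Φ` restricted to `B` -/
theorem Φ_algebraMap (b : B) :
    Φ hinj C₀ hC₀ (algebraMap B (B ⊗[A] K') b) =
      algebraMap (B ⊗[A] C₀) (PiK (B ⊗[A] C₀)) (algebraMap B (B ⊗[A] C₀) b) := by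
  rw [← Φ_j hinj C₀ hC₀, AlgHom.commutes]

/-- the elements `Φ (j C t)` are integral over `B ⊗ C₀` -/
theorem isIntegral_Φ_j (C : Subalgebra A K') (hC : Module.Finite A C) (t : B ⊗[A] C) :
    IsIntegral (B ⊗[A] C₀) (Φ hinj C₀ hC₀ (j C t)) := by
  haveI := hC
  haveI : Algebra.IsIntegral A C := Algebra.IsIntegral.of_finite A C
  have h1 : IsIntegral B t := Algebra.IsIntegral.isIntegral t
  refine h1.map_of_comp_eq (algebraMap B (B ⊗[A] C₀))
    ((Φ hinj C₀ hC₀).comp (j (B := B) C).toRingHom) ?_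
  ext b
  simp only [RingHom.comp_apply, AlgHom.toRingHom_eq_coe, RingHom.coe_coe, AlgHom.commutes]
  rw [Φ_algebraMap]

include hinj hC₀ in
/-- the contraction to `B` of a minimal prime of `B ⊗ C₀` is a minimal prime of `B` -/
theorem comap_mem_minimalPrimes [Module.Flat A K'] (p : Ideal (B ⊗[A] C₀))
    (hp : p ∈ minimalPrimes (B ⊗[A] C₀)) :
    p.comap (algebraMap B (B ⊗[A] C₀)) ∈ minimalPrimes B := by
  haveI := isLocalization_T (B := B) hinj C₀ hC₀
  haveI hpp : p.IsPrime := hp.1.1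
  have hdisj : Disjoint (M₀ (B := B) C₀ : Set (B ⊗[A] C₀)) p := by
    rw [Set.disjoint_left]
    intro x hx hxp
    exact Set.disjoint_left.mp (Ideal.disjoint_nonZeroDivisors_of_mem_minimalPrimes hp) hxp
      (M₀_le_nonZeroDivisors hinj C₀ hx)
  let 𝔓 : Ideal (B ⊗[A] K') := p.map (algebraMap (B ⊗[A] C₀) (B ⊗[A] K'))
  haveI h𝔓 : 𝔓.IsPrime := IsLocalization.isPrime_of_isPrime_disjoint (M₀ (B := B) C₀) _ p hpp hdisj
  have hunder : 𝔓.comap (algebraMap (B ⊗[A] C₀) (B ⊗[A] K')) = p :=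
    IsLocalization.under_map_of_isPrime_disjoint (M₀ (B := B) C₀) _ hpp hdisj
  let q : Ideal B := p.comap (algebraMap B (B ⊗[A] C₀))
  haveI : q.IsPrime := Ideal.IsPrime.comap _
  have h𝔓q : 𝔓.comap (algebraMap B (B ⊗[A] K')) = q := by
    rw [IsScalarTower.algebraMap_eq B (B ⊗[A] C₀) (B ⊗[A] K'), ← Ideal.comap_comap, hunder]
  haveI : 𝔓.LiesOver q := ⟨h𝔓q.symm⟩
  refine ⟨⟨inferInstance, bot_le⟩, ?_⟩
  rintro q₀ ⟨hq₀, -⟩ hle
  haveI := hq₀
  haveI : Module.Flat B (B ⊗[A] K') := inferInstance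
  obtain ⟨𝔓₀, h𝔓₀le, h𝔓₀p, h𝔓₀over⟩ := Ideal.exists_ideal_le_liesOver_of_le (p := q₀) (q := q) 𝔓 hle
  have h1 : 𝔓₀.comap (algebraMap (B ⊗[A] C₀) (B ⊗[A] K')) ≤ p := by
    rw [← hunder]
    exact Ideal.comap_mono h𝔓₀le
  haveI : (𝔓₀.comap (algebraMap (B ⊗[A] C₀) (B ⊗[A] K'))).IsPrime := Ideal.IsPrime.comap _
  have h2 : p ≤ 𝔓₀.comap (algebraMap (B ⊗[A] C₀) (B ⊗[A] K')) :=
    hp.2 ⟨inferInstance, bot_le⟩ h1
  have h3 : 𝔓₀.comap (algebraMap B (B ⊗[A] K')) = q₀ := (h𝔓₀over.over).symm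
  rw [IsScalarTower.algebraMap_eq B (B ⊗[A] C₀) (B ⊗[A] K'), ← Ideal.comap_comap] at h3
  rw [← h3]
  exact Ideal.comap_mono h2

include hinj hC₀ in
/-- the integral closure of `B ⊗ C₀` in `∏ Frac ((B ⊗ C₀)/p)` is finite -/
theorem finite_integralClosure [IsNoetherianRing B] [Module.Flat A K']
    (hJ : ∀ (q : Ideal B) [q.IsPrime], q ∈ minimalPrimes B → CAlg.IsN2 (B ⧸ q)) :
    Module.Finite (B ⊗[A] C₀) (integralClosure (B ⊗[A] C₀) (PiK (B ⊗[A] C₀))) := by
  haveI := hC₀.1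
  haveI : IsNoetherianRing (B ⊗[A] C₀) := IsNoetherianRing.of_finite B (B ⊗[A] C₀)
  apply finite_integralClosure_PiK
  rintro ⟨p, hp⟩
  haveI hpp : p.IsPrime := hp.1.1
  let q : Ideal B := p.comap (algebraMap B (B ⊗[A] C₀))
  haveI : q.IsPrime := Ideal.IsPrime.comap _
  have hq : q ∈ minimalPrimes B := comap_mem_minimalPrimes hinj C₀ hC₀ p hp
  haveI : Module.Finite (B ⧸ q) ((B ⊗[A] C₀) ⧸ p) := Module.Finite.of_restrictScalars_finite B _ _
  have h2 : CAlg.IsN2 ((B ⊗[A] C₀) ⧸ p) :=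
    isN2_of_finite_extension (B ⧸ q) ((B ⊗[A] C₀) ⧸ p) Ideal.algebraMap_quotient_injective
      (hJ q hq)
  exact isN1_of_isN2 h2

/-- the image of `B ⊗ C` in `∏ Frac ((B ⊗ C₀)/p)`, as a `B ⊗ C₀`-submodule -/
noncomputable def W (C : Subalgebra A K') (hle : C₀ ≤ C) :
    Submodule (B ⊗[A] C₀) (PiK (B ⊗[A] C₀)) where
  carrier := Set.range (fun t : B ⊗[A] C => Φ hinj C₀ hC₀ (j C t))
  add_mem' := by
    rintro _ _ ⟨a, rfl⟩ ⟨b, rfl⟩
    exact ⟨a + b, by simp⟩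
  zero_mem' := ⟨0, by simp⟩
  smul_mem' := by
    rintro r _ ⟨t, rfl⟩
    refine ⟨tr hle r * t, ?_⟩
    simp only [map_mul, j_tr, Φ_j]
    exact (Algebra.smul_def r _).symm

theorem mem_W {C : Subalgebra A K'} {hle : C₀ ≤ C} {z : PiK (B ⊗[A] C₀)} :
    z ∈ W hinj C₀ hC₀ C hle ↔ ∃ t : B ⊗[A] C, Φ hinj C₀ hC₀ (j (B := B) C t) = z := Iff.rfl

theorem W_mono {C C' : Subalgebra A K'} (hle : C₀ ≤ C) (hCC' : C ≤ C') :
    W (B := B) hinj C₀ hC₀ C hle ≤ W hinj C₀ hC₀ C' (hle.trans hCC') := by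
  rintro _ ⟨t, rfl⟩
  exact ⟨tr (B := B) hCC' t, by simp only [j_tr]⟩

theorem W_le (C : Subalgebra A K') (hle : C₀ ≤ C) (hC : Module.Finite A C) :
    W hinj C₀ hC₀ C hle ≤
      Subalgebra.toSubmodule (integralClosure (B ⊗[A] C₀) (PiK (B ⊗[A] C₀))) := by
  rintro _ ⟨t, rfl⟩
  exact isIntegral_Φ_j hinj C₀ hC₀ C hC t

include hinj hC₀ in
/-- **stabilization**: there is `Cβ ⊇ C₀` such that `B ⊗ Cβ → B ⊗ C` is surjective modulo
nilpotents for all `C ⊇ Cβ` -/
theorem exists_stable [IsNoetherianRing B] [Module.Flat A K']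
    (hJ : ∀ (q : Ideal B) [q.IsPrime], q ∈ minimalPrimes B → CAlg.IsN2 (B ⧸ q)) :
    ∃ Cβ : Subalgebra A K', P Cβ ∧ C₀ ≤ Cβ ∧ ∀ C : Subalgebra A K', P C → ∀ hle : Cβ ≤ C,
      ∀ y : B ⊗[A] C, ∃ x : B ⊗[A] Cβ, IsNilpotent (tr hle x - y) := by
  haveI := hC₀.1
  haveI : IsNoetherianRing (B ⊗[A] C₀) := IsNoetherianRing.of_finite B (B ⊗[A] C₀)
  haveI := finite_integralClosure hinj C₀ hC₀ hJ
  let N := Subalgebra.toSubmodule (integralClosure (B ⊗[A] C₀) (PiK (B ⊗[A] C₀)))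
  haveI : Module.Finite (B ⊗[A] C₀) N :=
    inferInstanceAs (Module.Finite (B ⊗[A] C₀) (integralClosure (B ⊗[A] C₀) (PiK (B ⊗[A] C₀))))
  haveI : IsNoetherian (B ⊗[A] C₀) N := isNoetherian_of_isNoetherianRing_of_finite _ _
  let 𝒞 := {C : Subalgebra A K' // P C ∧ C₀ ≤ C}
  let f : 𝒞 → Submodule (B ⊗[A] C₀) N := fun C =>
    (W hinj C₀ hC₀ C.1 C.2.2).comap N.subtype
  have hwf : WellFounded ((· > ·) : Submodule (B ⊗[A] C₀) N → Submodule (B ⊗[A] C₀) N → Prop) :=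
    (isNoetherian_iff'.mp inferInstance).wf
  obtain ⟨_, ⟨Cβ, rfl⟩, hmax⟩ := hwf.has_min (Set.range f) ⟨_, ⟨⟨C₀, hC₀, le_rfl⟩, rfl⟩⟩
  refine ⟨Cβ.1, Cβ.2.1, Cβ.2.2, fun C hC hle y => ?_⟩
  have hC₀C : C₀ ≤ C := Cβ.2.2.trans hle
  have hle' : f Cβ ≤ f ⟨C, hC, hC₀C⟩ :=
    Submodule.comap_mono (W_mono hinj C₀ hC₀ Cβ.2.2 hle)
  have heq : f ⟨C, hC, hC₀C⟩ = f Cβ := by
    by_contra hne
    exact hmax _ ⟨⟨C, hC, hC₀C⟩, rfl⟩ (lt_of_le_of_ne hle' (Ne.symm hne))
  have hWeq : W (B := B) hinj C₀ hC₀ C hC₀C = W hinj C₀ hC₀ Cβ.1 Cβ.2.2 := by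
    have h1 := Submodule.map_comap_subtype N (W hinj C₀ hC₀ C hC₀C)
    have h2 := Submodule.map_comap_subtype N (W hinj C₀ hC₀ Cβ.1 Cβ.2.2)
    rw [inf_eq_right.mpr (W_le hinj C₀ hC₀ C hC₀C hC.1)] at h1
    rw [inf_eq_right.mpr (W_le hinj C₀ hC₀ Cβ.1 Cβ.2.2 Cβ.2.1.1)] at h2
    rw [← h1, ← h2]
    exact congrArg (Submodule.map N.subtype) heq
  have hy : Φ hinj C₀ hC₀ (j C y) ∈ W hinj C₀ hC₀ Cβ.1 Cβ.2.2 := by
    rw [← hWeq]
    exact ⟨y, rfl⟩
  obtain ⟨x, hx⟩ := hy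
  have hx' : Φ hinj C₀ hC₀ (j Cβ.1 x) = Φ hinj C₀ hC₀ (j C y) := hx
  refine ⟨x, ?_⟩
  have h0 : Φ hinj C₀ hC₀ (j C (tr hle x - y)) = 0 := by
    rw [map_sub, map_sub, j_tr, hx', sub_self]
  obtain ⟨n, hn⟩ := isNilpotent_of_Φ_eq_zero hinj C₀ hC₀ _ h0
  refine ⟨n, ?_⟩
  apply j_injective (B := B) C
  rw [map_pow, hn, map_zero]

end Phi

end Groth.Agent.Lib.Helper88.FinSubalg
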