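import Groth.Prelude.Def_Found
import Groth.Agent.Lib.Helper88.FinSubalg
import Mathlib

/-!
# Finite subalgebras of a finite field extension and base change, II (EGA 0_IV 23.2.x)
-/

universe u

namespace Groth.Agent.Lib.Helper88.FinSubalg

open TensorProduct

section Radicial

variable {A B K' : Type u} [CommRing A] [IsDomain A] [CommRing B] [Algebra A B]
  [Field K'] [Algebra A K']

/-- field-valued points of the integral closure are determined by their restriction to a stable
subalgebra (when `B` is faithfully flat) -/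
theorem fieldPts_eq_of_stable [Module.FaithfullyFlat A B] (Cβ : Subalgebra A K') (hCβ : P Cβ)
    (hb : ∀ C : Subalgebra A K', P C → ∀ hle : Cβ ≤ C, ∀ y : ↥C ⊗[A] B, ∃ x : ↥Cβ ⊗[A] B,
      IsNilpotent (Algebra.TensorProduct.map (Subalgebra.inclusion hle) (AlgHom.id A B) x - y))
    (hint : Cβ ≤ integralClosure A K') (Ω : Type u) [Field Ω]
    (χ₁ χ₂ : ↥(integralClosure A K') →+* Ω)
    (h : χ₁.comp (Subalgebra.inclusion hint).toRingHom =
      χ₂.comp (Subalgebra.inclusion hint).toRingHom) : χ₁ = χ₂ := by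
  ext ⟨x, hx⟩
  haveI := hCβ.1
  have hxint : IsIntegral A x := hx
  haveI : Module.Finite A (Algebra.adjoin A {x}) :=
    Module.Finite.iff_fg.mpr hxint.fg_adjoin_singleton
  let C : Subalgebra A K' := Cβ ⊔ Algebra.adjoin A {x}
  have hC : P C := P_of_le hCβ le_sup_left (Subalgebra.finite_sup _ _)
  have hle : Cβ ≤ C := le_sup_left
  have hCA' : C ≤ integralClosure A K' :=
    sup_le hint (Algebra.adjoin_le (Set.singleton_subset_iff.mpr hx))
  have hxC : x ∈ C := (le_sup_right : Algebra.adjoin A {x} ≤ C) (Algebra.self_mem_adjoin_singleton A x)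
  letI : Algebra A Ω := (χ₁.comp (algebraMap A (integralClosure A K'))).toAlgebra
  let ψ₁ : C →ₐ[A] Ω :=
    { toRingHom := χ₁.comp (Subalgebra.inclusion hCA').toRingHom
      commutes' := fun a => rfl }
  have hagree : ∀ c : Cβ, χ₁ (Subalgebra.inclusion hint c) = χ₂ (Subalgebra.inclusion hint c) :=
    fun c => RingHom.congr_fun h c
  let ψ₂ : C →ₐ[A] Ω :=
    { toRingHom := χ₂.comp (Subalgebra.inclusion hCA').toRingHom
      commutes' := fun a => (hagree (algebraMap A Cβ a)).symm }
  have hψ : ∀ c : Cβ, ψ₁ (Subalgebra.inclusion hle c) = ψ₂ (Subalgebra.inclusion hle c) :=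
    fun c => hagree c
  haveI : Nontrivial (Ω ⊗[A] B) := Module.FaithfullyFlat.rTensor_nontrivial A B Ω
  obtain ⟨𝔐, h𝔐⟩ := Ideal.exists_maximal (Ω ⊗[A] B)
  letI : Field ((Ω ⊗[A] B) ⧸ 𝔐) := Ideal.Quotient.field 𝔐
  let π : Ω ⊗[A] B →+* (Ω ⊗[A] B) ⧸ 𝔐 := Ideal.Quotient.mk 𝔐
  let H₁ : ↥C ⊗[A] B →ₐ[A] Ω ⊗[A] B := Algebra.TensorProduct.map ψ₁ (AlgHom.id A B)
  let H₂ : ↥C ⊗[A] B →ₐ[A] Ω ⊗[A] B := Algebra.TensorProduct.map ψ₂ (AlgHom.id A B)
  have hH : ∀ z : ↥Cβ ⊗[A] B,
      H₁ (Algebra.TensorProduct.map (Subalgebra.inclusion hle) (AlgHom.id A B) z) =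
      H₂ (Algebra.TensorProduct.map (Subalgebra.inclusion hle) (AlgHom.id A B) z) := by
    intro z
    induction z using TensorProduct.induction_on with
    | zero => simp
    | tmul c b => simp [H₁, H₂, hψ c]
    | add z₁ z₂ h₁ h₂ => simp only [map_add, h₁, h₂]
  let y : ↥C ⊗[A] B := (⟨x, hxC⟩ : C) ⊗ₜ[A] (1 : B)
  obtain ⟨x', hx'⟩ := hb C hC hle y
  have hπ : ∀ (H : ↥C ⊗[A] B →ₐ[A] Ω ⊗[A] B),
      π (H (Algebra.TensorProduct.map (Subalgebra.inclusion hle) (AlgHom.id A B) x')) =
        π (H y) := by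
    intro H
    have h1 : IsNilpotent (π (H
        (Algebra.TensorProduct.map (Subalgebra.inclusion hle) (AlgHom.id A B) x' - y))) :=
      (hx'.map H).map π
    have h2 := h1.eq_zero
    rwa [map_sub, map_sub, sub_eq_zero] at h2
  have h3 : π (H₁ y) = π (H₂ y) := by
    rw [← hπ H₁, ← hπ H₂, hH]
  let ρ : Ω →+* (Ω ⊗[A] B) ⧸ 𝔐 :=
    π.comp (Algebra.TensorProduct.includeLeftRingHom : Ω →+* Ω ⊗[A] B)
  have hρ : Function.Injective ρ := RingHom.injective ρ
  apply hρ
  have e1 : H₁ y = (χ₁ ⟨x, hx⟩) ⊗ₜ[A] (1 : B) := by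
    simp [H₁, y, ψ₁, Subalgebra.inclusion]
  have e2 : H₂ y = (χ₂ ⟨x, hx⟩) ⊗ₜ[A] (1 : B) := by
    simp [H₂, y, ψ₂, Subalgebra.inclusion]
  rw [e1, e2] at h3
  exact h3

end Radicial

section Main

variable {A B K' : Type u} [CommRing A] [IsDomain A] [CommRing B] [Algebra A B]
  [IsNoetherianRing B] [Module.Flat A B] [Field K'] [Algebra A K']
  [Algebra (FractionRing A) K'] [IsScalarTower A (FractionRing A) K']
  [FiniteDimensional (FractionRing A) K']

omit [IsNoetherianRing B] [FiniteDimensional (FractionRing A) K'] [Module.Flat A B] in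
theorem algebraMap_injective : Function.Injective (algebraMap A K') := by
  rw [IsScalarTower.algebraMap_eq A (FractionRing A) K']
  exact (algebraMap (FractionRing A) K').injective.comp (IsFractionRing.injective A _)

omit [IsNoetherianRing B] [Module.Flat A B] in
theorem exists_P : ∃ C : Subalgebra A K', P C := by
  obtain ⟨S', -, hfin, hfr⟩ :=
    Groth.Agent.Lib.Helper88.exists_finite_subalgebra_isFractionRing A (FractionRing A) K'
  refine ⟨S', hfin, fun x => ?_⟩
  haveI := hfr
  obtain ⟨a, b, hb, hab⟩ := IsFractionRing.div_surjective (A := S') x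
  have hb0 : (b : K') ≠ 0 := by
    have := nonZeroDivisors.ne_zero hb
    intro h
    exact this (Subtype.ext h)
  refine ⟨a, b, hb0, ?_⟩
  rw [← hab]
  change (a : K') / (b : K') * (b : K') = a
  field_simp

theorem comm_map {C C' : Subalgebra A K'} (hle : C ≤ C') (x : ↥C ⊗[A] B) :
    Algebra.TensorProduct.comm A C' B
      (Algebra.TensorProduct.map (Subalgebra.inclusion hle) (AlgHom.id A B) x) =
    tr hle (Algebra.TensorProduct.comm A C B x) := by
  induction x using TensorProduct.induction_on with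
  | zero => simp
  | tmul c b => simp [tr]
  | add x y hx hy => simp only [map_add, hx, hy]

/-- **EGA 0_IV 23.2.x** (i): the reduced rings `(C ⊗ B)_red` are eventually constant -/
theorem exists_stable'
    (hJ : ∀ (q : Ideal B) [q.IsPrime], q ∈ minimalPrimes B → CAlg.IsN2 (B ⧸ q)) :
    ∃ Cα : Subalgebra A K', P Cα ∧
      (∀ C : Subalgebra A K', P C → ∀ hle : Cα ≤ C,
        (∀ x : ↥Cα ⊗[A] B, IsNilpotent
          (Algebra.TensorProduct.map (Subalgebra.inclusion hle) (AlgHom.id A B) x) →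
          IsNilpotent x) ∧
        (∀ y : ↥C ⊗[A] B, ∃ x : ↥Cα ⊗[A] B, IsNilpotent
          (Algebra.TensorProduct.map (Subalgebra.inclusion hle) (AlgHom.id A B) x - y))) := by
  have hinj : Function.Injective (algebraMap A K') := algebraMap_injective
  haveI : Module.Flat A K' := Module.Flat.trans A (FractionRing A) K'
  obtain ⟨C₀, hC₀⟩ := exists_P (A := A) (K' := K')
  obtain ⟨Cβ, hCβ, -, hstab⟩ := exists_stable (B := B) hinj C₀ hC₀ hJ
  refine ⟨Cβ, hCβ, fun C hC hle => ⟨?_, ?_⟩⟩
  · rintro x ⟨n, hn⟩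
    refine ⟨n, ?_⟩
    have hinj' : Function.Injective
        (Algebra.TensorProduct.map (Subalgebra.inclusion hle) (AlgHom.id A B)) :=
      Module.Flat.rTensor_preserves_injective_linearMap (M := B)
        (Subalgebra.inclusion hle).toLinearMap (Subalgebra.inclusion_injective hle)
    apply hinj'
    rw [map_pow, hn, map_zero]
  · intro y
    obtain ⟨x', hx'⟩ := hstab C hC hle (Algebra.TensorProduct.comm A C B y)
    refine ⟨(Algebra.TensorProduct.comm A Cβ B).symm x', ?_⟩
    have h1 : Algebra.TensorProduct.comm A C B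
        (Algebra.TensorProduct.map (Subalgebra.inclusion hle) (AlgHom.id A B)
          ((Algebra.TensorProduct.comm A Cβ B).symm x') - y) =
        tr hle x' - Algebra.TensorProduct.comm A C B y := by
      rw [map_sub, comm_map, AlgEquiv.apply_symm_apply]
    obtain ⟨n, hn⟩ := hx'
    refine ⟨n, ?_⟩
    apply (Algebra.TensorProduct.comm A C B).injective
    rw [map_pow, h1, hn, map_zero]

end Main

end Groth.Agent.Lib.Helper88.FinSubalg
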