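import Groth.Prelude.Def_Found
import Groth.Agent.Lib.Helper88.FinSubalg2
import Mathlib

/-!
# The integral closure of a local domain with stable finite subalgebra is semilocal
(EGA 0_IV 23.2.x, consequences)
-/

universe u

namespace Groth.Agent.Lib.Helper88.FinSubalg

open TensorProduct

section Semilocal

variable {A B K' : Type u} [CommRing A] [IsDomain A] [CommRing B] [Algebra A B]
  [Field K'] [Algebra A K']

theorem le_integralClosure_of_P (C : Subalgebra A K') (hC : P C) : C ≤ integralClosure A K' := by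
  haveI := hC.1
  intro c hc
  have h1 : IsIntegral A (⟨c, hc⟩ : C) := Algebra.IsIntegral.isIntegral _
  exact h1.map C.val

theorem isIntegral_inclusion (C : Subalgebra A K') (hint : C ≤ integralClosure A K') :
    (Subalgebra.inclusion hint).toRingHom.IsIntegral := by
  have h : ((Subalgebra.inclusion hint).toRingHom.comp (algebraMap A C)).IsIntegral := by
    have : (Subalgebra.inclusion hint).toRingHom.comp (algebraMap A C) =
        algebraMap A (integralClosure A K') := by
      ext a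
      rfl
    rw [this]
    exact algebraMap_isIntegral_iff.mpr inferInstance
  exact RingHom.IsIntegral.tower_top (algebraMap A C) _ h

theorem isIntegral_quotientMap {R S : Type*} [CommRing R] [CommRing S] (f : R →+* S)
    (hf : f.IsIntegral) (n : Ideal R) (m : Ideal S) (h : m.comap f = n) :
    (Ideal.quotientMap m f (le_of_eq h.symm)).IsIntegral := by
  subst h
  exact hf.quotient

/-- maximal ideals of the integral closure are determined by their contraction to a stable
subalgebra -/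
theorem eq_of_comap_eq_of_stable [Module.FaithfullyFlat A B] (Cβ : Subalgebra A K') (hCβ : P Cβ)
    (hb : ∀ C : Subalgebra A K', P C → ∀ hle : Cβ ≤ C, ∀ y : ↥C ⊗[A] B, ∃ x : ↥Cβ ⊗[A] B,
      IsNilpotent (Algebra.TensorProduct.map (Subalgebra.inclusion hle) (AlgHom.id A B) x - y))
    (hint : Cβ ≤ integralClosure A K')
    (m₁ m₂ : Ideal (integralClosure A K')) [m₁.IsMaximal] [m₂.IsMaximal]
    (h : m₂.comap (Subalgebra.inclusion hint).toRingHom =
      m₁.comap (Subalgebra.inclusion hint).toRingHom) : m₁ = m₂ := by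
  have hf := isIntegral_inclusion Cβ hint
  set f : ↥Cβ →+* ↥(integralClosure A K') := (Subalgebra.inclusion hint).toRingHom with hfdef
  set n : Ideal Cβ := m₁.comap f with hn
  haveI : n.IsMaximal := Ideal.isMaximal_comap_of_isIntegral_of_isMaximal' f hf m₁
  letI : Field (Cβ ⧸ n) := Ideal.Quotient.field n
  letI : Field (integralClosure A K' ⧸ m₁) := Ideal.Quotient.field m₁
  letI : Field (integralClosure A K' ⧸ m₂) := Ideal.Quotient.field m₂
  let f₁ : Cβ ⧸ n →+* integralClosure A K' ⧸ m₁ := Ideal.quotientMap m₁ f le_rfl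
  let f₂ : Cβ ⧸ n →+* integralClosure A K' ⧸ m₂ := Ideal.quotientMap m₂ f (le_of_eq h.symm)
  letI alg₁ : Algebra (Cβ ⧸ n) (integralClosure A K' ⧸ m₁) := f₁.toAlgebra
  letI alg₂ : Algebra (Cβ ⧸ n) (integralClosure A K' ⧸ m₂) := f₂.toAlgebra
  haveI : Algebra.IsIntegral (Cβ ⧸ n) (integralClosure A K' ⧸ m₁) :=
    ⟨isIntegral_quotientMap f hf n m₁ rfl⟩
  haveI : Algebra.IsIntegral (Cβ ⧸ n) (integralClosure A K' ⧸ m₂) :=
    ⟨isIntegral_quotientMap f hf n m₂ h⟩
  let Ω := AlgebraicClosure (Cβ ⧸ n)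
  let j₁ : (integralClosure A K' ⧸ m₁) →ₐ[Cβ ⧸ n] Ω := IsAlgClosed.lift
  let j₂ : (integralClosure A K' ⧸ m₂) →ₐ[Cβ ⧸ n] Ω := IsAlgClosed.lift
  let χ₁ : ↥(integralClosure A K') →+* Ω := j₁.toRingHom.comp (Ideal.Quotient.mk m₁)
  let χ₂ : ↥(integralClosure A K') →+* Ω := j₂.toRingHom.comp (Ideal.Quotient.mk m₂)
  have hχ : χ₁ = χ₂ := by
    refine fieldPts_eq_of_stable (B := B) Cβ hCβ hb hint Ω χ₁ χ₂ ?_
    ext c
    change j₁ (Ideal.Quotient.mk m₁ (f c)) = j₂ (Ideal.Quotient.mk m₂ (f c))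
    have e₁ : Ideal.Quotient.mk m₁ (f c) =
        algebraMap (Cβ ⧸ n) (integralClosure A K' ⧸ m₁) (Ideal.Quotient.mk n c) := rfl
    have e₂ : Ideal.Quotient.mk m₂ (f c) =
        algebraMap (Cβ ⧸ n) (integralClosure A K' ⧸ m₂) (Ideal.Quotient.mk n c) := rfl
    rw [e₁, e₂, j₁.commutes, j₂.commutes]
  have hk₁ : RingHom.ker χ₁ = m₁ := by
    ext x
    rw [RingHom.mem_ker]
    change j₁ (Ideal.Quotient.mk m₁ x) = 0 ↔ _
    rw [map_eq_zero, Ideal.Quotient.eq_zero_iff_mem]
  have hk₂ : RingHom.ker χ₂ = m₂ := by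
    ext x
    rw [RingHom.mem_ker]
    change j₂ (Ideal.Quotient.mk m₂ x) = 0 ↔ _
    rw [map_eq_zero, Ideal.Quotient.eq_zero_iff_mem]
  rw [← hk₁, ← hk₂, hχ]

end Semilocal

section Residue

variable {A B K' : Type u} [CommRing A] [IsDomain A] [IsLocalRing A] [CommRing B] [Algebra A B]
  [Field K'] [Algebra A K']

/-- the residue fields of the integral closure are quotients of a stable subalgebra -/
theorem surjective_mk_of_stable (β : B →ₐ[A] A ⧸ IsLocalRing.maximalIdeal A)
    (Cβ : Subalgebra A K') (hCβ : P Cβ)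
    (hb : ∀ C : Subalgebra A K', P C → ∀ hle : Cβ ≤ C, ∀ y : ↥C ⊗[A] B, ∃ x : ↥Cβ ⊗[A] B,
      IsNilpotent (Algebra.TensorProduct.map (Subalgebra.inclusion hle) (AlgHom.id A B) x - y))
    (hint : Cβ ≤ integralClosure A K')
    (m' : Ideal (integralClosure A K')) [m'.IsMaximal] :
    Function.Surjective ((Ideal.Quotient.mkₐ A m').comp (Subalgebra.inclusion hint)) := by
  letI : Field (integralClosure A K' ⧸ m') := Ideal.Quotient.field m'
  have hm : ∀ a ∈ IsLocalRing.maximalIdeal A,
      (Algebra.ofId A (integralClosure A K' ⧸ m')) a = 0 := by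
    intro a ha
    haveI : (m'.comap (algebraMap A (integralClosure A K'))).IsMaximal :=
      Ideal.isMaximal_comap_of_isIntegral_of_isMaximal m'
    have h1 : m'.comap (algebraMap A (integralClosure A K')) = IsLocalRing.maximalIdeal A :=
      IsLocalRing.eq_maximalIdeal inferInstance
    rw [← h1, Ideal.mem_comap] at ha
    change algebraMap A (integralClosure A K' ⧸ m') a = 0
    rw [IsScalarTower.algebraMap_apply A (integralClosure A K') (integralClosure A K' ⧸ m')]
    exact Ideal.Quotient.eq_zero_iff_mem.mpr ha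
  let σ : (A ⧸ IsLocalRing.maximalIdeal A) →ₐ[A] (integralClosure A K' ⧸ m') :=
    Ideal.Quotient.liftₐ (IsLocalRing.maximalIdeal A) (Algebra.ofId A _) hm
  rintro y
  obtain ⟨⟨x, hx⟩, rfl⟩ := Ideal.Quotient.mk_surjective y
  haveI := hCβ.1
  have hxint : IsIntegral A x := hx
  haveI : Module.Finite A (Algebra.adjoin A {x}) :=
    Module.Finite.iff_fg.mpr hxint.fg_adjoin_singleton
  let C : Subalgebra A K' := Cβ ⊔ Algebra.adjoin A {x}
  have hC : P C := P_of_le hCβ le_sup_left (Subalgebra.finite_sup _ _)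
  have hle : Cβ ≤ C := le_sup_left
  have hCA' : C ≤ integralClosure A K' :=
    sup_le hint (Algebra.adjoin_le (Set.singleton_subset_iff.mpr hx))
  have hxC : x ∈ C :=
    (le_sup_right : Algebra.adjoin A {x} ≤ C) (Algebra.self_mem_adjoin_singleton A x)
  let θ : ↥C ⊗[A] B →ₐ[A] (integralClosure A K' ⧸ m') :=
    Algebra.TensorProduct.productMap
      ((Ideal.Quotient.mkₐ A m').comp (Subalgebra.inclusion hCA')) (σ.comp β)
  obtain ⟨x', hx'⟩ := hb C hC hle ((⟨x, hxC⟩ : C) ⊗ₜ[A] (1 : B))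
  have h1 : θ (Algebra.TensorProduct.map (Subalgebra.inclusion hle) (AlgHom.id A B) x') =
      θ ((⟨x, hxC⟩ : C) ⊗ₜ[A] (1 : B)) := by
    have := (hx'.map θ).eq_zero
    rwa [map_sub, sub_eq_zero] at this
  have h2 : θ ((⟨x, hxC⟩ : C) ⊗ₜ[A] (1 : B)) =
      Ideal.Quotient.mk m' (⟨x, hx⟩ : integralClosure A K') := by
    simp only [θ, Algebra.TensorProduct.productMap_apply_tmul, map_one, mul_one]
    rfl
  have h3 : ∀ z : ↥Cβ ⊗[A] B, ∃ c : Cβ,
      ((Ideal.Quotient.mkₐ A m').comp (Subalgebra.inclusion hint)) c =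
      θ (Algebra.TensorProduct.map (Subalgebra.inclusion hle) (AlgHom.id A B) z) := by
    intro z
    induction z using TensorProduct.induction_on with
    | zero => exact ⟨0, by simp⟩
    | tmul c b =>
      obtain ⟨a, ha⟩ := Ideal.Quotient.mk_surjective (β b)
      refine ⟨a • c, ?_⟩
      simp only [θ, Algebra.TensorProduct.map_tmul, AlgHom.coe_id, id_eq,
        Algebra.TensorProduct.productMap_apply_tmul, AlgHom.comp_apply, ← ha]
      rw [map_smul, map_smul]
      have : σ (Ideal.Quotient.mk (IsLocalRing.maximalIdeal A) a) =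
          algebraMap A (integralClosure A K' ⧸ m') a := by
        simp [σ]
      rw [this, Algebra.smul_def, mul_comm]
      rfl
    | add z w hz hw =>
      obtain ⟨c, hc⟩ := hz
      obtain ⟨d, hd⟩ := hw
      exact ⟨c + d, by rw [map_add, map_add, map_add, hc, hd]⟩
  obtain ⟨c, hc⟩ := h3 x'
  exact ⟨c, by rw [hc, h1, h2]⟩

end Residue

end Groth.Agent.Lib.Helper88.FinSubalg
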