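import Mathlib

/-!
# Abstract Krull families of discrete valuations

`w : ι → Valuation K ℤᵐ⁰` a family of valuations of a field `K` and `O` a subring with
`x ∈ O ↔ ∀ i, w i x ≤ 1` and finite character.
-/

namespace Groth.Agent.Lib.Helper88.Krull

open scoped WithZero

section ZM0

theorem exists_pow_mul_pow_eq_one {a b : ℤᵐ⁰} (ha : 1 < a) (hb : b < 1) (hb0 : b ≠ 0) :
    ∃ n m : ℕ, 0 < n ∧ 0 < m ∧ a ^ n * b ^ m = 1 := by
  have ha0 : a ≠ 0 := (zero_lt_one.trans ha).ne'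
  obtain ⟨α, rfl⟩ : ∃ α, a = WithZero.exp α := ⟨_, (WithZero.exp_log ha0).symm⟩
  obtain ⟨β, rfl⟩ : ∃ β, b = WithZero.exp β := ⟨_, (WithZero.exp_log hb0).symm⟩
  have hα : 0 < α := by
    rw [← WithZero.exp_zero, WithZero.exp_lt_exp] at ha
    exact ha
  have hβ : β < 0 := by
    rw [← WithZero.exp_zero, WithZero.exp_lt_exp] at hb
    exact hb
  refine ⟨(-β).toNat, α.toNat, by omega, by omega, ?_⟩
  rw [← WithZero.exp_nsmul, ← WithZero.exp_nsmul, ← WithZero.exp_add, WithZero.exp_eq_one]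
  have h1 : (((-β).toNat : ℕ) : ℤ) = -β := Int.toNat_of_nonneg (by omega)
  have h2 : ((α.toNat : ℕ) : ℤ) = α := Int.toNat_of_nonneg (by omega)
  rw [← natCast_zsmul, ← natCast_zsmul, h1, h2, smul_eq_mul, smul_eq_mul]
  ring

theorem exists_pow_mul_le_one {b : ℤᵐ⁰} (hb : b < 1) (y : ℤᵐ⁰) : ∃ n : ℕ, b ^ n * y ≤ 1 := by
  rcases eq_or_ne y 0 with rfl | hy
  · exact ⟨0, by simp⟩
  rcases eq_or_ne b 0 with rfl | hb0
  · exact ⟨1, by simp⟩
  obtain ⟨γ, rfl⟩ : ∃ γ, y = WithZero.exp γ := ⟨_, (WithZero.exp_log hy).symm⟩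
  obtain ⟨β, rfl⟩ : ∃ β, b = WithZero.exp β := ⟨_, (WithZero.exp_log hb0).symm⟩
  have hβ : β < 0 := by
    rw [← WithZero.exp_zero, WithZero.exp_lt_exp] at hb
    exact hb
  refine ⟨γ.toNat, ?_⟩
  rw [← WithZero.exp_nsmul, ← WithZero.exp_add, ← WithZero.exp_zero, WithZero.exp_le_exp]
  rw [← natCast_zsmul, smul_eq_mul]
  rcases le_or_gt γ 0 with h | h
  · rw [Int.toNat_of_nonpos h]; simpa using h
  · rw [Int.toNat_of_nonneg h.le]
    nlinarith

end ZM0

section Family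

variable {K : Type*} [Field K] {ι : Type*} (w : ι → Valuation K ℤᵐ⁰) (O : Subring K)
  (hO : ∀ x, x ∈ O ↔ ∀ i, w i x ≤ 1)
  (hfin : ∀ x : K, x ≠ 0 → {i | 1 < w i x}.Finite)

include hO hfin in
/-- **Localization of a Krull family.** -/
theorem exists_mul_mem (S : Submonoid K) (hS : (S : Set K) ⊆ O) (x : K)
    (h : ∀ i, 1 < w i x → ∃ u ∈ S, w i u < 1) : ∃ s ∈ S, s * x ∈ O := by
  classical
  rcases eq_or_ne x 0 with rfl | hx
  · exact ⟨1, S.one_mem, by simp⟩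
  choose! u huS hu using h
  have hn : ∀ i, ∃ n : ℕ, 1 < w i x → w i (u i) ^ n * w i x ≤ 1 := by
    intro i
    by_cases hi : 1 < w i x
    · obtain ⟨n, hn⟩ := exists_pow_mul_le_one (hu i hi) (w i x)
      exact ⟨n, fun _ => hn⟩
    · exact ⟨0, fun h => absurd h hi⟩
  choose n hn using hn
  set N := (hfin x hx).toFinset with hN
  refine ⟨∏ i ∈ N, u i ^ n i, ?_, ?_⟩
  · refine S.prod_mem (fun i hi => S.pow_mem (huS i ?_) _)
    exact (hfin x hx).mem_toFinset.1 hi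
  · rw [hO]
    intro j
    have hle : ∀ i ∈ N, w j (u i ^ n i) ≤ 1 := by
      intro i hi
      have : u i ∈ O := hS (huS i ((hfin x hx).mem_toFinset.1 hi))
      rw [map_pow]
      exact pow_le_one₀ zero_le' ((hO _).1 this j)
    by_cases hj : 1 < w j x
    · have hjN : j ∈ N := (hfin x hx).mem_toFinset.2 hj
      rw [← Finset.mul_prod_erase N _ hjN, mul_comm (u j ^ n j), mul_assoc, map_mul]
      have h1 : w j (∏ i ∈ N.erase j, u i ^ n i) ≤ 1 := by
        rw [map_prod]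
        exact Finset.prod_le_one' (fun i hi => hle i (Finset.mem_of_mem_erase hi))
      have h2 : w j (u j ^ n j * x) ≤ 1 := by
        rw [map_mul, map_pow]
        exact hn j hj
      exact mul_le_one' h1 h2
    · rw [map_mul]
      have h1 : w j (∏ i ∈ N, u i ^ n i) ≤ 1 := by
        rw [map_prod]
        exact Finset.prod_le_one' (fun i hi => hle i hi)
      exact mul_le_one' h1 (not_lt.1 hj)

include hO in
/-- the `t`-construction -/
theorem exists_mem_eq_one (j : ι) (y : K) (hy : 1 < w j y) (hy' : ∀ i, i ≠ j → w i y ≤ 1)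
    (z : K) (hz : z ∈ O) (hz0 : z ≠ 0) (hzj : w j z < 1) :
    ∃ t ∈ O, w j t = 1 ∧ ∀ i, i ≠ j → w i z < 1 → w i t < 1 := by
  have hz0' : w j z ≠ 0 := (Valuation.ne_zero_iff _).2 hz0
  obtain ⟨n, m, hn, hm, hnm⟩ := exists_pow_mul_pow_eq_one hy hzj hz0'
  have hzO := (hO z).1 hz
  have key : ∀ i, i ≠ j → w i (y ^ n * z ^ m) ≤ w i z := by
    intro i hi
    rw [map_mul, map_pow, map_pow]
    calc w i y ^ n * w i z ^ m ≤ 1 * w i z ^ m :=
          mul_le_mul' (pow_le_one₀ zero_le' (hy' i hi)) le_rfl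
      _ = w i z ^ m := one_mul _
      _ ≤ w i z ^ 1 := pow_le_pow_of_le_one zero_le' (hzO i) hm
      _ = w i z := pow_one _
  have hj : w j (y ^ n * z ^ m) = 1 := by rw [map_mul, map_pow, map_pow, hnm]
  refine ⟨y ^ n * z ^ m, ?_, hj, fun i hi hiz => lt_of_le_of_lt (key i hi) hiz⟩
  rw [hO]
  intro i
  by_cases hi : i = j
  · rw [hi, hj]
  · exact (key i hi).trans (hzO i)

end Family

end Groth.Agent.Lib.Helper88.Krull
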