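import Groth.Agent.Lib.Helper88.S1Lift1
import Groth.Agent.Lib.Helper88.AnUnram2
import Mathlib

/-!
# Associated primes and flat base change (Bourbaki-lite)
-/

universe u

namespace Groth.Agent.Lib.Helper88.S1Lift

open TensorProduct

section FlatAss

variable {D E : Type u} [CommRing D] [IsNoetherianRing D] [CommRing E] [IsNoetherianRing E]
  [Algebra D E] [Module.Flat D E]

/-- associated primes of `E ⧸ P E` contract to `P` (`P` prime, `E` flat) -/
theorem comap_eq_of_mem_ass_quotient_map (P : Ideal D) [P.IsPrime] {Q : Ideal E}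
    (hQ : Q ∈ associatedPrimes E (E ⧸ P.map (algebraMap D E))) :
    Q.comap (algebraMap D E) = P := by
  obtain ⟨hp, x, hx⟩ := (mem_ass_quotient_iff _ Q).1 hQ
  have hxn : x ∉ P.map (algebraMap D E) := by
    intro hmem
    have : (1 : E) ∈ Q := (hx 1).2 (by rwa [one_mul])
    exact hp.ne_top ((Ideal.eq_top_iff_one Q).2 this)
  apply le_antisymm
  · intro a ha
    by_contra haP
    have hreg : IsSMulRegular (D ⧸ P) a := by
      rw [isSMulRegular_iff_right_eq_zero_of_smul]
      intro m hm
      obtain ⟨b, rfl⟩ := Ideal.Quotient.mk_surjective m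
      have : Ideal.Quotient.mk P (a * b) = 0 := hm
      rw [Ideal.Quotient.eq_zero_iff_mem] at this ⊢
      exact (Ideal.IsPrime.mem_or_mem inferInstance this).resolve_left haP
    have hreg2 : IsSMulRegular (E ⊗[D] (D ⧸ P)) a := IsSMulRegular.lTensor E hreg
    let e := Algebra.TensorProduct.quotIdealMapEquivTensorQuot E P
    have hreg3 : IsSMulRegular (E ⧸ P.map (algebraMap D E)) a :=
      (e.toLinearEquiv.restrictScalars D).isSMulRegular_congr a |>.mpr hreg2
    apply hxn
    rw [← Ideal.Quotient.eq_zero_iff_mem]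
    apply hreg3
    change a • (Ideal.Quotient.mk (Ideal.map (algebraMap D E) P)) x = a • 0
    rw [smul_zero, Algebra.smul_def,
      IsScalarTower.algebraMap_apply D E (E ⧸ Ideal.map (algebraMap D E) P),
      Ideal.Quotient.algebraMap_eq, ← map_mul, Ideal.Quotient.eq_zero_iff_mem]
    exact (hx _).1 ha
  · intro a ha
    rw [Ideal.mem_comap, hx]
    exact Ideal.mul_mem_right _ _ (Ideal.mem_map_of_mem _ ha)

/-- **Bourbaki-lite**: an associated prime of `E ⊗ N` (`E` flat over `D`, `N` finite) is an
associated prime of `E ⧸ P E` for a prime `P ⊇ ann N`, and it contracts to `P`. -/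
theorem exists_prime_of_mem_ass_tensor (N : Type u) [AddCommGroup N] [Module D N]
    [hN : Module.Finite D N] :
    ∀ Q ∈ associatedPrimes E (E ⊗[D] N), ∃ P : Ideal D, P.IsPrime ∧
      Module.annihilator D N ≤ P ∧ Q ∈ associatedPrimes E (E ⧸ P.map (algebraMap D E)) ∧
      Q.comap (algebraMap D E) = P := by
  induction hN using IsNoetherianRing.induction_on_isQuotientEquivQuotientPrime D with
  | subsingleton N =>
    intro Q hQ
    rw [associatedPrimes.eq_empty_of_subsingleton] at hQ
    exact absurd hQ (Set.notMem_empty _)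
  | quotient N p f =>
    intro Q hQ
    haveI := p.2
    refine ⟨p.1, p.2, ?_, ?_, ?_⟩
    · intro a ha
      have h1 : a • (f.symm (Ideal.Quotient.mk p.1 1)) = 0 := Module.mem_annihilator.1 ha _
      have h2 : a • (Ideal.Quotient.mk p.1 (1 : D)) = 0 := by
        have := congrArg f h1
        rwa [map_smul, LinearEquiv.apply_symm_apply, map_zero] at this
      have h3 : Ideal.Quotient.mk p.1 (a * 1) = 0 := h2
      rw [mul_one, Ideal.Quotient.eq_zero_iff_mem] at h3
      exact h3
    · let e1 : E ⊗[D] N ≃ₗ[E] E ⊗[D] (D ⧸ p.1) :=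
        TensorProduct.AlgebraTensorModule.congr (LinearEquiv.refl E E) f
      let e2 := (Algebra.TensorProduct.quotIdealMapEquivTensorQuot E p.1).toLinearEquiv
      rw [LinearEquiv.AssociatedPrimes.eq (e1.trans e2.symm)] at hQ
      exact hQ
    · let e1 : E ⊗[D] N ≃ₗ[E] E ⊗[D] (D ⧸ p.1) :=
        TensorProduct.AlgebraTensorModule.congr (LinearEquiv.refl E E) f
      let e2 := (Algebra.TensorProduct.quotIdealMapEquivTensorQuot E p.1).toLinearEquiv
      rw [LinearEquiv.AssociatedPrimes.eq (e1.trans e2.symm)] at hQ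
      exact comap_eq_of_mem_ass_quotient_map p.1 hQ
  | exact N₁ N₂ N₃ f g hf hg hfg ih₁ ih₃ =>
    intro Q hQ
    have hinj : Function.Injective (f.baseChange E) := by
      have := Module.Flat.lTensor_preserves_injective_linearMap (M := E) f hf
      intro x y hxy
      apply this
      simpa [LinearMap.baseChange_eq_ltensor] using hxy
    have hex : Function.Exact (f.baseChange E) (g.baseChange E) := by
      have := lTensor_exact E hfg hg
      intro y
      have h := this y
      simpa [LinearMap.baseChange_eq_ltensor] using h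
    have hsub := associatedPrimes.subset_union_of_exact hinj hex hQ
    rcases hsub with h | h
    · obtain ⟨P, hP, hann, h1, h2⟩ := ih₁ Q h
      refine ⟨P, hP, ?_, h1, h2⟩
      refine le_trans ?_ hann
      intro a ha
      rw [Module.mem_annihilator] at ha ⊢
      intro n
      apply hf
      rw [map_smul, ha, map_zero]
    · obtain ⟨P, hP, hann, h1, h2⟩ := ih₃ Q h
      refine ⟨P, hP, ?_, h1, h2⟩
      refine le_trans ?_ hann
      intro a ha
      rw [Module.mem_annihilator] at ha ⊢
      intro n
      obtain ⟨m, rfl⟩ := hg n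
      rw [← map_smul, ha, map_zero]

/-- ideal form -/
theorem exists_prime_of_mem_ass_quotient_map (I : Ideal D) :
    ∀ Q ∈ associatedPrimes E (E ⧸ I.map (algebraMap D E)), ∃ P : Ideal D, P.IsPrime ∧
      I ≤ P ∧ Q ∈ associatedPrimes E (E ⧸ P.map (algebraMap D E)) ∧
      Q.comap (algebraMap D E) = P := by
  intro Q hQ
  let e2 := (Algebra.TensorProduct.quotIdealMapEquivTensorQuot E I).toLinearEquiv
  rw [LinearEquiv.AssociatedPrimes.eq e2] at hQ
  obtain ⟨P, hP, hann, h1, h2⟩ := exists_prime_of_mem_ass_tensor (D ⧸ I) Q hQ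
  refine ⟨P, hP, ?_, h1, h2⟩
  rwa [Ideal.annihilator_quotient] at hann

/-- flat base change of regularity on `D ⧸ I` -/
theorem mem_map_of_isSMulRegular (I : Ideal D) {s : D} (hs : IsSMulRegular (D ⧸ I) s) {y : E}
    (hy : algebraMap D E s * y ∈ I.map (algebraMap D E)) : y ∈ I.map (algebraMap D E) := by
  have hreg2 : IsSMulRegular (E ⊗[D] (D ⧸ I)) s := IsSMulRegular.lTensor E hs
  let e := Algebra.TensorProduct.quotIdealMapEquivTensorQuot E I
  have hreg3 : IsSMulRegular (E ⧸ I.map (algebraMap D E)) s :=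
    (e.toLinearEquiv.restrictScalars D).isSMulRegular_congr s |>.mpr hreg2
  rw [← Ideal.Quotient.eq_zero_iff_mem]
  apply hreg3
  change s • (Ideal.Quotient.mk (Ideal.map (algebraMap D E) I)) y = s • 0
  rw [smul_zero, Algebra.smul_def,
    IsScalarTower.algebraMap_apply D E (E ⧸ Ideal.map (algebraMap D E) I),
    Ideal.Quotient.algebraMap_eq, ← map_mul, Ideal.Quotient.eq_zero_iff_mem]
  exact hy

end FlatAss

section Normal

variable {S : Type*} [CommRing S] [IsDomain S] [IsNoetherianRing S] [IsIntegrallyClosed S]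

/-- associated primes of nonzero principal ideals in a normal Noetherian domain have height `≤ 1` -/
theorem height_le_one_of_mem_ass {x : S} (hx : x ≠ 0) {p : Ideal S}
    (hp : p ∈ associatedPrimes S (S ⧸ Ideal.span {x})) : p.height ≤ 1 := by
  haveI : p.IsPrime := hp.isPrime
  obtain ⟨-, π, hπ, v, hv, hg⟩ := AnUnram2.exists_uniformizer_of_mem_associatedPrimes hx hp
  have hmin : p ∈ (Ideal.span {π}).minimalPrimes := by
    refine ⟨⟨inferInstance, (Ideal.span_singleton_le_iff_mem _).2 hπ⟩, ?_⟩
    rintro q ⟨hq, hπq⟩ hqp g hgp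
    obtain ⟨c, hc⟩ := hg g hgp
    have h1 : v * g ∈ q := by
      rw [hc]; exact Ideal.mul_mem_right _ _ ((Ideal.span_singleton_le_iff_mem _).1 hπq)
    exact (hq.mem_or_mem h1).resolve_left (fun hvq => hv (hqp hvq))
  exact Ideal.height_le_one_of_isPrincipal_of_mem_minimalPrimes (Ideal.span {π}) p hmin

end Normal

end Groth.Agent.Lib.Helper88.S1Lift
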