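import Groth.Agent.Lib.Helper88.KrullA
import Groth.Agent.Lib.Helper88.S1Lift2
import Mathlib

/-!
# The discrete valuations of a Noetherian normal domain attached to its height-one primes
-/

namespace Groth.Agent.Lib.Helper88.Krull

open scoped WithZero
open IsLocalRing

section HeightOne

variable {D : Type*} [CommRing D] [IsDomain D]

theorem eq_of_le_of_height_eq_one {Q P : Ideal D} [Q.IsPrime] [P.IsPrime] (hQ : Q.height = 1)
    (hPQ : P ≤ Q) (hP : P ≠ ⊥) : P = Q := by
  by_contra hne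
  have hlt : P < Q := lt_of_le_of_ne hPQ hne
  haveI : Q.FiniteHeight := ⟨Or.inr (by rw [hQ]; exact ENat.one_ne_top)⟩
  have h1 := Ideal.height_strict_mono_of_isPrime_of_isPrime hlt
  rw [hQ] at h1
  have h0 : P.height = 0 := ENat.lt_one_iff_eq_zero.1 h1
  rw [Ideal.height_eq_zero_iff_eq_bot] at h0
  exact hP h0

theorem height_eq_one_of_forall {Q : Ideal D} [Q.IsPrime] (hQ : Q ≠ ⊥)
    (h : ∀ P : Ideal D, P.IsPrime → P < Q → P = ⊥) : Q.height = 1 := by
  apply le_antisymm
  · rw [show (1 : ℕ∞) = ((1 : ℕ) : ℕ∞) from rfl, Ideal.height_le_iff]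
    intro P hP hPQ
    rw [h P hP hPQ, Ideal.height_bot]
    exact zero_lt_one
  · rw [Order.one_le_iff_ne_zero, Ne, Ideal.height_eq_zero_iff_eq_bot]
    exact hQ

end HeightOne

section DVR

variable (D : Type*) [CommRing D] [IsDomain D] [IsNoetherianRing D] [IsIntegrallyClosed D]
  (L : Type*) [Field L] [Algebra D L] [IsFractionRing D L]
  (Q : Ideal D) [Q.IsPrime]

/-- the localization at `Q` as a subalgebra of the fraction field -/
noncomputable abbrev WQ : Subalgebra D L :=
  Localization.subalgebra.ofField L Q.primeCompl Q.primeCompl_le_nonZeroDivisors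

theorem mem_WQ_iff (y : L) :
    y ∈ WQ D L Q ↔ ∃ (a s : D), s ∉ Q ∧ y = algebraMap D L a * (algebraMap D L s)⁻¹ := by
  constructor
  · rintro ⟨a, s, hs, rfl⟩
    exact ⟨a, s, hs, rfl⟩
  · rintro ⟨a, s, hs, rfl⟩
    exact ⟨a, s, hs, rfl⟩

instance : IsLocalization.AtPrime (WQ D L Q) Q :=
  Localization.subalgebra.isLocalization_ofField L Q.primeCompl Q.primeCompl_le_nonZeroDivisors

noncomputable instance : IsLocalRing (WQ D L Q) := IsLocalization.AtPrime.isLocalRing (WQ D L Q) Q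

instance : IsNoetherianRing (WQ D L Q) :=
  IsLocalization.isNoetherianRing Q.primeCompl (WQ D L Q) inferInstance

instance : IsIntegrallyClosed (WQ D L Q) :=
  isIntegrallyClosed_of_isLocalization (WQ D L Q) Q.primeCompl Q.primeCompl_le_nonZeroDivisors

variable (hQ : Q.height = 1)

include hQ in
theorem isDiscreteValuationRing_WQ : IsDiscreteValuationRing (WQ D L Q) := by
  have hmax : maximalIdeal (WQ D L Q) ≠ ⊥ := by
    rw [← IsLocalization.AtPrime.map_eq_maximalIdeal Q (WQ D L Q)]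
    intro h
    have hQ0 : Q ≠ ⊥ := Ideal.ne_bot_of_height_eq_one hQ
    apply hQ0
    rw [eq_bot_iff]
    intro x hx
    have : algebraMap D (WQ D L Q) x ∈ Q.map (algebraMap D (WQ D L Q)) := Ideal.mem_map_of_mem _ hx
    rw [h, Ideal.mem_bot] at this
    rw [Ideal.mem_bot]
    exact IsLocalization.injective (WQ D L Q) Q.primeCompl_le_nonZeroDivisors
      (by rw [this, map_zero])
  have hnf : ¬ IsField (WQ D L Q) := fun h => hmax (isField_iff_maximalIdeal_eq.1 h)
  suffices key : IsIntegrallyClosed (WQ D L Q) ∧ ∃! P : Ideal (WQ D L Q), P ≠ ⊥ ∧ P.IsPrime from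
    ((IsDiscreteValuationRing.TFAE (WQ D L Q) hnf).out 0 3).2 key
  refine ⟨inferInstance, ?_⟩
  refine ⟨maximalIdeal (WQ D L Q), ?_, ?_⟩
  · exact ⟨hmax, (maximalIdeal.isMaximal _).isPrime⟩
  rintro P ⟨hP0, hP⟩
  have h1 : (P.comap (algebraMap D (WQ D L Q))).map (algebraMap D (WQ D L Q)) = P :=
    IsLocalization.map_comap Q.primeCompl (WQ D L Q) P
  haveI : (P.comap (algebraMap D (WQ D L Q))).IsPrime := Ideal.comap_isPrime _ P
  have h2 : P.comap (algebraMap D (WQ D L Q)) ≤ Q := by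
    intro x hx
    by_contra hxQ
    have hu : IsUnit (algebraMap D (WQ D L Q) x) :=
      IsLocalization.map_units (WQ D L Q) (⟨x, hxQ⟩ : Q.primeCompl)
    exact hP.ne_top (Ideal.eq_top_of_isUnit_mem _ hx hu)
  have h3 : P.comap (algebraMap D (WQ D L Q)) ≠ ⊥ := by
    intro h
    rw [h, Ideal.map_bot] at h1
    exact hP0 h1.symm
  rw [← h1, eq_of_le_of_height_eq_one hQ h2 h3, IsLocalization.AtPrime.map_eq_maximalIdeal]

/-- the valuation at a height-one prime -/
noncomputable def vQ : Valuation L ℤᵐ⁰ :=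
  haveI := isDiscreteValuationRing_WQ D L Q hQ
  (IsDiscreteValuationRing.maximalIdeal (WQ D L Q)).valuation L

theorem vQ_le_one_iff (y : L) : vQ D L Q hQ y ≤ 1 ↔ y ∈ WQ D L Q := by
  haveI := isDiscreteValuationRing_WQ D L Q hQ
  constructor
  · intro h
    obtain ⟨a, ha⟩ := IsDiscreteValuationRing.exists_lift_of_le_one h
    rw [← ha]
    exact a.2
  · intro h
    exact IsDedekindDomain.HeightOneSpectrum.valuation_le_one _ (⟨y, h⟩ : WQ D L Q)

theorem vQ_algebraMap_le_one (d : D) : vQ D L Q hQ (algebraMap D L d) ≤ 1 := by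
  rw [vQ_le_one_iff]
  exact (algebraMap D (WQ D L Q) d).2

theorem vQ_algebraMap_lt_one_iff (d : D) : vQ D L Q hQ (algebraMap D L d) < 1 ↔ d ∈ Q := by
  haveI := isDiscreteValuationRing_WQ D L Q hQ
  have h1 : (IsDedekindDomain.HeightOneSpectrum.valuation L
      (IsDiscreteValuationRing.maximalIdeal (WQ D L Q))) (algebraMap D L d) < 1 ↔
      algebraMap D (WQ D L Q) d ∈ (IsDiscreteValuationRing.maximalIdeal (WQ D L Q)).asIdeal :=
    IsDedekindDomain.HeightOneSpectrum.valuation_lt_one_iff_mem (K := L)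
      (IsDiscreteValuationRing.maximalIdeal (WQ D L Q)) (algebraMap D (WQ D L Q) d)
  rw [vQ, h1]
  exact IsLocalization.AtPrime.to_map_mem_maximal_iff (WQ D L Q) Q d

end DVR

section Family

variable (D : Type*) [CommRing D] [IsDomain D] [IsNoetherianRing D] [IsIntegrallyClosed D]
  (L : Type*) [Field L] [Algebra D L] [IsFractionRing D L]

/-- the height-one primes -/
abbrev H1 : Type _ := {Q : Ideal D // Q.IsPrime ∧ Q.height = 1}

instance (Q : H1 D) : Q.1.IsPrime := Q.2.1

/-- the valuation attached to a height-one prime -/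
noncomputable def vH (Q : H1 D) : Valuation L ℤᵐ⁰ := vQ D L Q.1 Q.2.2

theorem vH_le_one_iff (Q : H1 D) (y : L) :
    vH D L Q y ≤ 1 ↔ ∃ (a s : D), s ∉ Q.1 ∧ y = algebraMap D L a * (algebraMap D L s)⁻¹ := by
  rw [vH, vQ_le_one_iff, mem_WQ_iff]

theorem vH_algebraMap_le_one (Q : H1 D) (d : D) : vH D L Q (algebraMap D L d) ≤ 1 :=
  vQ_algebraMap_le_one D L Q.1 Q.2.2 d

theorem vH_algebraMap_lt_one_iff (Q : H1 D) (d : D) :
    vH D L Q (algebraMap D L d) < 1 ↔ d ∈ Q.1 :=
  vQ_algebraMap_lt_one_iff D L Q.1 Q.2.2 d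

/-- a Noetherian normal domain is the intersection of its localizations at height-one primes -/
theorem exists_algebraMap_eq_of_forall_vH_le_one (y : L) (h : ∀ Q : H1 D, vH D L Q y ≤ 1) :
    ∃ d : D, algebraMap D L d = y := by
  obtain ⟨a, b, hb, rfl⟩ := IsFractionRing.div_surjective (A := D) y
  have hb0 : b ≠ 0 := nonZeroDivisors.ne_zero hb
  have hbL : algebraMap D L b ≠ 0 := by
    rwa [Ne, map_eq_zero_iff _ (IsFractionRing.injective D L)]
  by_cases hab : a ∈ Ideal.span {b}
  · obtain ⟨c, rfl⟩ := Ideal.mem_span_singleton'.1 hab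
    exact ⟨c, by rw [map_mul, mul_div_assoc, div_self hbL, mul_one]⟩
  exfalso
  have hne : (Ideal.Quotient.mk (Ideal.span {b}) a) ≠ 0 := by
    rwa [Ne, Ideal.Quotient.eq_zero_iff_mem]
  obtain ⟨P, hP, hle⟩ := exists_le_isAssociatedPrime_of_isNoetherianRing D
    (Ideal.Quotient.mk (Ideal.span {b}) a) hne
  haveI : P.IsPrime := hP.isPrime
  have hPass : P ∈ associatedPrimes D (D ⧸ Ideal.span {b}) := hP
  have hbP : b ∈ P := by
    apply hle
    rw [Submodule.mem_colon_singleton, Submodule.mem_bot]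
    change Ideal.Quotient.mk (Ideal.span {b}) (b * a) = 0
    rw [Ideal.Quotient.eq_zero_iff_mem]
    exact Ideal.mul_mem_right _ _ (Ideal.mem_span_singleton_self b)
  have hP0 : P ≠ ⊥ := fun h0 => hb0 (by rwa [h0, Ideal.mem_bot] at hbP)
  have hht : P.height = 1 := by
    apply le_antisymm (S1Lift.height_le_one_of_mem_ass hb0 hPass)
    rw [Order.one_le_iff_ne_zero, Ne, Ideal.height_eq_zero_iff_eq_bot]
    exact hP0
  obtain ⟨a', s, hs, hy⟩ := (vH_le_one_iff D L ⟨P, inferInstance, hht⟩ _).1 (h ⟨P, inferInstance, hht⟩)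
  have hsL : algebraMap D L s ≠ 0 := by
    rw [Ne, map_eq_zero_iff _ (IsFractionRing.injective D L)]
    rintro rfl
    exact hs P.zero_mem
  have heq : a * s = a' * b := by
    apply IsFractionRing.injective D L
    rw [map_mul, map_mul]
    field_simp at hy
    linear_combination hy
  apply hs
  apply hle
  rw [Submodule.mem_colon_singleton, Submodule.mem_bot]
  change Ideal.Quotient.mk (Ideal.span {b}) (s * a) = 0
  rw [Ideal.Quotient.eq_zero_iff_mem, mul_comm, heq]
  exact Ideal.mul_mem_left _ _ (Ideal.mem_span_singleton_self b)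

omit [IsIntegrallyClosed D] in
theorem finite_setOf_mem (b : D) (hb0 : b ≠ 0) : {Q : H1 D | b ∈ Q.1}.Finite := by
  have hfin := Ideal.finite_minimalPrimes_of_isNoetherianRing D (Ideal.span {b})
  refine Set.Finite.of_finite_image (f := fun Q : H1 D => Q.1) (hfin.subset ?_)
    (fun Q _ Q' _ h => Subtype.ext h)
  rintro _ ⟨Q, hbQ, rfl⟩
  refine ⟨⟨inferInstance, (Ideal.span_singleton_le_iff_mem _).2 hbQ⟩, ?_⟩
  rintro P ⟨hP, hbP⟩ hPQ
  haveI := hP
  have hP0 : P ≠ ⊥ := by
    rintro rfl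
    exact hb0 (by simpa using (Ideal.span_singleton_le_iff_mem _).1 hbP)
  exact (eq_of_le_of_height_eq_one Q.2.2 hPQ hP0).ge

theorem finite_setOf_one_lt_vH (y : L) (hy : y ≠ 0) : {Q : H1 D | 1 < vH D L Q y}.Finite := by
  obtain ⟨a, b, hb, rfl⟩ := IsFractionRing.div_surjective (A := D) y
  have hb0 : b ≠ 0 := nonZeroDivisors.ne_zero hb
  refine (finite_setOf_mem D b hb0).subset ?_
  intro Q hQ
  show b ∈ Q.1
  have hbQ : b ∈ Q.1 := by
    rw [← vH_algebraMap_lt_one_iff D L Q b]
    by_contra hnot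
    have h1 : vH D L Q (algebraMap D L b) = 1 :=
      le_antisymm (vH_algebraMap_le_one D L Q b) (not_lt.1 hnot)
    have : vH D L Q (algebraMap D L a / algebraMap D L b) ≤ 1 := by
      rw [map_div₀, h1, div_one]
      exact vH_algebraMap_le_one D L Q a
    exact absurd hQ (not_lt.2 this)
  exact hbQ

end Family

end Groth.Agent.Lib.Helper88.Krull
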