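import Groth.Agent.Lib.Helper88.KrullB
import Groth.Agent.Lib.Helper88.NormBC4
import Mathlib

/-!
# The Krull family of the integral closure of a Noetherian local domain
-/

universe u

namespace Groth.Agent.Lib.Helper88.Krull

open scoped WithZero
open IsLocalRing NormBC

section Concrete

variable (A : Type u) [CommRing A] [IsDomain A] [IsNoetherianRing A] (m : Ideal A) [m.IsPrime]
  (K : Type u) [Field K] [Algebra A K] [IsFractionRing A K]

/-- the index set of the family: height-one primes of the normalized branches -/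
abbrev Idx : Type u := Σ P : MinP A m, H1 (DD A m P)

/-- the valuations on `K` -/
noncomputable def wv (q : Idx A m) : Valuation K ℤᵐ⁰ :=
  (vH (DD A m q.1) (LL A m q.1) q.2).comap (phi A m K q.1).toRingHom

theorem wv_apply (q : Idx A m) (x : K) :
    wv A m K q x = vH (DD A m q.1) (LL A m q.1) q.2 (phi A m K q.1 x) := rfl

theorem isIntegral_phi (P : MinP A m) {x : K} (hx : IsIntegral A x) :
    IsIntegral (Rhat A m ⧸ P.1) (phi A m K P x) :=
  (hx.map (phi A m K P)).tower_top

theorem wv_le_one_of_isIntegral (q : Idx A m) {x : K} (hx : IsIntegral A x) :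
    wv A m K q x ≤ 1 := by
  rw [wv_apply]
  have h := isIntegral_phi A m K q.1 hx
  have : phi A m K q.1 x = algebraMap (DD A m q.1) (LL A m q.1) ⟨_, h⟩ := rfl
  rw [this]
  exact vH_algebraMap_le_one _ _ _ _

theorem exists_isIntegral_of_forall_wv_le_one (x : K) (h : ∀ q : Idx A m, wv A m K q x ≤ 1) :
    ∃ u : A, u ∉ m ∧ IsIntegral A (algebraMap A K u * x) := by
  apply exists_isIntegral_of_mem_N₁
  rw [mem_N₁_iff]
  intro P
  exact exists_algebraMap_eq_of_forall_vH_le_one (DD A m P) (LL A m P) _ (fun Q => h ⟨P, Q⟩)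

theorem finite_setOf_one_lt_wv (x : K) (hx : x ≠ 0) : {q : Idx A m | 1 < wv A m K q x}.Finite := by
  have h1 : {q : Idx A m | 1 < wv A m K q x} =
      ⋃ P : MinP A m, (Sigma.mk P) ''
        {Q : H1 (DD A m P) | 1 < vH (DD A m P) (LL A m P) Q (phi A m K P x)} := by
    ext ⟨P, Q⟩
    simp only [Set.mem_setOf_eq, Set.mem_iUnion, Set.mem_image, wv_apply]
    constructor
    · intro h
      exact ⟨P, Q, h, rfl⟩
    · rintro ⟨P', Q', h, heq⟩
      cases heq
      exact h
  rw [h1]
  apply Set.finite_iUnion
  intro P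
  apply Set.Finite.image
  apply finite_setOf_one_lt_vH
  rw [Ne, map_eq_zero_iff (phi A m K P) (phi A m K P).toRingHom.injective]
  exact hx

end Concrete

end Groth.Agent.Lib.Helper88.Krull
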