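import Groth.Agent.Lib.Helper88.KrullC
import Mathlib

/-!
# Good and bad members of the Krull family
-/

universe u

namespace Groth.Agent.Lib.Helper88.Krull

open scoped WithZero TensorProduct
open IsLocalRing NormBC

section FlatColon

variable {A R' : Type*} [CommRing A] [CommRing R'] [Algebra A R'] [Module.Flat A R']

theorem tmul_one_eq_zero_of_mem_map (I : Ideal A) (y : R') (hy : y ∈ I.map (algebraMap A R')) :
    y ⊗ₜ[A] (Ideal.Quotient.mk I 1) = 0 := by
  rw [Ideal.map] at hy
  induction hy using Submodule.span_induction with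
  | mem y hy =>
    obtain ⟨i, hi, rfl⟩ := hy
    have h0 : i • (Ideal.Quotient.mk I 1) = 0 := by
      rw [Algebra.smul_def, Ideal.Quotient.algebraMap_eq, ← map_mul, mul_one,
        Ideal.Quotient.eq_zero_iff_mem.2 hi]
    rw [Algebra.algebraMap_eq_smul_one, TensorProduct.smul_tmul, h0, TensorProduct.tmul_zero]
  | zero => rw [TensorProduct.zero_tmul]
  | add x y _ _ hx hy => rw [TensorProduct.add_tmul, hx, hy, add_zero]
  | smul r x _ hx =>
    rw [← TensorProduct.smul_tmul', hx, smul_zero]

theorem mem_map_colon_of_flat (I : Ideal A) (c : A) (s : R')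
    (h : s * algebraMap A R' c ∈ I.map (algebraMap A R')) :
    s ∈ (I.colon {c}).map (algebraMap A R') := by
  let f : A →ₗ[A] A ⧸ I := (Ideal.Quotient.mkₐ A I).toLinearMap ∘ₗ LinearMap.mulRight A c
  have hf : ∀ r, f r = Ideal.Quotient.mk I (r * c) := fun r => rfl
  have hex := Module.Flat.lTensor_exact R' (LinearMap.exact_subtype_ker_map f)
  have h0 : (f.lTensor R') (s ⊗ₜ 1) = 0 := by
    rw [LinearMap.lTensor_tmul, hf, one_mul]
    have : Ideal.Quotient.mk I c = c • Ideal.Quotient.mk I 1 := by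
      rw [Algebra.smul_def, Ideal.Quotient.algebraMap_eq, ← map_mul, mul_one]
    rw [this, ← TensorProduct.smul_tmul, Algebra.smul_def, mul_comm]
    exact tmul_one_eq_zero_of_mem_map I _ h
  obtain ⟨t, ht⟩ := (hex _).1 h0
  have key : ∀ t : R' ⊗[A] (LinearMap.ker f),
      (TensorProduct.rid A R') (((LinearMap.ker f).subtype.lTensor R') t) ∈
        (I.colon {c}).map (algebraMap A R') := by
    intro t
    induction t using TensorProduct.induction_on with
    | zero => simp
    | tmul r j =>
      rw [LinearMap.lTensor_tmul, TensorProduct.rid_tmul, Submodule.subtype_apply,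
        Algebra.smul_def]
      apply Ideal.mul_mem_right
      apply Ideal.mem_map_of_mem
      rw [Submodule.mem_colon_singleton, smul_eq_mul, ← Ideal.Quotient.eq_zero_iff_mem, ← hf]
      exact j.2
    | add x y hx hy =>
      rw [map_add, map_add]
      exact Ideal.add_mem _ hx hy
  have := key t
  rw [ht, TensorProduct.rid_tmul, one_smul] at this
  exact this

end FlatColon

section Good

variable (A : Type u) [CommRing A] [IsDomain A] [IsNoetherianRing A] (m : Ideal A) [m.IsPrime]
  (K : Type u) [Field K] [Algebra A K] [IsFractionRing A K]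

instance finite_DD (P : MinP A m) : Module.Finite (Rhat A m ⧸ P.1) (DD A m P) := by
  have hN : CAlg.IsNagata (Rhat A m ⧸ P.1) :=
    AnUnram2.isNagata_of_finite (Rhat A m) _
      (Groth.Agent.Lib.Helper49.HenselFormal.isNagata_cpl (Rm A m))
  exact AnUnram2.isN1_of_isNagata _ hN

/-- a conductor element -/
theorem exists_conductor (P : MinP A m) : ∃ f : Rhat A m ⧸ P.1, f ≠ 0 ∧ ∀ d : DD A m P,
    ∃ e : Rhat A m ⧸ P.1, algebraMap _ (LL A m P) e = algebraMap _ (LL A m P) f * (d : LL A m P) := by
  classical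
  obtain ⟨S, hS⟩ := (finite_DD A m P).fg_top
  obtain ⟨b, hb⟩ := IsLocalization.exist_integer_multiples_of_finset
    (nonZeroDivisors (Rhat A m ⧸ P.1)) (S.image (fun d : DD A m P => (d : LL A m P)))
  refine ⟨b, nonZeroDivisors.ne_zero b.2, ?_⟩
  intro d
  have hd : d ∈ Submodule.span (Rhat A m ⧸ P.1) (S : Set (DD A m P)) := by rw [hS]; trivial
  induction hd using Submodule.span_induction with
  | mem d hd =>
    obtain ⟨e, he⟩ := hb (d : LL A m P) (Finset.mem_image_of_mem _ hd)
    refine ⟨e, ?_⟩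
    rw [he, Algebra.smul_def]
  | zero => exact ⟨0, by simp⟩
  | add x y _ _ hx hy =>
    obtain ⟨e1, h1⟩ := hx
    obtain ⟨e2, h2⟩ := hy
    refine ⟨e1 + e2, ?_⟩
    rw [map_add, h1, h2]
    push_cast
    ring
  | smul r x _ hx =>
    obtain ⟨e1, h1⟩ := hx
    refine ⟨r * e1, ?_⟩
    rw [map_mul, h1]
    have : ((r • x : DD A m P) : LL A m P) = algebraMap _ (LL A m P) r * (x : LL A m P) := by
      rw [← Algebra.smul_def]
      rfl
    rw [this]
    ring

/-- a separator of the minimal primes -/
theorem exists_separator (P : MinP A m) : ∃ g : Rhat A m, g ∉ P.1 ∧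
    ∀ P' : MinP A m, P' ≠ P → g ∈ P'.1 := by
  classical
  haveI : Fintype (MinP A m) := Fintype.ofFinite _
  have h : ∀ P' : MinP A m, ∃ h : Rhat A m, P' ≠ P → h ∈ P'.1 ∧ h ∉ P.1 := by
    intro P'
    by_cases hP' : P' = P
    · exact ⟨0, fun h => absurd hP' h⟩
    · have : ¬ P'.1 ≤ P.1 := by
        intro hle
        apply hP'
        apply Subtype.ext
        exact le_antisymm hle (P.2.2 ⟨P'.2.1.1, bot_le⟩ hle)
      obtain ⟨h, h1, h2⟩ := Set.not_subset.1 this
      exact ⟨h, fun _ => ⟨h1, h2⟩⟩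
  choose h hh using h
  refine ⟨∏ P' ∈ Finset.univ.erase P, h P', ?_, ?_⟩
  · rw [Ideal.IsPrime.prod_mem_iff]
    rintro ⟨P', hP', hmem⟩
    exact (hh P' (Finset.ne_of_mem_erase hP')).2 hmem
  · intro P' hP'
    rw [Ideal.IsPrime.prod_mem_iff]
    exact ⟨P', Finset.mem_erase.2 ⟨hP', Finset.mem_univ _⟩, (hh P' hP').1⟩

/-- the chosen conductor element -/
noncomputable def cond (P : MinP A m) : Rhat A m ⧸ P.1 := (exists_conductor A m P).choose

/-- the chosen separator -/
noncomputable def sepr (P : MinP A m) : Rhat A m := (exists_separator A m P).choose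

/-- the element whose zero locus contains the bad primes -/
noncomputable def theta (P : MinP A m) : DD A m P :=
  algebraMap (Rhat A m ⧸ P.1) (DD A m P) (cond A m P * Ideal.Quotient.mk P.1 (sepr A m P))

theorem theta_ne_zero (P : MinP A m) : theta A m P ≠ 0 := by
  rw [theta, Ne, map_eq_zero_iff _ (FaithfulSMul.algebraMap_injective _ _), mul_eq_zero, not_or]
  refine ⟨(exists_conductor A m P).choose_spec.1, ?_⟩
  rw [Ideal.Quotient.eq_zero_iff_mem]
  exact (exists_separator A m P).choose_spec.1

/-- the good members of the family -/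
def good (q : Idx A m) : Prop := theta A m q.1 ∉ q.2.1

theorem finite_setOf_not_good : {q : Idx A m | ¬ good A m q}.Finite := by
  have h1 : {q : Idx A m | ¬ good A m q} =
      ⋃ P : MinP A m, (Sigma.mk P) '' {Q : H1 (DD A m P) | theta A m P ∈ Q.1} := by
    ext ⟨P, Q⟩
    simp only [Set.mem_setOf_eq, Set.mem_iUnion, Set.mem_image, good, not_not]
    constructor
    · intro h
      exact ⟨P, Q, h, rfl⟩
    · rintro ⟨P', Q', h, heq⟩
      cases heq
      exact h
  rw [h1]
  apply Set.finite_iUnion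
  intro P
  apply Set.Finite.image
  exact finite_setOf_mem (DD A m P) _ (theta_ne_zero A m P)

/-- the ring map `R̂ → D_P` -/
noncomputable def rhoD (P : MinP A m) : Rhat A m →+* DD A m P :=
  (algebraMap (Rhat A m ⧸ P.1) (DD A m P)).comp (Ideal.Quotient.mk P.1)

theorem pow_mem_map_of_sub_pow_eq_zero {R' : Type*} [CommRing R'] [Algebra A R'] (a b : A)
    (σ τ : R') (e : ℕ)
    (h : (algebraMap A R' a * σ - algebraMap A R' b * τ) ^ e = 0) :
    σ ^ e * algebraMap A R' (a ^ e) ∈
      (Ideal.span (Set.range fun i : Fin e => a ^ (i : ℕ) * b ^ (e - i))).map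
        (algebraMap A R') := by
  set I := Ideal.span (Set.range fun i : Fin e => a ^ (i : ℕ) * b ^ (e - i)) with hI
  rw [sub_pow, Finset.sum_range_succ] at h
  have hlast : (-1 : R') ^ (e + e) * (algebraMap A R' a * σ) ^ e *
      (algebraMap A R' b * τ) ^ (e - e) * (e.choose e : R') =
      σ ^ e * algebraMap A R' (a ^ e) := by
    rw [Even.neg_one_pow ⟨e, rfl⟩, Nat.sub_self, pow_zero, Nat.choose_self, Nat.cast_one, mul_pow,
      map_pow]
    ring
  rw [hlast] at h
  have hsum : ∑ x ∈ Finset.range e, (-1 : R') ^ (x + e) * (algebraMap A R' a * σ) ^ x *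
      (algebraMap A R' b * τ) ^ (e - x) * (e.choose x : R') ∈ I.map (algebraMap A R') := by
    refine Ideal.sum_mem _ (fun k hk => ?_)
    have hk' : k < e := Finset.mem_range.1 hk
    have hgen : algebraMap A R' (a ^ k * b ^ (e - k)) ∈ I.map (algebraMap A R') :=
      Ideal.mem_map_of_mem _ (Ideal.subset_span ⟨⟨k, hk'⟩, rfl⟩)
    have : (-1 : R') ^ (k + e) * (algebraMap A R' a * σ) ^ k *
        (algebraMap A R' b * τ) ^ (e - k) * (e.choose k : R') =
        ((-1 : R') ^ (k + e) * σ ^ k * τ ^ (e - k) * (e.choose k : R')) *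
          algebraMap A R' (a ^ k * b ^ (e - k)) := by
      rw [map_mul, map_pow, map_pow, mul_pow, mul_pow]
      ring
    rw [this]
    exact Ideal.mul_mem_left _ _ hgen
  have : σ ^ e * algebraMap A R' (a ^ e) = -(∑ x ∈ Finset.range e, (-1 : R') ^ (x + e) *
      (algebraMap A R' a * σ) ^ x * (algebraMap A R' b * τ) ^ (e - x) * (e.choose x : R')) :=
    eq_neg_of_add_eq_zero_right h
  rw [this]
  exact (Ideal.neg_mem_iff _).2 hsum

theorem exists_isIntegral_of_good (q : Idx A m) (hq : good A m q) (x : K)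
    (hx : wv A m K q x ≤ 1) :
    ∃ u : A, wv A m K q (algebraMap A K u) = 1 ∧ IsIntegral A (algebraMap A K u * x) := by
  obtain ⟨P, Q⟩ := q
  obtain ⟨a, b, hb, rfl⟩ := IsFractionRing.div_surjective (A := A) x
  have hb0 : b ≠ 0 := nonZeroDivisors.ne_zero hb
  rw [wv_apply, map_div₀, phi_algebraMap, phi_algebraMap, vH_le_one_iff] at hx
  obtain ⟨α, σ, hσ, hfrac⟩ := hx
  have hσ0 : algebraMap (DD A m P) (LL A m P) σ ≠ 0 := by
    rw [Ne, map_eq_zero_iff _ (IsFractionRing.injective (DD A m P) (LL A m P))]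
    rintro rfl
    exact hσ (Ideal.zero_mem _)
  have hbL : algebraMap A (LL A m P) b ≠ 0 := by
    rw [Ne, map_eq_zero_iff _ (algebraMap_LL_injective A m P)]
    exact hb0
  have heq : algebraMap A (LL A m P) a * algebraMap (DD A m P) (LL A m P) σ =
      algebraMap (DD A m P) (LL A m P) α * algebraMap A (LL A m P) b := by
    field_simp at hfrac
    linear_combination hfrac
  obtain ⟨hf0, hf⟩ := (exists_conductor A m P).choose_spec
  obtain ⟨eσ, heσ⟩ := hf σ
  obtain ⟨eα, heα⟩ := hf α
  have hE : algebraMap A (Rhat A m ⧸ P.1) a * eσ = eα * algebraMap A (Rhat A m ⧸ P.1) b := by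
    apply IsFractionRing.injective (Rhat A m ⧸ P.1) (LL A m P)
    rw [map_mul, map_mul, heσ, heα, ← IsScalarTower.algebraMap_apply,
      ← IsScalarTower.algebraMap_apply]
    have h1 : ((σ : DD A m P) : LL A m P) = algebraMap (DD A m P) (LL A m P) σ := rfl
    have h2 : ((α : DD A m P) : LL A m P) = algebraMap (DD A m P) (LL A m P) α := rfl
    rw [h1, h2]
    linear_combination (algebraMap (Rhat A m ⧸ P.1) (LL A m P)
      (exists_conductor A m P).choose) * heq
  obtain ⟨s', rfl⟩ := Ideal.Quotient.mk_surjective eσ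
  obtain ⟨β', rfl⟩ := Ideal.Quotient.mk_surjective eα
  have hmk : ∀ r : A, algebraMap A (Rhat A m ⧸ P.1) r =
      Ideal.Quotient.mk P.1 (algebraMap A (Rhat A m) r) := fun r => rfl
  have hmemP : algebraMap A (Rhat A m) a * s' - β' * algebraMap A (Rhat A m) b ∈ P.1 := by
    rw [← Ideal.Quotient.eq_zero_iff_mem, map_sub, map_mul, map_mul, sub_eq_zero, ← hmk, ← hmk]
    exact hE
  obtain ⟨hg, hg'⟩ := (exists_separator A m P).choose_spec
  have hz : (exists_separator A m P).choose *
      (algebraMap A (Rhat A m) a * s' - β' * algebraMap A (Rhat A m) b) ∈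
      nilradical (Rhat A m) := by
    rw [nilradical_eq_sInf, Ideal.mem_sInf]
    intro J hJ
    haveI : J.IsPrime := hJ
    obtain ⟨P', hP', hPJ⟩ := Ideal.exists_minimalPrimes_le (I := ⊥) (J := J) bot_le
    apply hPJ
    by_cases h : (⟨P', hP'⟩ : MinP A m) = P
    · have : P' = P.1 := congrArg Subtype.val h
      rw [this]
      exact Ideal.mul_mem_left _ _ hmemP
    · exact Ideal.mul_mem_right _ _ (hg' ⟨P', hP'⟩ h)
  obtain ⟨e, he⟩ := hz
  set g := (exists_separator A m P).choose with hgdef
  have he' : (algebraMap A (Rhat A m) a * (g * s') - algebraMap A (Rhat A m) b * (g * β')) ^ e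
      = 0 := by
    rw [← he]
    congr 1
    ring
  have hmem := pow_mem_map_of_sub_pow_eq_zero A a b (g * s') (g * β') e he'
  haveI := flat_Rhat A m
  have hcol := mem_map_colon_of_flat _ _ _ hmem
  -- the contradiction argument
  by_contra hcon
  push Not at hcon
  have hle : (Ideal.span (Set.range fun i : Fin e => a ^ (i : ℕ) * b ^ (e - i))).colon {a ^ e} ≤
      (Q.1.comap (rhoD A m P)).comap (algebraMap A (Rhat A m)) := by
    intro u hu
    by_contra hnot
    rw [Submodule.mem_colon_singleton, smul_eq_mul] at hu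
    apply hcon u ?_ (isIntegral_of_mul_pow_mem_span a b u hb0 e hu)
    rw [wv_apply, phi_algebraMap]
    have h1 : algebraMap A (LL A m P) u =
        algebraMap (DD A m P) (LL A m P) (rhoD A m P (algebraMap A (Rhat A m) u)) := rfl
    rw [h1]
    apply le_antisymm (vH_algebraMap_le_one _ _ _ _)
    rw [← not_lt, vH_algebraMap_lt_one_iff]
    exact hnot
  have h2 : (g * s') ^ e ∈ Q.1.comap (rhoD A m P) :=
    (Ideal.map_le_iff_le_comap.2 hle) hcol
  rw [Ideal.mem_comap, map_pow] at h2
  have h3 := Ideal.IsPrime.mem_of_pow_mem inferInstance e h2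
  have h4 : rhoD A m P (g * s') = theta A m P * σ := by
    apply IsFractionRing.injective (DD A m P) (LL A m P)
    have h5 : algebraMap (DD A m P) (LL A m P) (rhoD A m P s') =
        algebraMap (Rhat A m ⧸ P.1) (LL A m P) (Ideal.Quotient.mk P.1 s') := rfl
    have h6 : ∀ r : Rhat A m ⧸ P.1, algebraMap (DD A m P) (LL A m P)
        (algebraMap (Rhat A m ⧸ P.1) (DD A m P) r) = algebraMap (Rhat A m ⧸ P.1) (LL A m P) r :=
      fun r => rfl
    have h7 : algebraMap (DD A m P) (LL A m P) (rhoD A m P g) =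
        algebraMap (Rhat A m ⧸ P.1) (LL A m P) (Ideal.Quotient.mk P.1 g) := rfl
    have h8 : algebraMap (DD A m P) (LL A m P) (theta A m P) =
        algebraMap (Rhat A m ⧸ P.1) (LL A m P) (exists_conductor A m P).choose *
          algebraMap (Rhat A m ⧸ P.1) (LL A m P) (Ideal.Quotient.mk P.1 g) := by
      rw [theta, h6, map_mul]
      rfl
    have h1 : ((σ : DD A m P) : LL A m P) = algebraMap (DD A m P) (LL A m P) σ := rfl
    rw [map_mul, map_mul (algebraMap (DD A m P) (LL A m P)),
      map_mul (algebraMap (DD A m P) (LL A m P)), h8, h7, h5, heσ, h1]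
    ring
  rw [h4] at h3
  rcases (Ideal.IsPrime.mem_or_mem inferInstance h3) with h | h
  · exact hq h
  · exact hσ h

end Good

end Groth.Agent.Lib.Helper88.Krull
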