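import Groth.Agent.Lib.Helper88.KrullD
import Groth.Agent.S11184
import Mathlib

/-!
# Only finitely many primes of the integral closure lie over a given prime
-/

universe u

namespace Groth.Agent.Lib.Helper88.Krull

open scoped WithZero
open IsLocalRing NormBC

section SemiLocal

variable (A : Type u) [CommRing A] [IsDomain A] [IsNoetherianRing A] (m : Ideal A) [m.IsPrime]
  (K : Type u) [Field K] [Algebra A K] [IsFractionRing A K]

/-- the ring map `A' → D_P` -/
noncomputable def rhoA (P : MinP A m) : integralClosure A K →+* DD A m P where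
  toFun x := ⟨phi A m K P x, isIntegral_phi A m K P x.2⟩
  map_one' := Subtype.ext (map_one _)
  map_mul' x y := Subtype.ext (map_mul _ _ _)
  map_zero' := Subtype.ext (map_zero _)
  map_add' x y := Subtype.ext (map_add _ _ _)

theorem rhoA_val (P : MinP A m) (x : integralClosure A K) :
    ((rhoA A m K P x : DD A m P) : LL A m P) = phi A m K P x := rfl

theorem rhoA_algebraMap (P : MinP A m) (a : A) :
    rhoA A m K P (algebraMap A (integralClosure A K) a) =
      algebraMap (Rhat A m ⧸ P.1) (DD A m P) (algebraMap A (Rhat A m ⧸ P.1) a) := by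
  apply Subtype.ext
  rw [rhoA_val]
  change phi A m K P (algebraMap A K a) = _
  rw [phi_algebraMap]
  rfl

/-- maximal ideals of `D_P` contract to `m` -/
theorem comap_rhoA_comap (P : MinP A m) (M : Ideal (DD A m P)) [M.IsMaximal] :
    ((M.comap (rhoA A m K P)).comap (algebraMap A (integralClosure A K))) = m := by
  have h1 : M.comap (algebraMap (Rhat A m ⧸ P.1) (DD A m P)) = maximalIdeal (Rhat A m ⧸ P.1) := by
    haveI := Ideal.isMaximal_comap_of_isIntegral_of_isMaximal (R := Rhat A m ⧸ P.1) M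
    exact IsLocalRing.eq_maximalIdeal this
  ext a
  rw [Ideal.mem_comap, Ideal.mem_comap, rhoA_algebraMap, ← Ideal.mem_comap, h1]
  have h2 : algebraMap A (Rhat A m ⧸ P.1) a ∈ maximalIdeal (Rhat A m ⧸ P.1) ↔
      algebraMap A (Rhat A m) a ∈ maximalIdeal (Rhat A m) := by
    change Ideal.Quotient.mk P.1 (algebraMap A (Rhat A m) a) ∈ _ ↔ _
    rw [IsLocalRing.mem_maximalIdeal, IsLocalRing.mem_maximalIdeal, mem_nonunits_iff,
      mem_nonunits_iff, not_iff_not]
    constructor
    · intro h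
      haveI : IsLocalHom (Ideal.Quotient.mk P.1) :=
        IsLocalHom.of_surjective _ Ideal.Quotient.mk_surjective
      exact isUnit_of_map_unit (Ideal.Quotient.mk P.1) _ h
    · intro h
      exact h.map _
  rw [h2, IsScalarTower.algebraMap_apply A (Rm A m) (Rhat A m)]
  have h3 : algebraMap (Rm A m) (Rhat A m) (algebraMap A (Rm A m) a) ∈ maximalIdeal (Rhat A m) ↔
      algebraMap A (Rm A m) a ∈ maximalIdeal (Rm A m) := by
    rw [IsLocalRing.mem_maximalIdeal, IsLocalRing.mem_maximalIdeal, mem_nonunits_iff,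
      mem_nonunits_iff, not_iff_not]
    exact ⟨fun h => isUnit_of_map_unit (algebraMap (Rm A m) (Rhat A m)) _ h, fun h => h.map _⟩
  rw [h3]
  exact IsLocalization.AtPrime.to_map_mem_maximal_iff (Rm A m) m a

theorem finite_primesOver :
    {𝔫 : Ideal (integralClosure A K) | 𝔫.IsPrime ∧
      𝔫.comap (algebraMap A (integralClosure A K)) = m}.Finite := by
  classical
  haveI : ∀ P : MinP A m, Finite (MaximalSpectrum (DD A m P)) := fun P =>
    Groth.Agent.S11184.finite_maximalSpectrum (Rhat A m ⧸ P.1) (DD A m P)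
  let F : (Σ P : MinP A m, MaximalSpectrum (DD A m P)) → Ideal (integralClosure A K) :=
    fun t => t.2.asIdeal.comap (rhoA A m K t.1)
  refine (Set.finite_range F).subset ?_
  rintro 𝔫 ⟨h𝔫, h𝔫m⟩
  haveI := h𝔫
  by_contra hnot
  -- nonemptiness of the index set
  obtain ⟨P₀⟩ : Nonempty (MinP A m) := by
    obtain ⟨P₀, hP₀, -⟩ := Ideal.exists_minimalPrimes_le
      (bot_le : (⊥ : Ideal (Rhat A m)) ≤ maximalIdeal (Rhat A m))
    exact ⟨⟨P₀, hP₀⟩⟩
  obtain ⟨M₀, hM₀⟩ := Ideal.exists_maximal (DD A m P₀)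
  haveI : Fintype (Σ P : MinP A m, MaximalSpectrum (DD A m P)) := Fintype.ofFinite _
  haveI : Algebra.IsIntegral A (integralClosure A K) := inferInstance
  have hprime : ∀ t, (F t).IsPrime := fun t =>
    haveI := t.2.isMaximal.isPrime
    Ideal.comap_isPrime _ _
  have hcomap : ∀ t, (F t).comap (algebraMap A (integralClosure A K)) = m := fun t =>
    haveI := t.2.isMaximal
    comap_rhoA_comap A m K t.1 t.2.asIdeal
  have hnle : ∀ t, ¬ 𝔫 ≤ F t := by
    intro t hle
    apply hnot
    refine ⟨t, ?_⟩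
    by_contra hne
    haveI := hprime t
    have hlt : 𝔫 < F t := lt_of_le_of_ne hle (Ne.symm hne)
    have := Ideal.IsIntegral.comap_lt_comap (R := A) hlt
    rw [h𝔫m, hcomap t] at this
    exact lt_irrefl _ this
  have havoid : ¬ ((𝔫 : Set (integralClosure A K)) ⊆
      ⋃ t ∈ ((Finset.univ : Finset (Σ P : MinP A m, MaximalSpectrum (DD A m P))) : Set _),
        (F t : Set (integralClosure A K))) := by
    rw [Ideal.subset_union_prime (⟨P₀, ⟨M₀, hM₀⟩⟩ : Σ P : MinP A m, MaximalSpectrum (DD A m P))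
      ⟨P₀, ⟨M₀, hM₀⟩⟩ (fun t _ _ _ => hprime t)]
    rintro ⟨t, -, hle⟩
    exact hnle t hle
  obtain ⟨e, he𝔫, heF⟩ := Set.not_subset.1 havoid
  have heF' : ∀ t, e ∉ F t := by
    intro t ht
    apply heF
    simp only [Finset.coe_univ, Set.mem_univ, Set.iUnion_true, Set.mem_iUnion]
    exact ⟨t, ht⟩
  have he0 : (e : K) ≠ 0 := by
    intro h0
    apply heF' ⟨P₀, ⟨M₀, hM₀⟩⟩
    have : e = 0 := Subtype.ext h0
    rw [this]
    exact Ideal.zero_mem _
  have hunit : ∀ P : MinP A m, IsUnit (rhoA A m K P e) := by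
    intro P
    by_contra hnu
    obtain ⟨M, hM, hmem⟩ := exists_max_ideal_of_mem_nonunits hnu
    exact heF' ⟨P, ⟨M, hM⟩⟩ hmem
  have hN : (e : K)⁻¹ ∈ N₁ A K (DD A m) (LL A m) (phi A m K) := by
    rw [mem_N₁_iff]
    intro P
    obtain ⟨d, hd⟩ := (hunit P).exists_left_inv
    refine ⟨d, ?_⟩
    have h1 : ((d * rhoA A m K P e : DD A m P) : LL A m P) = ((1 : DD A m P) : LL A m P) :=
      congrArg (fun y : DD A m P => (y : LL A m P)) hd
    have h2 : ((d * rhoA A m K P e : DD A m P) : LL A m P) =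
        algebraMap (DD A m P) (LL A m P) d * phi A m K P e := rfl
    rw [h2] at h1
    have h3 : phi A m K P (e : K) ≠ 0 := by
      rw [Ne, map_eq_zero_iff (phi A m K P) (phi A m K P).toRingHom.injective]
      exact he0
    rw [map_inv₀]
    have h4 : ((1 : DD A m P) : LL A m P) = 1 := rfl
    rw [h4] at h1
    exact eq_inv_of_mul_eq_one_left h1
  obtain ⟨u, hu, hint⟩ := exists_isIntegral_of_mem_N₁ A m K _ hN
  apply hu
  rw [← h𝔫m, Ideal.mem_comap]
  have : algebraMap A (integralClosure A K) u =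
      (⟨algebraMap A K u * (e : K)⁻¹, hint⟩ : integralClosure A K) * e := by
    apply Subtype.ext
    change algebraMap A K u = algebraMap A K u * (e : K)⁻¹ * (e : K)
    rw [mul_assoc, inv_mul_cancel₀ he0, mul_one]
  rw [this]
  exact Ideal.mul_mem_left _ _ he𝔫

end SemiLocal

end Groth.Agent.Lib.Helper88.Krull
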