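import Groth.Agent.Lib.Helper88.KrullF
import Mathlib

/-!
# Globalizing the Krull structure: the integral closure as an intersection over height-one primes
-/

universe u

namespace Groth.Agent.Lib.Helper88.Krull

open scoped WithZero
open IsLocalRing

theorem isIntegral_localization_of_forall (A : Type u) [CommRing A] [IsDomain A]
    [IsNoetherianRing A]
    (h : ∀ C : Subalgebra A (FractionRing A), C ≤ integralClosure A (FractionRing A) →
      Module.Finite A C →
      ∀ (q : Ideal C) [q.IsPrime], q.height = 1 → (q.comap (algebraMap A C)).height = 1)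
    (m : Ideal A) [m.IsPrime] (x : FractionRing A)
    (hx : ∀ p : PrimeSpectrum A, p.asIdeal.height = 1 → ∃ s : A, s ∉ p.asIdeal ∧
      algebraMap A (FractionRing A) s * x ∈ integralClosure A (FractionRing A)) :
    IsIntegral (Localization.AtPrime m) x := by
  classical
  obtain ⟨CR, hCRfin, -, hb, -⟩ := krull_main (Localization.AtPrime m) (FractionRing A)
  have hgoal : x ∈ integralClosure (Localization.AtPrime m) (FractionRing A) := by
    refine (hb x).2 ?_
    intro p _ hp
    have hfg : (Subalgebra.toSubmodule CR).FG := Module.Finite.iff_fg.1 hCRfin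
    obtain ⟨S, hS⟩ := hfg
    have hSCR : ∀ y ∈ S, y ∈ CR := by
      intro y hy
      have : y ∈ Subalgebra.toSubmodule CR := hS ▸ Submodule.subset_span hy
      exact this
    have hSint : ∀ y ∈ S, ∃ u : A, u ∉ m ∧
        IsIntegral A (algebraMap A (FractionRing A) u * y) := by
      intro y hy
      have hyint : IsIntegral (Localization.AtPrime m) y :=
        IsIntegral.of_mem_of_fg CR ⟨S, hS⟩ y (hSCR y hy)
      obtain ⟨⟨u, hu⟩, hux⟩ :=
        IsIntegral.exists_multiple_integral_of_isLocalization m.primeCompl y hyint
      refine ⟨u, hu, ?_⟩
      rwa [Submonoid.smul_def, Algebra.smul_def] at hux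
    choose! u hu huint using hSint
    let T : Set (FractionRing A) :=
      (fun y => algebraMap A (FractionRing A) (u y) * y) '' (S : Set (FractionRing A))
    have hTfin : T.Finite := (Finset.finite_toSet S).image _
    have hTint : ∀ t ∈ T, IsIntegral A t := by
      rintro _ ⟨y, hy, rfl⟩
      exact huint y hy
    let C : Subalgebra A (FractionRing A) := Algebra.adjoin A T
    have hC : C ≤ integralClosure A (FractionRing A) := Algebra.adjoin_le hTint
    have hCfin : Module.Finite A C := Module.Finite.iff_fg.2 (fg_adjoin_of_finite hTfin hTint)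
    have hAR : ∀ a : A, algebraMap A (FractionRing A) a ∈ CR := by
      intro a
      rw [IsScalarTower.algebraMap_apply A (Localization.AtPrime m) (FractionRing A)]
      exact CR.algebraMap_mem _
    have hCCR : ∀ c ∈ C, c ∈ CR := by
      intro c hc
      induction hc using Algebra.adjoin_induction with
      | mem t ht =>
        obtain ⟨y, hy, rfl⟩ := ht
        exact CR.mul_mem (hAR _) (hSCR y hy)
      | algebraMap a => exact hAR a
      | add a b _ _ ha hb => exact CR.add_mem ha hb
      | mul a b _ _ ha hb => exact CR.mul_mem ha hb
    have hden : ∀ z ∈ Submodule.span (Localization.AtPrime m) (S : Set (FractionRing A)),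
        ∃ v : A, v ∉ m ∧ algebraMap A (FractionRing A) v * z ∈ C := by
      intro z hz
      induction hz using Submodule.span_induction with
      | mem y hy => exact ⟨u y, hu y hy, Algebra.subset_adjoin ⟨y, hy, rfl⟩⟩
      | zero =>
        refine ⟨1, (Ideal.ne_top_iff_one _).1 Ideal.IsPrime.ne_top', ?_⟩
        rw [mul_zero]
        exact C.zero_mem
      | add a b _ _ ha hb =>
        obtain ⟨v₁, hv₁, h₁⟩ := ha
        obtain ⟨v₂, hv₂, h₂⟩ := hb
        refine ⟨v₁ * v₂, m.primeCompl.mul_mem hv₁ hv₂, ?_⟩
        have : algebraMap A (FractionRing A) (v₁ * v₂) * (a + b) =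
            algebraMap A (FractionRing A) v₂ * (algebraMap A (FractionRing A) v₁ * a) +
              algebraMap A (FractionRing A) v₁ * (algebraMap A (FractionRing A) v₂ * b) := by
          rw [map_mul]
          ring
        rw [this]
        exact C.add_mem (C.mul_mem (C.algebraMap_mem _) h₁) (C.mul_mem (C.algebraMap_mem _) h₂)
      | smul r a _ ha =>
        obtain ⟨v, hv, h₁⟩ := ha
        obtain ⟨⟨a', s⟩, hr⟩ := IsLocalization.surj m.primeCompl r
        refine ⟨s.1 * v, m.primeCompl.mul_mem s.2 hv, ?_⟩
        have hr' : algebraMap (Localization.AtPrime m) (FractionRing A) r *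
            algebraMap A (FractionRing A) s.1 = algebraMap A (FractionRing A) a' := by
          rw [IsScalarTower.algebraMap_apply A (Localization.AtPrime m) (FractionRing A),
            IsScalarTower.algebraMap_apply A (Localization.AtPrime m) (FractionRing A), ← map_mul]
          exact congrArg _ hr
        have : algebraMap A (FractionRing A) (s.1 * v) * (r • a) =
            algebraMap A (FractionRing A) a' * (algebraMap A (FractionRing A) v * a) := by
          rw [← hr', Algebra.smul_def, map_mul]
          ring
        rw [this]
        exact C.mul_mem (C.algebraMap_mem _) h₁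
    let ι : C →+* CR :=
      { toFun := fun c => ⟨c.1, hCCR c.1 c.2⟩
        map_one' := rfl
        map_mul' := fun _ _ => rfl
        map_zero' := rfl
        map_add' := fun _ _ => rfl }
    letI : Algebra C CR := ι.toAlgebra
    have hloc : IsLocalization (Algebra.algebraMapSubmonoid C m.primeCompl) CR := by
      rw [isLocalization_iff]
      refine ⟨?_, ?_, ?_⟩
      · rintro ⟨_, v, hv, rfl⟩
        have hunit : IsUnit (algebraMap A (Localization.AtPrime m) v) :=
          IsLocalization.map_units (Localization.AtPrime m) (⟨v, hv⟩ : m.primeCompl)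
        have h2 := hunit.map (algebraMap (Localization.AtPrime m) CR)
        convert h2 using 1
        apply Subtype.ext
        exact IsScalarTower.algebraMap_apply A (Localization.AtPrime m) (FractionRing A) v
      · intro z
        obtain ⟨v, hv, hvz⟩ := hden z.1 (by rw [hS]; exact z.2)
        refine ⟨(⟨_, hvz⟩, ⟨algebraMap A C v, v, hv, rfl⟩), ?_⟩
        apply Subtype.ext
        exact mul_comm _ _
      · intro a b hab
        refine ⟨1, ?_⟩
        have hab' : (ι a).1 = (ι b).1 := congrArg Subtype.val hab
        have : a = b := Subtype.ext hab'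
        rw [this]
    have hq1 : (p.under C).height = 1 := by
      rw [IsLocalization.height_under (Algebra.algebraMapSubmonoid C m.primeCompl) p, hp]
    have hp₀ := h C hC hCfin (p.under C) hq1
    obtain ⟨s, hs, hsx⟩ := hx ⟨(p.under C).comap (algebraMap A C), inferInstance⟩ hp₀
    refine ⟨⟨algebraMap A (FractionRing A) s, hAR s⟩, ?_, ?_⟩
    · intro hsp
      apply hs
      change algebraMap C CR (algebraMap A C s) ∈ p
      have heq : algebraMap C CR (algebraMap A C s) =
          (⟨algebraMap A (FractionRing A) s, hAR s⟩ : CR) := Subtype.ext rfl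
      rw [heq]
      exact hsp
    · have h1 : IsIntegral (Localization.AtPrime m) (algebraMap A (FractionRing A) s * x) :=
        IsIntegral.tower_top hsx
      exact IsIntegral.tower_top h1
  exact hgoal

end Groth.Agent.Lib.Helper88.Krull
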