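import Groth.Prelude.Def_Found
import Groth.Agent.Lib.Helper88.AnUnram2
import Groth.Agent.Lib.Helper88.Japanese6
import Mathlib

/-!
# Local finite subalgebras with a prescribed fraction field (for Stacks 0BI2)
-/

universe u

namespace Groth.Agent.Lib.Helper88.LocalSub

open IsLocalRing CAlg

section Glue

variable {B : Type*} [CommRing B] {L : Type*} [Field L] [Algebra B L]

/-- the subalgebra `B + f S''` of `L` -/
def glue (S'' : Subalgebra B L) (f : B) : Subalgebra B L where
  carrier := {z | ∃ c : B, ∃ s ∈ S'', z = algebraMap B L c + f • s}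
  mul_mem' := by
    rintro _ _ ⟨c, s, hs, rfl⟩ ⟨c', s', hs', rfl⟩
    refine ⟨c * c', c • s' + c' • s + f • (s * s'),
      S''.add_mem (S''.add_mem (S''.smul_mem hs' c) (S''.smul_mem hs c'))
        (S''.smul_mem (S''.mul_mem hs hs') f), ?_⟩
    simp only [Algebra.smul_def, map_mul]
    ring
  one_mem' := ⟨1, 0, S''.zero_mem, by simp⟩
  add_mem' := by
    rintro _ _ ⟨c, s, hs, rfl⟩ ⟨c', s', hs', rfl⟩
    refine ⟨c + c', s + s', S''.add_mem hs hs', ?_⟩
    simp only [Algebra.smul_def, map_add]
    ring
  zero_mem' := ⟨0, 0, S''.zero_mem, by simp⟩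
  algebraMap_mem' := fun c => ⟨c, 0, S''.zero_mem, by simp⟩

theorem mem_glue {S'' : Subalgebra B L} {f : B} {z : L} :
    z ∈ glue S'' f ↔ ∃ c : B, ∃ s ∈ S'', z = algebraMap B L c + f • s := Iff.rfl

theorem glue_le (S'' : Subalgebra B L) (f : B) : glue S'' f ≤ S'' := by
  rintro _ ⟨c, s, hs, rfl⟩
  exact S''.add_mem (S''.algebraMap_mem c) (S''.smul_mem hs f)

end Glue

section Local

variable {B : Type*} [CommRing B] [IsLocalRing B] {L : Type*} [Field L] [Algebra B L]
  (S'' : Subalgebra B L) [Algebra.IsIntegral B S''] {f : B} (hf : f ∈ maximalIdeal B)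

include hf in
theorem isUnit_one_add_smul (s : S'') : IsUnit (1 + f • s) := by
  by_contra hnu
  obtain ⟨M, hM, haM⟩ := exists_max_ideal_of_mem_nonunits (mem_nonunits_iff.mpr hnu)
  haveI := hM
  have hmax : (M.comap (algebraMap B S'')).IsMaximal :=
    Ideal.isMaximal_comap_of_isIntegral_of_isMaximal M
  have heq : M.comap (algebraMap B S'') = maximalIdeal B := IsLocalRing.eq_maximalIdeal hmax
  have hfM : algebraMap B S'' f ∈ M := by
    rw [← Ideal.mem_comap, heq]; exact hf
  have h1 : f • s ∈ M := by
    rw [Algebra.smul_def]; exact M.mul_mem_right _ hfM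
  have : (1 : S'') ∈ M := by
    have := M.sub_mem haM h1
    rwa [add_sub_cancel_right] at this
  exact hM.ne_top ((Ideal.eq_top_iff_one M).mpr this)

include hf in
/-- elements `c + f s` of `B + f S''` with `c` a unit are units -/
theorem isUnit_of_isUnit {c : B} (hc : IsUnit c) {s : L} (hs : s ∈ S'')
    (hz : algebraMap B L c + f • s ∈ glue S'' f) :
    IsUnit (⟨algebraMap B L c + f • s, hz⟩ : glue S'' f) := by
  obtain ⟨u, rfl⟩ := hc
  let s' : S'' := (↑u⁻¹ : B) • ⟨s, hs⟩
  obtain ⟨w, hw⟩ := isUnit_one_add_smul S'' hf s'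
  have hw1 : (1 + f • (s' : L)) * ((↑w⁻¹ : S'') : L) = 1 := by
    have h := congrArg (fun z : S'' => (z : L)) (show (1 + f • s') * (↑w⁻¹ : S'') = 1 by
      rw [← hw, Units.mul_inv])
    simpa using h
  have hwmem : ((↑w⁻¹ : S'') : L) ∈ glue S'' f := by
    refine ⟨1, -((s' : L) * ((↑w⁻¹ : S'') : L)),
      S''.neg_mem (S''.mul_mem s'.2 (↑w⁻¹ : S'').2), ?_⟩
    rw [map_one, smul_neg, ← sub_eq_add_neg, eq_sub_iff_add_eq, ← hw1]
    simp only [Algebra.smul_def]
    ring
  have hinv : (↑u⁻¹ : B) • ((↑w⁻¹ : S'') : L) ∈ glue S'' f := (glue S'' f).smul_mem hwmem _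
  refine IsUnit.of_mul_eq_one ⟨_, hinv⟩ (Subtype.ext ?_)
  change (algebraMap B L ↑u + f • s) * ((↑u⁻¹ : B) • ((↑w⁻¹ : S'') : L)) = 1
  have hs' : (s' : L) = (↑u⁻¹ : B) • s := rfl
  rw [← hw1, hs']
  have huu : algebraMap B L ↑u * algebraMap B L ↑u⁻¹ = 1 := by
    rw [← map_mul, Units.mul_inv, map_one]
  simp only [Algebra.smul_def]
  calc (algebraMap B L ↑u + algebraMap B L f * s) * (algebraMap B L ↑u⁻¹ * ((↑w⁻¹ : S'') : L))
      = (algebraMap B L ↑u * algebraMap B L ↑u⁻¹ +
          algebraMap B L f * (algebraMap B L ↑u⁻¹ * s)) * ((↑w⁻¹ : S'') : L) := by ring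
    _ = _ := by rw [huu]

include hf in
theorem isLocalRing_glue : IsLocalRing (glue S'' f) := by
  apply IsLocalRing.of_isUnit_or_isUnit_one_sub_self
  rintro ⟨z, hz⟩
  obtain ⟨c, s, hs, rfl⟩ := hz
  by_cases hc : IsUnit c
  · exact Or.inl (isUnit_of_isUnit S'' hf hc hs _)
  · right
    have hc' : IsUnit (1 - c) := IsLocalRing.isUnit_one_sub_self_of_mem_nonunits c hc
    have hmem : algebraMap B L (1 - c) + f • (-s) ∈ glue S'' f := ⟨1 - c, -s, S''.neg_mem hs, rfl⟩
    have h := isUnit_of_isUnit S'' hf hc' (S''.neg_mem hs) hmem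
    convert h using 1
    apply Subtype.ext
    change 1 - (algebraMap B L c + f • s) = algebraMap B L (1 - c) + f • (-s)
    rw [map_sub, map_one, smul_neg]
    ring

end Local

section Frac

variable {B : Type*} [CommRing B] [IsDomain B] {L : Type*} [Field L] [Algebra B L]
  (S'' : Subalgebra B L)

theorem isFractionRing_glue (hinj : Function.Injective (algebraMap B L)) [IsFractionRing S'' L]
    {f : B} (hf0 : f ≠ 0) : IsFractionRing (glue S'' f) L := by
  haveI : FaithfulSMul (glue S'' f) L :=
    (faithfulSMul_iff_algebraMap_injective (glue S'' f) L).mpr Subtype.val_injective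
  apply IsFractionRing.of_field
  intro z
  obtain ⟨x, y, hy, rfl⟩ := IsFractionRing.div_surjective (A := S'') z
  have hfL : algebraMap B L f ≠ 0 := (map_ne_zero_iff _ hinj).mpr hf0
  refine ⟨⟨f • (x : L), ⟨0, x, x.2, by simp⟩⟩, ⟨f • (y : L), ⟨0, y, y.2, by simp⟩⟩, ?_⟩
  change algebraMap S'' L x / algebraMap S'' L y = (f • (x : L)) / (f • (y : L))
  rw [Algebra.smul_def, Algebra.smul_def, mul_div_mul_left _ _ hfL]
  rfl

end Frac

section Main

/-- **Stacks 0BI2, (3) ⇒ N-2**: a Noetherian local domain all of whose finite local domain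
extensions are analytically unramified is N-2. -/
theorem isN2_of_forall_finite_local (B : Type u) [CommRing B] [IsDomain B] [IsLocalRing B]
    [IsNoetherianRing B]
    (H : ∀ (S' : Type u) [CommRing S'] [IsDomain S'] [IsLocalRing S'] [Algebra B S']
      [IsLocalHom (algebraMap B S')] [Module.Finite B S'],
      IsReduced (AdicCompletion (maximalIdeal S') S')) : CAlg.IsN2 B := by
  by_cases hfield : IsField B
  · letI : Field B := hfield.toField
    exact CohenNagata.isN2_of_isField B
  · have hm : maximalIdeal B ≠ ⊥ := fun h => hfield (IsLocalRing.isField_iff_maximalIdeal_eq.mpr h)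
    obtain ⟨f, hf, hf0⟩ := Submodule.exists_mem_ne_zero_of_ne_bot hm
    intro L _ _ _ _ hfin
    haveI := hfin
    let K := FractionRing B
    obtain ⟨S'', -, hmod, hfr⟩ := exists_finite_subalgebra_isFractionRing B K L
    haveI := hmod
    haveI := hfr
    haveI : Algebra.IsIntegral B S'' := Algebra.IsIntegral.of_finite B S''
    have hinj : Function.Injective (algebraMap B L) := by
      rw [IsScalarTower.algebraMap_eq B K L]
      exact (algebraMap K L).injective.comp (IsFractionRing.injective B K)
    let S' := glue S'' f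
    haveI : IsNoetherian B S'' := isNoetherian_of_isNoetherianRing_of_finite B S''
    haveI : Module.Finite B S' :=
      Module.Finite.of_injective (Subalgebra.inclusion (glue_le S'' f)).toLinearMap
        (Subalgebra.inclusion_injective (glue_le S'' f))
    haveI : IsLocalRing S' := isLocalRing_glue S'' hf
    haveI : IsFractionRing S' L := isFractionRing_glue S'' hinj hf0
    haveI : IsNoetherianRing S' := IsNoetherianRing.of_finite B S'
    haveI : Algebra.IsIntegral B S' := Algebra.IsIntegral.of_finite B S'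
    haveI : FaithfulSMul B S' := (faithfulSMul_iff_algebraMap_injective B S').mpr (by
      intro a b hab
      exact hinj (congrArg (fun z : S' => (z : L)) hab))
    haveI : IsLocalHom (algebraMap B S') := inferInstance
    haveI hred : IsReduced (AdicCompletion (maximalIdeal S') S') := H S'
    have hN1 : CAlg.IsN1 S' := AnUnram.isN1_of_isReduced_completion
    have h1 : Module.Finite S' (integralClosure S' L) := (isN1_iff S').mp hN1 L
    have h2 : Module.Finite B (integralClosure S' L) := Module.Finite.trans S' _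
    let g : integralClosure S' L →ₗ[B] integralClosure B L :=
      { toFun := fun x => ⟨(x : L), isIntegral_trans (x : L) x.2⟩
        map_add' := fun x y => rfl
        map_smul' := fun a x => rfl }
    have hg : Function.Surjective g := by
      intro y
      exact ⟨⟨(y : L), (y.2 : IsIntegral B (y : L)).tower_top⟩, rfl⟩
    exact Module.Finite.of_surjective g hg

end Main

end Groth.Agent.Lib.Helper88.LocalSub
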