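import Groth.Agent.Lib.Helper88.S1Lift2
import Groth.Agent.Lib.Helper88.ReducedLift
import Groth.Agent.Lib.Helper29.AssQuot
import Groth.Agent.Lib.Helper11.IntegralDim
import Mathlib

/-!
# Absence of embedded components lifts from the closed fibre (EGA IV 21.?)
-/

universe u

namespace Groth.Agent.Lib.Helper88.S1Lift

open IsLocalRing TensorProduct

section Conductor

/-- **transfer along a conductor** -/
theorem noEmb_of_conductor {E E' : Type*} [CommRing E] [CommRing E'] [IsNoetherianRing E]
    [IsNoetherianRing E'] (ι : E →+* E') (hι : Function.Injective ι) (μ : E' →+ E) (c : E)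
    (h1 : ∀ y, ι (μ y) = ι c * y) (h2 : ∀ x y, μ (ι x * y) = x * μ y)
    (h3 : ∀ y : E', ι c * y = 0 → y = 0) (h : NoEmb E') : NoEmb E := by
  intro Q hQ
  obtain ⟨hp, x, hx⟩ := (mem_ass_self_iff Q).1 hQ
  have hx0 : x ≠ 0 := by
    rintro rfl
    exact hp.ne_top ((Ideal.eq_top_iff_one Q).2 ((hx 1).2 (by simp)))
  have hμι : ∀ a, μ (ι a) = c * a := fun a => hι (by rw [h1, map_mul])
  have hcμ : ∀ a' b', c * μ (a' * b') = μ a' * μ b' := by
    intro a' b'
    rw [← h2, ← mul_assoc, ← h1, h2]
  have hcQ : c ∉ Q := by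
    intro hc
    have := (hx c).1 hc
    apply hx0
    apply hι
    rw [map_zero]
    apply h3
    rw [← map_mul, this, map_zero]
  let Q' : Ideal E' := LinearMap.ker ((LinearMap.mul E' E').flip (ι x))
  have hQ'mem : ∀ y, y ∈ Q' ↔ y * ι x = 0 := by
    intro y
    simp only [Q', LinearMap.mem_ker, LinearMap.flip_apply, LinearMap.mul_apply']
  have key : ∀ y, y ∈ Q' ↔ μ y ∈ Q := by
    intro y
    rw [hQ'mem, hx]
    constructor
    · intro hy
      apply hι
      rw [map_mul, h1, map_zero, mul_assoc, hy, mul_zero]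
    · intro hy
      apply h3
      have := congrArg ι hy
      rwa [map_mul, h1, map_zero, mul_assoc] at this
  have hQ'prime : Q'.IsPrime := by
    refine ⟨?_, ?_⟩
    · intro htop
      have h1' : (1 : E') ∈ Q' := by rw [htop]; trivial
      rw [key] at h1'
      have : μ 1 = c := by
        have := hμι 1
        rwa [map_one, mul_one] at this
      rw [this] at h1'
      exact hcQ h1'
    · intro a' b' hab
      rw [key] at hab ⊢
      rw [key]
      have : c * μ (a' * b') ∈ Q := Ideal.mul_mem_left _ _ hab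
      rw [hcμ] at this
      exact hp.mem_or_mem this
  have hQ'ass : Q' ∈ associatedPrimes E' E' :=
    (mem_ass_self_iff Q').2 ⟨hQ'prime, ι x, hQ'mem⟩
  have hQ'min := h Q' hQ'ass
  refine ⟨⟨hp, bot_le⟩, ?_⟩
  rintro Q₀ ⟨hQ₀, -⟩ hle
  have hcQ₀ : c ∉ Q₀ := fun hc => hcQ (hle hc)
  let Q₀' : Ideal E' :=
    { carrier := {y | μ y ∈ Q₀}
      add_mem' := fun {a b} ha hb => by
        change μ (a + b) ∈ Q₀
        rw [map_add]; exact Q₀.add_mem ha hb
      zero_mem' := by
        change μ 0 ∈ Q₀
        rw [map_zero]; exact Q₀.zero_mem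
      smul_mem' := fun r' y hy => by
        change μ (r' * y) ∈ Q₀
        have : c * μ (r' * y) ∈ Q₀ := by
          rw [hcμ]; exact Ideal.mul_mem_left _ _ hy
        exact (hQ₀.mem_or_mem this).resolve_left hcQ₀ }
  have hQ₀'mem : ∀ y, y ∈ Q₀' ↔ μ y ∈ Q₀ := fun y => Iff.rfl
  have hQ₀'prime : Q₀'.IsPrime := by
    refine ⟨?_, ?_⟩
    · intro htop
      have h1' : (1 : E') ∈ Q₀' := by rw [htop]; trivial
      rw [hQ₀'mem] at h1'
      have : μ 1 = c := by
        have := hμι 1
        rwa [map_one, mul_one] at this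
      rw [this] at h1'
      exact hcQ₀ h1'
    · intro a' b' hab
      rw [hQ₀'mem] at hab ⊢
      rw [hQ₀'mem]
      have : c * μ (a' * b') ∈ Q₀ := Ideal.mul_mem_left _ _ hab
      rw [hcμ] at this
      exact hQ₀.mem_or_mem this
  have hle' : Q₀' ≤ Q' := fun y hy => (key y).2 (hle ((hQ₀'mem y).1 hy))
  have hge' : Q' ≤ Q₀' := hQ'min.2 ⟨hQ₀'prime, bot_le⟩ hle'
  intro b hb
  have hb' : ι b ∈ Q' := by
    rw [key, hμι]; exact Ideal.mul_mem_left _ _ hb
  have := (hQ₀'mem _).1 (hge' hb')
  rw [hμι] at this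
  exact (hQ₀.mem_or_mem this).resolve_left hcQ₀

end Conductor

section Setup

variable (R : Type u) [CommRing R]
  (C : Type u) [CommRing C] [Algebra R C]

theorem isNoetherianRing_tensor [IsNoetherianRing C] (D : Type u) [CommRing D] [Algebra R D]
    [Module.Finite R D] : IsNoetherianRing (D ⊗[R] C) :=
  haveI : IsNoetherianRing (C ⊗[R] D) := IsNoetherianRing.of_finite C (C ⊗[R] D)
  isNoetherianRing_of_ringEquiv (C ⊗[R] D) (Algebra.TensorProduct.comm R C D).toRingEquiv

theorem algebraMap_mem_of_isMaximal [IsLocalRing R]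
    (hloc : (maximalIdeal R).map (algebraMap R C) ≤ Ideal.jacobson ⊥)
    (D : Type u) [CommRing D] [Algebra R D] [Module.Finite R D] (M : Ideal (D ⊗[R] C))
    [M.IsMaximal] {r : R} (hr : r ∈ maximalIdeal R) : algebraMap R (D ⊗[R] C) r ∈ M := by
  let f : C →+* D ⊗[R] C := (Algebra.TensorProduct.includeRight : C →ₐ[R] D ⊗[R] C).toRingHom
  have hcomp : algebraMap R (D ⊗[R] C) = f.comp (algebraMap R C) := by
    ext r
    simp [f]
  have hf : f.IsIntegral := by
    intro z
    induction z using TensorProduct.induction_on with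
    | zero => exact f.isIntegralElem_zero
    | tmul d c =>
      have h1 : d ⊗ₜ[R] c =
          (Algebra.TensorProduct.includeLeft (R := R) (S := R) (A := D) (B := C) d) * f c := by
        simp [f, Algebra.TensorProduct.tmul_mul_tmul]
      rw [h1]
      apply RingHom.IsIntegralElem.mul
      · have hd : IsIntegral R d := Algebra.IsIntegral.isIntegral d
        have h2 := hd.map (Algebra.TensorProduct.includeLeft : D →ₐ[R] D ⊗[R] C)
        have h3 : (f.comp (algebraMap R C)).IsIntegralElem
            (Algebra.TensorProduct.includeLeft (R := R) (S := R) (A := D) (B := C) d) := by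
          rw [← hcomp]; exact h2
        exact RingHom.IsIntegralElem.of_comp h3
      · exact f.isIntegralElem_map
    | add x y hx hy => exact RingHom.IsIntegralElem.add f hx hy
  haveI := Ideal.isMaximal_comap_of_isIntegral_of_isMaximal' f hf M
  have h1 : algebraMap R C r ∈ M.comap f := by
    have : algebraMap R C r ∈ Ideal.jacobson (⊥ : Ideal C) := hloc (Ideal.mem_map_of_mem _ hr)
    rw [Ideal.jacobson, Ideal.mem_sInf] at this
    exact this ⟨bot_le, inferInstance⟩
  have h2 : f (algebraMap R C r) = algebraMap R (D ⊗[R] C) r := by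
    rw [hcomp]; rfl
  rw [← h2]
  exact h1

/-- the quotient map `D ⊗ C → (D ⧸ P) ⊗ C` -/
noncomputable def quotMap (D : Type u) [CommRing D] [Algebra R D] (P : Ideal D) :
    D ⊗[R] C →ₐ[R] (D ⧸ P) ⊗[R] C :=
  Algebra.TensorProduct.map (Ideal.Quotient.mkₐ R P) (AlgHom.id R C)

theorem quotMap_surjective (D : Type u) [CommRing D] [Algebra R D] (P : Ideal D) :
    Function.Surjective (quotMap R C D P) :=
  Algebra.TensorProduct.map_surjective _ _ (Ideal.Quotient.mkₐ_surjective R P)
    Function.surjective_id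

theorem ker_quotMap (D : Type u) [CommRing D] [Algebra R D] (P : Ideal D) :
    RingHom.ker (quotMap R C D P : D ⊗[R] C →+* (D ⧸ P) ⊗[R] C) =
      P.map (algebraMap D (D ⊗[R] C)) := by
  have := Algebra.TensorProduct.rTensor_ker (R := R) (C := C) (Ideal.Quotient.mkₐ R P)
    (Ideal.Quotient.mkₐ_surjective R P)
  have hk : RingHom.ker (Ideal.Quotient.mkₐ R P) = P := by
    ext a
    rw [RingHom.mem_ker]
    exact Ideal.Quotient.eq_zero_iff_mem
  rw [hk] at this
  exact this

end Setup

end Groth.Agent.Lib.Helper88.S1Lift
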