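import Groth.Agent.Lib.Helper88.NormBC1
import Groth.Agent.Lib.Helper88.AnUnram2
import Groth.Agent.Lib.Helper88.S1Lift3
import Mathlib

/-!
# Integral closedness of `D ⊗ S` in `L ⊗ S` for a normal Noetherian domain `D`

`S` a flat `R`-algebra all of whose "field fibres" `k' ⊗[R] S` are reduced; `D` a Noetherian normal
domain over `R` with fraction field `L`.  Then `D ⊗[R] S` is integrally closed in `L ⊗[R] S`.
-/

universe u

namespace Groth.Agent.Lib.Helper88.NormBC

open Polynomial TensorProduct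

section PartB

variable (R : Type u) [CommRing R] (S : Type u) [CommRing S] [Algebra R S] [Module.Flat R S]
  (D : Type u) [CommRing D] [Algebra R D]
  (L : Type u) [Field L] [Algebra D L] [Algebra R L] [IsScalarTower R D L]

/-- the map `D ⊗ S → L ⊗ S` -/
noncomputable abbrev iotaB : D ⊗[R] S →ₐ[R] L ⊗[R] S :=
  Algebra.TensorProduct.map (IsScalarTower.toAlgHom R D L) (AlgHom.id R S)

theorem iotaB_tmul (d : D) (s : S) : iotaB R S D L (d ⊗ₜ s) = algebraMap D L d ⊗ₜ s := by
  simp [iotaB]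

theorem iotaB_injective (hinj : Function.Injective (algebraMap D L)) :
    Function.Injective (iotaB R S D L) := by
  have : Function.Injective ((IsScalarTower.toAlgHom R D L).toLinearMap.rTensor S) :=
    Module.Flat.rTensor_preserves_injective_linearMap _ hinj
  intro x y hxy
  exact this hxy

variable [IsDomain D] [IsFractionRing D L]

/-- clearing denominators -/
theorem exists_mul_mem_range (w : L ⊗[R] S) :
    ∃ s : D, s ≠ 0 ∧ ∃ y : D ⊗[R] S, iotaB R S D L y = (algebraMap D L s ⊗ₜ[R] (1 : S)) * w := by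
  induction w using TensorProduct.induction_on with
  | zero => exact ⟨1, one_ne_zero, 0, by simp⟩
  | tmul l s' =>
    obtain ⟨d, s₀, hs₀, rfl⟩ := IsFractionRing.div_surjective (A := D) l
    have hs₀' : s₀ ≠ 0 := nonZeroDivisors.ne_zero hs₀
    refine ⟨s₀, hs₀', d ⊗ₜ s', ?_⟩
    rw [iotaB_tmul, Algebra.TensorProduct.tmul_mul_tmul, one_mul, mul_div_cancel₀]
    rwa [ne_eq, map_eq_zero_iff _ (IsFractionRing.injective D L)]
  | add x y hx hy =>
    obtain ⟨s₁, hs₁, y₁, h₁⟩ := hx
    obtain ⟨s₂, hs₂, y₂, h₂⟩ := hy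
    refine ⟨s₁ * s₂, mul_ne_zero hs₁ hs₂, (s₂ ⊗ₜ 1) * y₁ + (s₁ ⊗ₜ 1) * y₂, ?_⟩
    rw [map_add, map_mul, map_mul, h₁, h₂, iotaB_tmul, iotaB_tmul, map_mul, mul_add]
    have e : (algebraMap D L s₁ * algebraMap D L s₂) ⊗ₜ[R] (1 : S) =
        (algebraMap D L s₁ ⊗ₜ[R] (1 : S)) * (algebraMap D L s₂ ⊗ₜ[R] (1 : S)) := by
      rw [Algebra.TensorProduct.tmul_mul_tmul, one_mul]
    rw [e]
    ring

/-- multiplication by a nonzero element of `D` is injective on `L ⊗ S` -/
theorem eq_zero_of_tmul_mul_eq_zero {s : D} (hs : s ≠ 0) (w : L ⊗[R] S)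
    (h : (algebraMap D L s ⊗ₜ[R] (1 : S)) * w = 0) : w = 0 := by
  have hsL : algebraMap D L s ≠ 0 := by
    rwa [ne_eq, map_eq_zero_iff _ (IsFractionRing.injective D L)]
  have : ((algebraMap D L s)⁻¹ ⊗ₜ[R] (1 : S)) * ((algebraMap D L s ⊗ₜ[R] (1 : S)) * w) = w := by
    rw [← mul_assoc, Algebra.TensorProduct.tmul_mul_tmul, inv_mul_cancel₀ hsL, one_mul,
      ← Algebra.TensorProduct.one_def, one_mul]
  rw [← this, h, mul_zero]

section Reduced

variable (hGR : ∀ (k' : Type u) [Field k'] [Algebra R k'], IsReduced (k' ⊗[R] S))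
include hGR

/-- `(D ⧸ p) ⊗ S` is reduced for `p` prime -/
theorem isReduced_quot_tensor (p : Ideal D) [p.IsPrime] : IsReduced ((D ⧸ p) ⊗[R] S) := by
  haveI := hGR (FractionRing (D ⧸ p))
  exact isReduced_of_injective (iotaB R S (D ⧸ p) (FractionRing (D ⧸ p)))
    (iotaB_injective R S (D ⧸ p) (FractionRing (D ⧸ p))
      (IsFractionRing.injective (D ⧸ p) (FractionRing (D ⧸ p))))

/-- a power in `p (D ⊗ S)` forces membership -/
theorem mem_map_of_pow_mem (p : Ideal D) [p.IsPrime] (t : D ⊗[R] S) (m : ℕ)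
    (h : t ^ m ∈ p.map (algebraMap D (D ⊗[R] S))) : t ∈ p.map (algebraMap D (D ⊗[R] S)) := by
  haveI := isReduced_quot_tensor R S D hGR p
  rw [← S1Lift.ker_quotMap R S D p, RingHom.mem_ker] at h ⊢
  rw [map_pow] at h
  exact IsReduced.eq_zero _ ⟨m, h⟩

end Reduced

variable [IsNoetherianRing D] [IsIntegrallyClosed D]

/-- elements of `p (D ⊗ S)` are, up to `v`, multiples of `π` -/
theorem exists_mul_eq_of_mem_map {p : Ideal D} {π v : D}
    (h : ∀ g ∈ p, ∃ c : D, v * g = π * c) (t : D ⊗[R] S)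
    (ht : t ∈ p.map (algebraMap D (D ⊗[R] S))) :
    ∃ t' : D ⊗[R] S, (v ⊗ₜ[R] (1 : S)) * t = (π ⊗ₜ[R] (1 : S)) * t' := by
  unfold Ideal.map at ht
  induction ht using Submodule.span_induction with
  | mem x hx =>
    obtain ⟨g, hg, rfl⟩ := hx
    obtain ⟨c, hc⟩ := h g hg
    refine ⟨c ⊗ₜ 1, ?_⟩
    rw [Algebra.TensorProduct.algebraMap_apply, Algebra.algebraMap_self, RingHom.id_apply,
      Algebra.TensorProduct.tmul_mul_tmul, Algebra.TensorProduct.tmul_mul_tmul, hc]
  | zero => exact ⟨0, by simp⟩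
  | add x y _ _ hx hy =>
    obtain ⟨x', hx'⟩ := hx
    obtain ⟨y', hy'⟩ := hy
    exact ⟨x' + y', by rw [mul_add, mul_add, hx', hy']⟩
  | smul a x _ hx =>
    obtain ⟨x', hx'⟩ := hx
    exact ⟨a * x', by rw [smul_eq_mul, mul_left_comm, hx', mul_left_comm]⟩

/-- `D → L ⊗ S` -/
noncomputable abbrev epsB : D →+* L ⊗[R] S :=
  (Algebra.TensorProduct.includeLeftRingHom : L →+* L ⊗[R] S).comp (algebraMap D L)

theorem epsB_apply (d : D) : epsB R S D L d = algebraMap D L d ⊗ₜ[R] (1 : S) := rfl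

theorem iotaB_algebraMap (d : D) :
    iotaB R S D L (algebraMap D (D ⊗[R] S) d) = epsB R S D L d := by
  rw [Algebra.TensorProduct.algebraMap_apply, Algebra.algebraMap_self, RingHom.id_apply,
    iotaB_tmul]
  rfl

theorem tmul_one_eq_algebraMap (d : D) : (d ⊗ₜ[R] (1 : S)) = algebraMap D (D ⊗[R] S) d := by
  rw [Algebra.TensorProduct.algebraMap_apply, Algebra.algebraMap_self, RingHom.id_apply]

variable (hGR : ∀ (k' : Type u) [Field k'] [Algebra R k'], IsReduced (k' ⊗[R] S))

include hGR in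
/-- one descending step -/
theorem step_down {p : Ideal D} [p.IsPrime] {π v : D} (hπ : π ∈ p) (hπ0 : π ≠ 0)
    (hg : ∀ g ∈ p, ∃ c : D, v * g = π * c) (w : L ⊗[R] S)
    (hw : (iotaB R S D L).toRingHom.IsIntegralElem w) (d : D) (t : D ⊗[R] S)
    (ht : iotaB R S D L t = epsB R S D L (d * π) * w) :
    ∃ t' : D ⊗[R] S, iotaB R S D L t' = epsB R S D L (v * d) * w := by
  have hinj := iotaB_injective R S D L (IsFractionRing.injective D L)
  set ξ : L ⊗[R] S := epsB R S D L d * w with hξ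
  have hξint : (iotaB R S D L).toRingHom.IsIntegralElem ξ := by
    refine RingHom.IsIntegralElem.mul _ ?_ hw
    rw [← iotaB_algebraMap]
    exact (iotaB R S D L).toRingHom.isIntegralElem_map
  obtain ⟨f, hf, hfe⟩ := hξint
  have h1 := scaleRoots_eval₂_eq_zero (iotaB R S D L).toRingHom
    (s := algebraMap D (D ⊗[R] S) π) hfe
  have h2 : (iotaB R S D L).toRingHom (algebraMap D (D ⊗[R] S) π) * ξ =
      (iotaB R S D L).toRingHom t := by
    change iotaB R S D L (algebraMap D (D ⊗[R] S) π) * ξ = iotaB R S D L t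
    rw [iotaB_algebraMap, ht, hξ, map_mul]
    ring
  rw [h2, eval₂_at_apply] at h1
  have h3 : hval t (algebraMap D (D ⊗[R] S) π) f = 0 := hinj (by rw [map_zero]; exact h1)
  rw [hval_eq _ _ hf] at h3
  have h4 : t ^ f.natDegree ∈ p.map (algebraMap D (D ⊗[R] S)) := by
    rw [eq_neg_of_add_eq_zero_left h3, Ideal.neg_mem_iff]
    refine Ideal.sum_mem _ (fun i hi => ?_)
    have hi' : i < f.natDegree := Finset.mem_range.1 hi
    apply Ideal.mul_mem_right
    apply Ideal.mul_mem_left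
    have : f.natDegree - i = (f.natDegree - i - 1) + 1 := by omega
    rw [this, pow_succ]
    apply Ideal.mul_mem_left
    exact Ideal.mem_map_of_mem _ hπ
  have h5 := mem_map_of_pow_mem R S D hGR p t _ h4
  obtain ⟨t', ht'⟩ := exists_mul_eq_of_mem_map R S D hg t h5
  refine ⟨t', ?_⟩
  have h6 : epsB R S D L π * (iotaB R S D L t' - epsB R S D L (v * d) * w) = 0 := by
    have h7 := congrArg (iotaB R S D L) ht'
    rw [map_mul, map_mul, tmul_one_eq_algebraMap, tmul_one_eq_algebraMap, iotaB_algebraMap,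
      iotaB_algebraMap, ht] at h7
    rw [mul_sub, ← h7]
    simp only [map_mul]
    ring
  have h8 := eq_zero_of_tmul_mul_eq_zero R S D L hπ0 _ h6
  exact sub_eq_zero.1 h8

include hGR in
/-- **`D ⊗ S` is integrally closed in `L ⊗ S`.** -/
theorem mem_range_iotaB_of_isIntegralElem (w : L ⊗[R] S)
    (hw : (iotaB R S D L).toRingHom.IsIntegralElem w) : ∃ t : D ⊗[R] S, iotaB R S D L t = w := by
  have hinj := iotaB_injective R S D L (IsFractionRing.injective D L)
  obtain ⟨s, hs, y, hy⟩ := exists_mul_mem_range R S D L w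
  change iotaB R S D L y = epsB R S D L s * w at hy
  have key : y ∈ (Ideal.span {s}).map (algebraMap D (D ⊗[R] S)) := by
    apply AnUnram2.mem_map_of_forall_associatedPrimes
    intro p hp
    haveI : p.IsPrime := hp.isPrime
    obtain ⟨hsp, π, hπ, v, hv, hg⟩ := AnUnram2.exists_uniformizer_of_mem_associatedPrimes hs hp
    obtain ⟨n, w₀, hw₀, hwn⟩ := AnUnram2.exists_pow_mem_span_of_uniformizer hs hπ hv hg
    have hπ0 : π ≠ 0 := by
      rintro rfl
      obtain ⟨c, hc⟩ := hg s hsp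
      rw [zero_mul] at hc
      rcases mul_eq_zero.1 hc with h | h
      · exact hv (h ▸ p.zero_mem)
      · exact hs h
    have hΦ : ∀ j : ℕ, j ≤ n → ∃ u : D, u ∉ p ∧ ∃ t : D ⊗[R] S,
        iotaB R S D L t = epsB R S D L (u * π ^ (n - j)) * w := by
      intro j
      induction j with
      | zero =>
        intro _
        rw [Ideal.mem_span_singleton'] at hwn
        obtain ⟨c₀, hc₀⟩ := hwn
        refine ⟨w₀, hw₀, algebraMap D (D ⊗[R] S) c₀ * y, ?_⟩
        rw [map_mul, iotaB_algebraMap, hy, Nat.sub_zero, ← hc₀, map_mul]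
        ring
      | succ j ih =>
        intro hj
        obtain ⟨u, hu, t, ht⟩ := ih (by omega)
        have e : n - j = (n - (j + 1)) + 1 := by omega
        rw [e, pow_succ, ← mul_assoc] at ht
        obtain ⟨t', ht'⟩ := step_down R S D L hGR hπ hπ0 hg w hw _ t ht
        refine ⟨v * u, ?_, t', ?_⟩
        · exact fun h => (Ideal.IsPrime.mem_or_mem inferInstance h).elim hv hu
        · rw [ht', mul_assoc]
    obtain ⟨u, hu, t, ht⟩ := hΦ n le_rfl
    rw [Nat.sub_self, pow_zero, mul_one] at ht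
    refine ⟨u, hu, ?_⟩
    have h1 : algebraMap D (D ⊗[R] S) u * y = algebraMap D (D ⊗[R] S) s * t := by
      apply hinj
      rw [map_mul, map_mul, iotaB_algebraMap, iotaB_algebraMap, hy, ht]
      ring
    rw [h1, Ideal.map_span, Set.image_singleton, Ideal.mem_span_singleton']
    exact ⟨t, mul_comm _ _⟩
  rw [Ideal.map_span, Set.image_singleton, Ideal.mem_span_singleton'] at key
  obtain ⟨t, ht⟩ := key
  refine ⟨t, ?_⟩
  have h2 : epsB R S D L s * (iotaB R S D L t - w) = 0 := by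
    rw [mul_sub, ← hy, ← ht, map_mul, iotaB_algebraMap]
    ring
  exact sub_eq_zero.1 (eq_zero_of_tmul_mul_eq_zero R S D L hs _ h2)

end PartB

end Groth.Agent.Lib.Helper88.NormBC
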