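import Groth.Agent.Lib.Helper88.NormBC2
import Mathlib

/-!
# The flat base change of a "finite-limit" description of a subring of a field
-/

universe u

namespace Groth.Agent.Lib.Helper88.NormBC

open Polynomial TensorProduct

section PartC

variable (R : Type u) [CommRing R] (K : Type u) [Field K] [Algebra R K]
  (S : Type u) [CommRing S] [Algebra R S] [Module.Flat R S]
  {ι : Type u} [Finite ι]
  (D : ι → Type u) [∀ i, CommRing (D i)] [∀ i, IsDomain (D i)] [∀ i, IsNoetherianRing (D i)]
  [∀ i, IsIntegrallyClosed (D i)] [∀ i, Algebra R (D i)]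
  (L : ι → Type u) [∀ i, Field (L i)] [∀ i, Algebra (D i) (L i)] [∀ i, IsFractionRing (D i) (L i)]
  [∀ i, Algebra R (L i)] [∀ i, IsScalarTower R (D i) (L i)]
  (φ : ∀ i, K →ₐ[R] L i)

/-- the image of `D i` in `L i`, as an `R`-submodule -/
noncomputable abbrev rangeD (i : ι) : Submodule R (L i) :=
  LinearMap.range (IsScalarTower.toAlgHom R (D i) (L i)).toLinearMap

/-- `K → ∏ L i ⧸ D i` -/
noncomputable def gMap : K →ₗ[R] (∀ i, L i ⧸ rangeD R D L i) :=
  LinearMap.pi (fun i => (rangeD R D L i).mkQ ∘ₗ (φ i).toLinearMap)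

/-- the elements of `K` whose images lie in all `D i` -/
noncomputable abbrev N₁ : Submodule R K := LinearMap.ker (gMap R K D L φ)

theorem mem_N₁_iff (x : K) :
    x ∈ N₁ R K D L φ ↔ ∀ i, ∃ d : D i, algebraMap (D i) (L i) d = φ i x := by
  rw [LinearMap.mem_ker, funext_iff]
  refine forall_congr' (fun i => ?_)
  simp only [gMap, LinearMap.pi_apply, LinearMap.comp_apply, Pi.zero_apply,
    Submodule.mkQ_apply, Submodule.Quotient.mk_eq_zero, LinearMap.mem_range]
  rfl

variable (hGR : ∀ (k' : Type u) [Field k'] [Algebra R k'], IsReduced (k' ⊗[R] S))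

include hGR in
/-- **flat base change of the finite limit** -/
theorem mem_range_rTensor_N₁ (z : K ⊗[R] S)
    (hz : (Algebra.TensorProduct.includeRight : S →ₐ[R] K ⊗[R] S).toRingHom.IsIntegralElem z) :
    z ∈ LinearMap.range ((N₁ R K D L φ).subtype.rTensor S) := by
  have hex : Function.Exact (N₁ R K D L φ).subtype (gMap R K D L φ) :=
    LinearMap.exact_subtype_ker_map _
  have hex' := Module.Flat.rTensor_exact S hex
  rw [LinearMap.mem_range]
  apply (hex' z).1
  classical
  haveI : Fintype ι := Fintype.ofFinite ι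
  apply (TensorProduct.piLeft R S (fun i => L i ⧸ rangeD R D L i)).injective
  rw [map_zero]
  funext i
  -- the `i`-th component
  have hcomp : ∀ z : K ⊗[R] S,
      (TensorProduct.piLeft R S (fun i => L i ⧸ rangeD R D L i))
        ((gMap R K D L φ).rTensor S z) i =
      ((rangeD R D L i).mkQ.rTensor S) ((φ i).toLinearMap.rTensor S z) := by
    intro z
    induction z using TensorProduct.induction_on with
    | zero => simp
    | tmul x s => simp [gMap]
    | add x y hx hy => simp only [map_add, Pi.add_apply, hx, hy]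
  rw [hcomp, Pi.zero_apply]
  -- integrality of the image
  set w : L i ⊗[R] S := (φ i).toLinearMap.rTensor S z with hw
  have hw' : w = Algebra.TensorProduct.map (φ i) (AlgHom.id R S) z := rfl
  have hint : (iotaB R S (D i) (L i)).toRingHom.IsIntegralElem w := by
    obtain ⟨p, hp, hpz⟩ := hz
    refine ⟨p.map (Algebra.TensorProduct.includeRight : S →ₐ[R] D i ⊗[R] S).toRingHom,
      hp.map _, ?_⟩
    rw [eval₂_map]
    have hc : (iotaB R S (D i) (L i)).toRingHom.comp
        (Algebra.TensorProduct.includeRight : S →ₐ[R] D i ⊗[R] S).toRingHom =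
        (Algebra.TensorProduct.map (φ i) (AlgHom.id R S)).toRingHom.comp
          (Algebra.TensorProduct.includeRight : S →ₐ[R] K ⊗[R] S).toRingHom := by
      ext s
      simp [iotaB]
    rw [hc, hw']
    have := congrArg (Algebra.TensorProduct.map (φ i) (AlgHom.id R S)) hpz
    rw [map_zero] at this
    rw [← this]
    exact (hom_eval₂ p _ (Algebra.TensorProduct.map (φ i) (AlgHom.id R S)).toRingHom z).symm
  obtain ⟨t, ht⟩ := mem_range_iotaB_of_isIntegralElem R S (D i) (L i) hGR w hint
  rw [← ht]
  have h1 : iotaB R S (D i) (L i) t =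
      ((IsScalarTower.toAlgHom R (D i) (L i)).toLinearMap.rTensor S) t := rfl
  rw [h1, ← LinearMap.comp_apply, ← LinearMap.rTensor_comp]
  have h2 : (rangeD R D L i).mkQ ∘ₗ (IsScalarTower.toAlgHom R (D i) (L i)).toLinearMap = 0 := by
    ext d
    simp only [LinearMap.comp_apply, Submodule.mkQ_apply, LinearMap.zero_apply,
      Submodule.Quotient.mk_eq_zero]
    exact LinearMap.mem_range_self _ d
  rw [h2, LinearMap.rTensor_zero, LinearMap.zero_apply]

end PartC

end Groth.Agent.Lib.Helper88.NormBC
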