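import Groth.Prelude.Def_Hens2

/-!
Helper lemmas on `Hens2.IsPairHenselization` derived from the universal property alone
(helper88).  Key trick: `(C, ⊥)` is always a henselian pair.
-/

set_option autoImplicit false
universe u

namespace Groth.Agent.Lib.Helper88

open Polynomial

/-- Any ring is henselian along the zero ideal. -/
theorem henselianRing_bot (C : Type u) [CommRing C] : HenselianRing C (⊥ : Ideal C) where
  jac := bot_le
  is_henselian := by
    intro f _ a₀ h₁ _
    refine ⟨a₀, ?_, by simp⟩
    rw [Ideal.mem_bot] at h₁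
    exact h₁

variable {A : Type u} [CommRing A] {I : Ideal A} {B : Type u} [CommRing B] [Algebra A B]

/-- The retraction `B → A/I` given by the universal property. -/
theorem exists_retraction (hB : Hens2.IsPairHenselization A I B) :
    ∃ π : B →+* A ⧸ I, π.comp (algebraMap A B) = Ideal.Quotient.mk I := by
  obtain ⟨π, hπ, -⟩ := hB.2 (A ⧸ I) ⊥ (Ideal.Quotient.mk I) (henselianRing_bot _)
    (by rw [Ideal.map_quotient_self])
  exact ⟨π, hπ⟩

/-- Every element of a pair-henselization is congruent mod `IB` to an element of `A`. -/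
theorem exists_sub_mem (hB : Hens2.IsPairHenselization A I B) (x : B) :
    ∃ a : A, x - algebraMap A B a ∈ I.map (algebraMap A B) := by
  obtain ⟨π, hπ⟩ := exists_retraction hB
  -- ι : A/I → B/IB
  let ι : A ⧸ I →+* B ⧸ I.map (algebraMap A B) :=
    Ideal.quotientMap (I.map (algebraMap A B)) (algebraMap A B) Ideal.le_comap_map
  have h1 : (ι.comp π).comp (algebraMap A B) =
      (Ideal.Quotient.mk (I.map (algebraMap A B))).comp (algebraMap A B) := by
    rw [RingHom.comp_assoc, hπ]
    ext a
    simp [ι]
  obtain ⟨g, -, hguniq⟩ := hB.2 (B ⧸ I.map (algebraMap A B)) ⊥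
    ((Ideal.Quotient.mk (I.map (algebraMap A B))).comp (algebraMap A B)) (henselianRing_bot _)
    (by
      rw [← Ideal.map_map, Ideal.map_quotient_self])
  have h2 : ι.comp π = Ideal.Quotient.mk (I.map (algebraMap A B)) :=
    (hguniq _ h1).trans (hguniq _ rfl).symm
  obtain ⟨a, ha⟩ := Ideal.Quotient.mk_surjective (π x)
  refine ⟨a, ?_⟩
  rw [← Ideal.Quotient.eq]
  have h3 := RingHom.congr_fun h2 x
  rw [RingHom.comp_apply, ← ha] at h3
  rw [← h3]
  simp [ι]

/-- If `a` is a unit modulo `I`, then its image in a pair-henselization is a unit. -/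
theorem isUnit_algebraMap_of_isUnit_mk (hB : Hens2.IsPairHenselization A I B) (a : A)
    (ha : IsUnit (Ideal.Quotient.mk I a)) : IsUnit (algebraMap A B a) := by
  haveI := hB.1
  have hloc : IsLocalHom (Ideal.Quotient.mk (I.map (algebraMap A B))) :=
    isLocalHom_of_le_jacobson_bot _ (HenselianRing.jac)
  apply hloc.map_nonunit
  let ι : A ⧸ I →+* B ⧸ I.map (algebraMap A B) :=
    Ideal.quotientMap (I.map (algebraMap A B)) (algebraMap A B) Ideal.le_comap_map
  have : Ideal.Quotient.mk (I.map (algebraMap A B)) (algebraMap A B a) = ι (Ideal.Quotient.mk I a) := by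
    simp [ι]
  rw [this]
  exact ha.map ι

end Groth.Agent.Lib.Helper88
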