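import Mathlib

/-!
# The power series ring over a Noetherian normal domain is normal (Stacks 0BI0 / 030A)
-/

universe u

namespace Groth.Agent.Lib.Helper88.PowerSeriesNormal

open PowerSeries

/-- A Noetherian integrally closed domain is completely integrally closed. -/
theorem exists_algebraMap_eq_of_forall_mul_pow {R K : Type*} [CommRing R] [IsDomain R]
    [IsNoetherianRing R] [IsIntegrallyClosed R] [Field K] [Algebra R K] [IsFractionRing R K]
    (a : K) (c : R) (hc : c ≠ 0)
    (h : ∀ n : ℕ, ∃ r : R, algebraMap R K r = algebraMap R K c * a ^ n) :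
    ∃ r : R, algebraMap R K r = a := by
  have hcK : algebraMap R K c ≠ 0 := by
    rwa [Ne, FaithfulSMul.algebraMap_eq_zero_iff]
  apply IsIntegrallyClosed.isIntegral_iff.mp
  refine IsIntegral.of_mem_of_fg (Algebra.adjoin R {a}) ?_ a (Algebra.self_mem_adjoin_singleton R a)
  refine Submodule.FG.of_le (T := Submodule.span R {(algebraMap R K c)⁻¹}) 
    (Submodule.fg_span_singleton _) ?_
  intro s hs
  rw [Subalgebra.mem_toSubmodule, Algebra.adjoin_singleton_eq_range_aeval] at hs
  obtain ⟨p, rfl⟩ := hs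
  rw [Submodule.mem_span_singleton]
  have key : algebraMap R K c * Polynomial.aeval a p ∈ (algebraMap R K).range := by
    rw [Polynomial.aeval_eq_sum_range, Finset.mul_sum]
    refine Subring.sum_mem _ (fun i _ => ?_)
    obtain ⟨r, hr⟩ := h i
    refine ⟨p.coeff i * r, ?_⟩
    rw [map_mul, hr, Algebra.smul_def]
    ring
  obtain ⟨r, hr⟩ := key
  refine ⟨r, ?_⟩
  change _ = (Polynomial.aeval a) p
  rw [Algebra.smul_def, hr]
  field_simp

section

variable {R K : Type*} [CommRing R] [Field K] [Algebra R K]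

theorem mem_range_map_iff (b : K⟦X⟧) :
    b ∈ (PowerSeries.map (algebraMap R K)).range ↔ ∀ j, coeff j b ∈ (algebraMap R K).range := by
  constructor
  · rintro ⟨a, rfl⟩ j
    exact ⟨coeff j a, by simp⟩
  · intro h
    choose a ha using h
    refine ⟨PowerSeries.mk a, ?_⟩
    ext j
    simp [ha]

theorem mem_of_X_pow_mul_mem {n : ℕ} {b : K⟦X⟧}
    (h : X ^ n * b ∈ (PowerSeries.map (algebraMap R K)).range) :
    b ∈ (PowerSeries.map (algebraMap R K)).range := by
  rw [mem_range_map_iff] at h ⊢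
  intro j
  have := h (j + n)
  rwa [PowerSeries.coeff_X_pow_mul] at this

/-- `v` is almost integral over the image of `R⟦X⟧`, with denominator `d`. -/
def AlmostInt (v : K⟦X⟧) (d : R⟦X⟧) : Prop :=
  ∀ n : ℕ, PowerSeries.map (algebraMap R K) d * v ^ n ∈ (PowerSeries.map (algebraMap R K)).range

theorem AlmostInt.sub_mem {v c : K⟦X⟧} {d : R⟦X⟧} (hv : AlmostInt v d)
    (hc : c ∈ (PowerSeries.map (algebraMap R K)).range) : AlmostInt (v - c) d := by
  intro n
  rw [sub_eq_add_neg, add_pow, Finset.mul_sum]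
  refine Subring.sum_mem _ (fun k _ => ?_)
  have : PowerSeries.map (algebraMap R K) d * (v ^ k * (-c) ^ (n - k) * (n.choose k : K⟦X⟧)) =
      (PowerSeries.map (algebraMap R K) d * v ^ k) * (-c) ^ (n - k) * (n.choose k : K⟦X⟧) := by
    ring
  rw [this]
  exact mul_mem (mul_mem (hv k) (pow_mem (neg_mem hc) _)) (natCast_mem _ _)

theorem AlmostInt.of_X_mul {u : K⟦X⟧} {d : R⟦X⟧} (h : AlmostInt (X * u) d) : AlmostInt u d := by
  intro n
  apply mem_of_X_pow_mul_mem (n := n)
  have := h n
  rw [mul_pow] at this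
  convert this using 1
  ring

theorem coeff_order_mul_pow (v : K⟦X⟧) (d : R⟦X⟧) (n : ℕ) :
    coeff d.order.toNat (PowerSeries.map (algebraMap R K) d * v ^ n) =
      algebraMap R K (coeff d.order.toNat d) * (constantCoeff v) ^ n := by
  rw [PowerSeries.coeff_mul, Finset.sum_eq_single (d.order.toNat, 0)]
  · simp
  · rintro ⟨i, j⟩ hij hne
    have hij := Finset.HasAntidiagonal.mem_antidiagonal.mp hij
    simp only at hij
    have hi : i < d.order.toNat := by
      rcases Nat.eq_zero_or_pos j with hj | hj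
      · exfalso; apply hne; subst hj; rw [add_zero] at hij; rw [hij]
      · omega
    rw [PowerSeries.coeff_map, PowerSeries.coeff_of_lt_order_toNat i hi, map_zero, zero_mul]
  · intro h
    exact absurd (Finset.HasAntidiagonal.mem_antidiagonal.mpr (add_zero _)) h

end

section

variable {R K : Type*} [CommRing R] [IsDomain R] [IsNoetherianRing R] [IsIntegrallyClosed R]
  [Field K] [Algebra R K] [IsFractionRing R K]

theorem AlmostInt.constantCoeff_mem {v : K⟦X⟧} {d : R⟦X⟧} (hd : d ≠ 0) (h : AlmostInt v d) :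
    constantCoeff v ∈ (algebraMap R K).range := by
  have hdm : coeff d.order.toNat d ≠ 0 := PowerSeries.coeff_order hd
  obtain ⟨r, hr⟩ := exists_algebraMap_eq_of_forall_mul_pow (constantCoeff v) _ hdm (fun n => by
    obtain ⟨r, hr⟩ := (mem_range_map_iff _).mp (h n) d.order.toNat
    exact ⟨r, by rw [hr, coeff_order_mul_pow]⟩)
  exact ⟨r, hr⟩

theorem AlmostInt.coeff_mem {d : R⟦X⟧} (hd : d ≠ 0) (i : ℕ) :
    ∀ v : K⟦X⟧, AlmostInt v d → coeff i v ∈ (algebraMap R K).range := by
  induction i with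
  | zero =>
    intro v h
    rw [PowerSeries.coeff_zero_eq_constantCoeff]
    exact h.constantCoeff_mem hd
  | succ i ih =>
    intro v h
    obtain ⟨r, hr⟩ := h.constantCoeff_mem hd
    have hc : C (constantCoeff v) ∈ (PowerSeries.map (algebraMap R K)).range :=
      ⟨C r, by rw [PowerSeries.map_C, hr]⟩
    have h1 := h.sub_mem hc
    rw [PowerSeries.sub_const_eq_X_mul_shift] at h1
    have h2 := ih _ h1.of_X_mul
    rwa [PowerSeries.coeff_mk] at h2

theorem AlmostInt.mem {v : K⟦X⟧} {d : R⟦X⟧} (hd : d ≠ 0) (h : AlmostInt v d) :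
    v ∈ (PowerSeries.map (algebraMap R K)).range :=
  (mem_range_map_iff v).mpr (fun j => AlmostInt.coeff_mem hd j v h)

theorem exists_eq_X_pow_mul {d : R⟦X⟧} (hd : d ≠ 0) (t : ℕ) :
    ∀ v : K⟦X⟧, (∀ n : ℕ, ∃ h : R⟦X⟧, PowerSeries.map (algebraMap R K) d * v ^ n =
      X ^ (t * n) * PowerSeries.map (algebraMap R K) h) →
    ∃ q : R⟦X⟧, v = X ^ t * PowerSeries.map (algebraMap R K) q := by
  induction t with
  | zero =>
    intro v H
    have h : AlmostInt v d := by
      intro n
      obtain ⟨h, hh⟩ := H n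
      exact ⟨h, by rw [hh]; simp⟩
    obtain ⟨q, hq⟩ := h.mem hd
    exact ⟨q, by rw [hq]; simp⟩
  | succ t ih =>
    intro v H
    have hdm : coeff d.order.toNat d ≠ 0 := PowerSeries.coeff_order hd
    have hv0 : constantCoeff v = 0 := by
      obtain ⟨h, hh⟩ := H (d.order.toNat + 1)
      have h1 := coeff_order_mul_pow v d (d.order.toNat + 1)
      rw [hh, PowerSeries.coeff_X_pow_mul', if_neg (by nlinarith)] at h1
      have h2 : algebraMap R K (coeff d.order.toNat d) ≠ 0 := by
        rwa [Ne, FaithfulSMul.algebraMap_eq_zero_iff]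
      have h3 := (mul_eq_zero.mp h1.symm).resolve_left h2
      exact pow_eq_zero_iff (Nat.succ_ne_zero _) |>.mp h3
    have hv : v = X * PowerSeries.mk fun p => coeff (p + 1) v := by
      conv_lhs => rw [PowerSeries.eq_X_mul_shift_add_const v, hv0, map_zero, add_zero]
    obtain ⟨q, hq⟩ := ih (PowerSeries.mk fun p => coeff (p + 1) v) (fun n => by
      obtain ⟨h, hh⟩ := H n
      refine ⟨h, ?_⟩
      rw [hv, mul_pow] at hh
      have hX : (X : K⟦X⟧) ^ n ≠ 0 := pow_ne_zero n PowerSeries.X_ne_zero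
      apply mul_left_cancel₀ hX
      calc X ^ n * (PowerSeries.map (algebraMap R K) d * (PowerSeries.mk fun p => coeff (p + 1) v) ^ n)
          = PowerSeries.map (algebraMap R K) d * (X ^ n * (PowerSeries.mk fun p => coeff (p + 1) v) ^ n) := by
            ring
        _ = X ^ ((t + 1) * n) * PowerSeries.map (algebraMap R K) h := hh
        _ = X ^ n * (X ^ (t * n) * PowerSeries.map (algebraMap R K) h) := by ring)
    exact ⟨q, by rw [hv, hq]; ring⟩

end

/-- **The power series ring over a Noetherian normal domain is normal.** -/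
theorem isIntegrallyClosed (R : Type*) [CommRing R] [IsDomain R] [IsNoetherianRing R]
    [IsIntegrallyClosed R] : IsIntegrallyClosed R⟦X⟧ := by
  classical
  let K := FractionRing R
  let F := FractionRing R⟦X⟧
  have hφ : Function.Injective (PowerSeries.map (algebraMap R K)) :=
    PowerSeries.map_injective _ (IsFractionRing.injective R K)
  rw [isIntegrallyClosed_iff F]
  intro w hw
  obtain ⟨f, g, hg, rfl⟩ := IsFractionRing.div_surjective (A := R⟦X⟧) w
  have hg0 : g ≠ 0 := nonZeroDivisors.ne_zero hg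
  have hgF : algebraMap R⟦X⟧ F g ≠ 0 := by
    rwa [Ne, FaithfulSMul.algebraMap_eq_zero_iff]
  set w : F := algebraMap R⟦X⟧ F f / algebraMap R⟦X⟧ F g with hw_def
  -- almost integrality
  obtain ⟨s, hs⟩ := hw.fg_adjoin_singleton
  obtain ⟨⟨b, hbmem⟩, hb⟩ :=
    IsLocalization.exist_integer_multiples_of_finset (nonZeroDivisors R⟦X⟧) s
  have hb0 : b ≠ 0 := nonZeroDivisors.ne_zero hbmem
  have hall : ∀ m ∈ Algebra.adjoin R⟦X⟧ {w}, IsLocalization.IsInteger R⟦X⟧ (b • m) := by
    intro m hm
    rw [← Subalgebra.mem_toSubmodule, ← hs] at hm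
    induction hm using Submodule.span_induction with
    | mem x hx => exact hb x hx
    | zero => rw [smul_zero]; exact IsLocalization.isInteger_zero
    | add x y _ _ hx hy => rw [smul_add]; exact IsLocalization.isInteger_add hx hy
    | smul a x _ hx => rw [smul_comm]; exact IsLocalization.isInteger_smul hx
  have hE : ∀ n : ℕ, ∃ e : R⟦X⟧, e * g ^ n = b * f ^ n := by
    intro n
    obtain ⟨e, he⟩ := hall (w ^ n) (pow_mem (Algebra.self_mem_adjoin_singleton _ w) n)
    refine ⟨e, IsFractionRing.injective R⟦X⟧ F ?_⟩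
    rw [map_mul, map_mul, map_pow, map_pow, he, Algebra.smul_def, hw_def, div_pow]
    rw [mul_assoc, div_mul_cancel₀ _ (pow_ne_zero n hgF)]
  -- move to `K⟦X⟧`
  have hφg : PowerSeries.map (algebraMap R K) g ≠ 0 := by
    rw [Ne, ← map_zero (PowerSeries.map (algebraMap R K))]
    exact fun h => hg0 (hφ h)
  set t := (PowerSeries.map (algebraMap R K) g).order.toNat with ht
  set u : (K⟦X⟧)ˣ := PowerSeries.Unit_of_divided_by_X_pow_order (PowerSeries.map (algebraMap R K) g)
    with hu
  have hgu : PowerSeries.map (algebraMap R K) g = X ^ t * (u : K⟦X⟧) := by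
    rw [hu, PowerSeries.Unit_of_divided_by_X_pow_order_nonzero hφg, ht,
      PowerSeries.X_pow_order_mul_divXPowOrder]
  obtain ⟨q, hq⟩ := exists_eq_X_pow_mul hb0 t
    (PowerSeries.map (algebraMap R K) f * ((u⁻¹ : (K⟦X⟧)ˣ) : K⟦X⟧)) (fun n => by
    obtain ⟨e, he⟩ := hE n
    refine ⟨e, ?_⟩
    have h1 := congrArg (PowerSeries.map (algebraMap R K)) he
    rw [map_mul, map_mul, map_pow, map_pow, hgu, mul_pow] at h1
    rw [mul_pow, ← mul_assoc, ← h1, ← Units.val_pow_eq_pow_val, ← Units.val_pow_eq_pow_val,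
      ← pow_mul]
    calc PowerSeries.map (algebraMap R K) e * (X ^ (t * n) * ((u ^ n : (K⟦X⟧)ˣ) : K⟦X⟧)) *
          ((u⁻¹ ^ n : (K⟦X⟧)ˣ) : K⟦X⟧)
        = X ^ (t * n) * PowerSeries.map (algebraMap R K) e *
          (((u ^ n : (K⟦X⟧)ˣ) : K⟦X⟧) * ((u⁻¹ ^ n : (K⟦X⟧)ˣ) : K⟦X⟧)) := by ring
      _ = X ^ (t * n) * PowerSeries.map (algebraMap R K) e := by
        rw [← Units.val_mul, ← mul_pow, mul_inv_cancel, one_pow, Units.val_one, mul_one])
  have hfg : f = g * q := by
    apply hφ
    rw [map_mul, hgu]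
    have h2 := congrArg (fun z => z * (u : K⟦X⟧)) hq
    rw [mul_assoc, Units.inv_mul, mul_one] at h2
    rw [h2]; ring
  refine ⟨q, ?_⟩
  rw [hw_def, hfg, map_mul]
  rw [mul_div_cancel_left₀ _ hgF]

end Groth.Agent.Lib.Helper88.PowerSeriesNormal
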