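import Groth.Prelude.Def_Found
import Mathlib

/-!
# No embedded components: basic transport lemmas

`NoEmb E`: every associated prime of the ring `E` is a minimal prime.
-/

universe u

namespace Groth.Agent.Lib.Helper88.S1Lift

open TensorProduct

section Basic

variable {E : Type*} [CommRing E] [IsNoetherianRing E]

theorem mem_ass_quotient_iff (I Q : Ideal E) :
    Q ∈ associatedPrimes E (E ⧸ I) ↔ Q.IsPrime ∧ ∃ x : E, ∀ a, a ∈ Q ↔ a * x ∈ I := by
  rw [AssociatedPrimes.mem_iff, isAssociatedPrime_iff]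
  constructor
  · rintro ⟨hp, y, hy⟩
    obtain ⟨x, rfl⟩ := Ideal.Quotient.mk_surjective y
    refine ⟨hp, x, fun a => ?_⟩
    rw [hy, Submodule.mem_colon_singleton, Submodule.mem_bot, ← Ideal.Quotient.eq_zero_iff_mem]
    rfl
  · rintro ⟨hp, x, hx⟩
    refine ⟨hp, Ideal.Quotient.mk I x, ?_⟩
    ext a
    rw [hx, Submodule.mem_colon_singleton, Submodule.mem_bot, ← Ideal.Quotient.eq_zero_iff_mem]
    rfl

theorem mem_ass_self_iff (Q : Ideal E) :
    Q ∈ associatedPrimes E E ↔ Q.IsPrime ∧ ∃ x : E, ∀ a, a ∈ Q ↔ a * x = 0 := by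
  rw [AssociatedPrimes.mem_iff, isAssociatedPrime_iff]
  constructor
  · rintro ⟨hp, x, hx⟩
    refine ⟨hp, x, fun a => ?_⟩
    rw [hx, Submodule.mem_colon_singleton, Submodule.mem_bot, smul_eq_mul]
  · rintro ⟨hp, x, hx⟩
    refine ⟨hp, x, ?_⟩
    ext a
    rw [hx, Submodule.mem_colon_singleton, Submodule.mem_bot, smul_eq_mul]

/-- every associated prime of the ring is a minimal prime -/
def NoEmb (E : Type*) [CommRing E] : Prop :=
  ∀ Q ∈ associatedPrimes E E, Q ∈ minimalPrimes E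

end Basic

section Transport

variable {E E₁ : Type*} [CommRing E] [CommRing E₁] [IsNoetherianRing E] [IsNoetherianRing E₁]
  (ψ : E →+* E₁) (hψ : Function.Surjective ψ)

include hψ in
/-- **Claim A** -/
theorem mem_minimalPrimes_ker_of_noEmb (h : NoEmb E₁) {Q : Ideal E} (hQ : Q.IsPrime) (x : E)
    (hx : ∀ a, a ∈ Q ↔ a * x ∈ RingHom.ker ψ) : Q ∈ (RingHom.ker ψ).minimalPrimes := by
  have hker : RingHom.ker ψ ≤ Q := fun a ha => (hx a).2 (Ideal.mul_mem_right _ _ ha)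
  haveI : (Q.map ψ).IsPrime := Ideal.map_isPrime_of_surjective hψ hker
  have hcm : (Q.map ψ).comap ψ = Q := by
    rw [Ideal.comap_map_of_surjective ψ hψ, ← RingHom.ker_eq_comap_bot]
    exact sup_eq_left.mpr hker
  have hass : Q.map ψ ∈ associatedPrimes E₁ E₁ := by
    rw [mem_ass_self_iff]
    refine ⟨inferInstance, ψ x, fun b => ?_⟩
    obtain ⟨a, rfl⟩ := hψ b
    rw [← map_mul, ← RingHom.mem_ker, ← hx a, ← Ideal.mem_comap, hcm]
  have hmin := h _ hass
  have := Ideal.minimalPrimes_comap_of_surjective hψ (I := ⊥) hmin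
  rwa [hcm, ← RingHom.ker_eq_comap_bot] at this

include hψ in
/-- **Claim B** -/
theorem mem_minimalPrimes_sup_of_map (J : Ideal E)
    (hB : ∀ Q' ∈ minimalPrimes E₁, ∀ P' ∈ (Q' ⊔ J.map ψ).minimalPrimes,
      P' ∈ (J.map ψ).minimalPrimes)
    {Q₁ : Ideal E} (hQ₁ : Q₁ ∈ (RingHom.ker ψ).minimalPrimes) {P : Ideal E}
    (hP : P ∈ (Q₁ ⊔ J).minimalPrimes) : P ∈ (J ⊔ RingHom.ker ψ).minimalPrimes := by
  have hkQ : RingHom.ker ψ ≤ Q₁ := hQ₁.1.2
  have hkP : RingHom.ker ψ ≤ P := hkQ.trans (le_sup_left.trans hP.1.2)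
  have h1 : Q₁.map ψ ∈ minimalPrimes E₁ := by
    have := Ideal.minimalPrimes_map_of_surjective hψ (⊥ : Ideal E)
    rw [Ideal.map_bot, bot_sup_eq] at this
    change Q₁.map ψ ∈ (⊥ : Ideal E₁).minimalPrimes
    rw [this]
    exact ⟨Q₁, hQ₁, rfl⟩
  have h2 : P.map ψ ∈ (Q₁.map ψ ⊔ J.map ψ).minimalPrimes := by
    rw [← Ideal.map_sup, Ideal.minimalPrimes_map_of_surjective hψ]
    refine ⟨P, ?_, rfl⟩
    rwa [sup_eq_left.mpr (hkQ.trans le_sup_left)]
  have h3 := hB _ h1 _ h2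
  rw [Ideal.minimalPrimes_map_of_surjective hψ] at h3
  obtain ⟨P', hP', hPP'⟩ := h3
  have hkP' : RingHom.ker ψ ≤ P' := le_sup_right.trans hP'.1.2
  have e1 : (P'.map ψ).comap ψ = P' := by
    rw [Ideal.comap_map_of_surjective ψ hψ, ← RingHom.ker_eq_comap_bot]
    exact sup_eq_left.mpr hkP'
  have e2 : (P.map ψ).comap ψ = P := by
    rw [Ideal.comap_map_of_surjective ψ hψ, ← RingHom.ker_eq_comap_bot]
    exact sup_eq_left.mpr hkP
  have : P' = P := by rw [← e1, hPP', e2]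
  rwa [this] at hP'

end Transport

/-- `NoEmb` is invariant under ring isomorphisms -/
theorem noEmb_of_ringEquiv {E E₁ : Type*} [CommRing E] [CommRing E₁] [IsNoetherianRing E]
    [IsNoetherianRing E₁] (e : E ≃+* E₁) (h : NoEmb E₁) : NoEmb E := by
  intro Q hQ
  obtain ⟨hp, x, hx⟩ := (mem_ass_self_iff Q).1 hQ
  have hker : RingHom.ker (e : E →+* E₁) = ⊥ :=
    (RingHom.injective_iff_ker_eq_bot _).1 e.injective
  have := mem_minimalPrimes_ker_of_noEmb (e : E →+* E₁) e.surjective h hp x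
    (fun a => by rw [hx a, hker, Ideal.mem_bot])
  rwa [hker] at this

end Groth.Agent.Lib.Helper88.S1Lift
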