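import Groth.Agent.S14727
import Groth.Agent.S9604
import Groth.Agent.Lib.Helper83.AdicExt

/-!
# Noetherian rings complete along an ideal with Artinian quotient

Let `S` be a Noetherian ring, `I`-adically complete, with finitely many maximal ideals and such
that every prime containing `I` is maximal. Then `S → S_m` is surjective for every maximal ideal
`m`, and `S_m` is a complete local ring. (Generalises the module-finite case `S9405`.)
-/

set_option autoImplicit false
set_option linter.unusedSectionVars false
universe u

namespace Groth.Agent.Lib.Helper88.SemilocalComplete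

open IsLocalRing

variable (S : Type u) [CommRing S] [IsNoetherianRing S] (I : Ideal S) [hc : IsAdicComplete I S]

theorem le_of_isMaximal (m : MaximalSpectrum S) : I ≤ m.asIdeal :=
  (IsAdicComplete.le_jacobson_bot I).trans (sInf_le ⟨bot_le, m.isMaximal⟩)

variable (hfin : Finite (MaximalSpectrum S))
  (hIprime : ∀ (p : Ideal S), p.IsPrime → I ≤ p → p.IsMaximal)

include hfin hIprime in
theorem exists_idem (m : MaximalSpectrum S) :
    ∃ e : S, algebraMap S (Localization.AtPrime m.asIdeal) e = 1 ∧
      ∀ m' : MaximalSpectrum S, m' ≠ m →
        algebraMap S (Localization.AtPrime m'.asIdeal) e = 0 := by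
  classical
  have hIle : ∀ m : MaximalSpectrum S, I ≤ m.asIdeal := fun m => le_of_isMaximal S I m
  -- approximate idempotent
  obtain ⟨r, hr⟩ := Groth.Agent.S14727.exists_forall_sub_mem_map hfin I hIprime 1
    (fun m' => if m'.1 = m then 1 else 0)
  simp only [pow_one] at hr
  have hrI : r ^ 2 - r ∈ I := by
    have := Groth.Agent.S14727.mem_of_forall_mem_map I 1 (r ^ 2 - r) ?_
    · simpa using this
    intro m' hm'
    have h1 := hr ⟨m', hm'⟩
    simp only [pow_one]
    set z : Localization.AtPrime m'.asIdeal := if m' = m then 1 else 0 with hz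
    have hz2 : z ^ 2 = z := by
      rw [hz]; split_ifs <;> simp
    set j := algebraMap S (Localization.AtPrime m'.asIdeal) r - z with hj
    have : algebraMap S (Localization.AtPrime m'.asIdeal) (r ^ 2 - r)
        = j * (2 * z + j - 1) := by
      have e1 : algebraMap S (Localization.AtPrime m'.asIdeal) r = z + j := by rw [hj]; ring
      rw [map_sub, map_pow, e1]
      have : (z + j) ^ 2 - (z + j) = (z ^ 2 - z) + j * (2 * z + j - 1) := by ring
      rw [this, hz2]; ring
    rw [this]
    exact Ideal.mul_mem_right _ _ h1
  -- Henselian lifting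
  have hnt : Nontrivial S := ⟨⟨0, 1, fun h => m.isMaximal.ne_top
    ((Ideal.eq_top_iff_one _).mpr (h ▸ m.asIdeal.zero_mem))⟩⟩
  have hH : HenselianRing S I := inferInstance
  obtain ⟨e, he, heI⟩ := hH.is_henselian (Polynomial.X ^ 2 - Polynomial.X)
    (Polynomial.monic_X_pow_sub (by rw [Polynomial.degree_X]; norm_num)) r
    (by simpa using hrI)
    (by
      apply IsUnit.of_mul_eq_one (Ideal.Quotient.mk I (2 * r - 1))
      have : (Polynomial.derivative (Polynomial.X ^ 2 - Polynomial.X : Polynomial S)).eval r
          = 2 * r - 1 := by simp; ring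
      rw [this, ← map_mul, ← map_one (Ideal.Quotient.mk I), Ideal.Quotient.eq]
      have : (2 * r - 1) * (2 * r - 1) - 1 = 4 * (r ^ 2 - r) := by ring
      rw [this]
      exact Ideal.mul_mem_left _ _ hrI)
  have he2 : e * e = e := by
    have : e ^ 2 - e = 0 := by simpa [Polynomial.IsRoot] using he
    rw [← sub_eq_zero, ← this]; ring
  have hmapI : ∀ (m' : MaximalSpectrum S) (x : S), x ∈ I →
      algebraMap S (Localization.AtPrime m'.asIdeal) x ∈
        maximalIdeal (Localization.AtPrime m'.asIdeal) := by
    intro m' x hx
    have e1 := IsLocalization.AtPrime.comap_maximalIdeal (Localization.AtPrime m'.asIdeal) m'.asIdeal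
    have : x ∈ Ideal.under S (maximalIdeal (Localization.AtPrime m'.asIdeal)) := by
      rw [e1]; exact hIle m' hx
    exact this
  have hmapI' : ∀ (m' : MaximalSpectrum S),
      Ideal.map (algebraMap S (Localization.AtPrime m'.asIdeal)) I ≤
        maximalIdeal (Localization.AtPrime m'.asIdeal) := by
    intro m'
    rw [Ideal.map_le_iff_le_comap]
    intro x hx
    exact hmapI m' x hx
  refine ⟨e, ?_, ?_⟩
  · -- image of e in S_m is a unit idempotent
    have h1 := hmapI' m (hr ⟨m, hIle m⟩)
    simp only [if_true] at h1
    have h2 := hmapI m (e - r) heI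
    have h3 : algebraMap S (Localization.AtPrime m.asIdeal) e - 1 ∈
        maximalIdeal (Localization.AtPrime m.asIdeal) := by
      have : algebraMap S (Localization.AtPrime m.asIdeal) e - 1
          = algebraMap S (Localization.AtPrime m.asIdeal) (e - r)
            + (algebraMap S (Localization.AtPrime m.asIdeal) r - 1) := by
        rw [map_sub]; ring
      rw [this]; exact add_mem h2 h1
    have hu : IsUnit (algebraMap S (Localization.AtPrime m.asIdeal) e) := by
      by_contra hnu
      have : algebraMap S (Localization.AtPrime m.asIdeal) e ∈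
          maximalIdeal (Localization.AtPrime m.asIdeal) := hnu
      have h1' := sub_mem this h3
      simp only [sub_sub_cancel] at h1'
      exact (Ideal.ne_top_iff_one _).mp (IsLocalRing.maximalIdeal.isMaximal _).ne_top h1'
    have hid : algebraMap S (Localization.AtPrime m.asIdeal) e *
        algebraMap S (Localization.AtPrime m.asIdeal) e
        = algebraMap S (Localization.AtPrime m.asIdeal) e := by rw [← map_mul, he2]
    exact hu.mul_left_cancel (by rw [hid, mul_one])
  · intro m' hne
    have h1 := hmapI' m' (hr ⟨m', hIle m'⟩)
    simp only [if_neg hne, sub_zero] at h1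
    have h2 := hmapI m' (e - r) heI
    have h3 : algebraMap S (Localization.AtPrime m'.asIdeal) e ∈
        maximalIdeal (Localization.AtPrime m'.asIdeal) := by
      have : algebraMap S (Localization.AtPrime m'.asIdeal) e
          = algebraMap S (Localization.AtPrime m'.asIdeal) (e - r)
            + algebraMap S (Localization.AtPrime m'.asIdeal) r := by
        rw [map_sub]; ring
      rw [this]; exact add_mem h2 h1
    have hu : IsUnit (1 - algebraMap S (Localization.AtPrime m'.asIdeal) e) :=
      IsLocalRing.isUnit_one_sub_self_of_mem_nonunits _ h3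
    have hid : (1 - algebraMap S (Localization.AtPrime m'.asIdeal) e) *
        algebraMap S (Localization.AtPrime m'.asIdeal) e = 0 := by
      rw [sub_mul, one_mul, ← map_mul, he2, sub_self]
    exact (IsUnit.mul_right_eq_zero hu).mp hid

include hfin hIprime in
theorem exists_lift (m : MaximalSpectrum S) (w : Localization.AtPrime m.asIdeal) :
    ∃ x : S, algebraMap S (Localization.AtPrime m.asIdeal) x = w ∧
      ∀ m' : MaximalSpectrum S, m' ≠ m →
        algebraMap S (Localization.AtPrime m'.asIdeal) x = 0 := by
  obtain ⟨e, he1, he0⟩ := exists_idem S I hfin hIprime m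
  obtain ⟨⟨a, s⟩, has⟩ := IsLocalization.surj m.asIdeal.primeCompl w
  simp only at has
  have himg : ∀ m' : MaximalSpectrum S,
      IsUnit (algebraMap S (Localization.AtPrime m'.asIdeal) ((s : S) * e + (1 - e))) := by
    intro m'
    by_cases h : m' = m
    · subst h
      rw [map_add, map_mul, map_sub, he1, map_one, mul_one, sub_self, add_zero]
      exact IsLocalization.map_units _ s
    · rw [map_add, map_mul, map_sub, he0 m' h, map_one, mul_zero, sub_zero, zero_add]
      exact isUnit_one
  have hu : IsUnit ((s : S) * e + (1 - e)) := by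
    by_contra hnu
    obtain ⟨M, hM, huM⟩ := exists_max_ideal_of_mem_nonunits hnu
    have h1 := himg ⟨M, hM⟩
    have hP : M.IsPrime := hM.isPrime
    rw [IsLocalization.AtPrime.isUnit_to_map_iff (Localization.AtPrime M) M] at h1
    exact h1 huM
  obtain ⟨u, hu'⟩ := hu
  refine ⟨a * e * (↑u⁻¹ : S), ?_, ?_⟩
  · have hs : IsUnit (algebraMap S (Localization.AtPrime m.asIdeal) (s : S)) :=
      IsLocalization.map_units _ s
    apply hs.mul_right_cancel
    rw [has]
    have e1 : algebraMap S (Localization.AtPrime m.asIdeal) (s : S)
        = algebraMap S (Localization.AtPrime m.asIdeal) (u : S) := by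
      rw [hu', map_add, map_mul, map_sub, he1, map_one, mul_one, sub_self, add_zero]
    rw [e1, ← map_mul, mul_assoc (a * e), Units.inv_mul, mul_one, map_mul, he1, mul_one]
  · intro m' hne
    rw [map_mul, map_mul, he0 m' hne, mul_zero, zero_mul]


include hfin hIprime in
theorem surjective_algebraMap (m : MaximalSpectrum S) :
    Function.Surjective (algebraMap S (Localization.AtPrime m.asIdeal)) :=
  fun w => let ⟨x, hx, _⟩ := exists_lift S I hfin hIprime m w; ⟨x, hx⟩

include hfin hIprime in
theorem isAdicComplete_localization (m : MaximalSpectrum S) :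
    IsAdicComplete (maximalIdeal (Localization.AtPrime m.asIdeal))
      (Localization.AtPrime m.asIdeal) := by
  have hsurj := surjective_algebraMap S I hfin hIprime m
  set T := Localization.AtPrime m.asIdeal with hT
  haveI : IsNoetherianRing T := IsLocalization.isNoetherianRing m.asIdeal.primeCompl _ inferInstance
  haveI : Module.Finite S T := Module.Finite.of_surjective (Algebra.linearMap S T) hsurj
  have hP : IsPrecomplete I T :=
    Groth.Agent.Lib.Helper83.isPrecomplete_of_surjective I (Algebra.linearMap S T) hsurj
  have hH : IsHausdorff I T := IsHausdorff.of_le_jacobson I T (IsAdicComplete.le_jacobson_bot I)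
  have hcT : IsAdicComplete I T := {}
  have hcT' : IsAdicComplete (I.map (algebraMap S T)) T :=
    (IsAdicComplete.map_algebraMap_iff (I := I) (S := T) (M := T)).mpr hcT
  set J := I.map (algebraMap S T) with hJ
  have h1 : J ≤ maximalIdeal T := by
    rw [hJ, Ideal.map_le_iff_le_comap]
    have e1 := IsLocalization.AtPrime.comap_maximalIdeal T m.asIdeal
    intro x hx
    have : x ∈ Ideal.under S (maximalIdeal T) := by
      rw [e1]; exact le_of_isMaximal S I m hx
    exact this
  have hrad : J.radical = maximalIdeal T := by
    rw [Ideal.radical_eq_sInf]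
    apply le_antisymm
    · exact sInf_le ⟨h1, (IsLocalRing.maximalIdeal.isMaximal T).isPrime⟩
    · apply le_sInf
      rintro P ⟨hPle, hPprime⟩
      have hcomap : (P.comap (algebraMap S T)).IsMaximal :=
        hIprime _ (Ideal.comap_isPrime _ _) (Ideal.map_le_iff_le_comap.mp hPle)
      have hle : P.comap (algebraMap S T) ≤ m.asIdeal := by
        have e1 := IsLocalization.AtPrime.comap_maximalIdeal T m.asIdeal
        intro x hx
        have : x ∈ Ideal.under S (maximalIdeal T) :=
          Ideal.comap_mono (IsLocalRing.le_maximalIdeal hPprime.ne_top) hx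
        rw [e1] at this
        exact this
      have heq : P.comap (algebraMap S T) = m.asIdeal :=
        hcomap.eq_of_le m.isMaximal.ne_top hle
      have hPeq : P = maximalIdeal T := by
        rw [← IsLocalization.map_under m.asIdeal.primeCompl T P]
        have heq' : Ideal.under S P = m.asIdeal := heq
        rw [heq']
        exact IsLocalization.AtPrime.map_eq_maximalIdeal m.asIdeal T
      rw [hPeq]
  obtain ⟨N, hN⟩ := Ideal.exists_radical_pow_le_of_fg J (IsNoetherian.noetherian _)
  rw [hrad] at hN
  have hN' : maximalIdeal T ^ (N + 1) ≤ J := le_trans (Ideal.pow_le_pow_right (Nat.le_succ N)) hN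
  exact Groth.Agent.S9604.aux J (maximalIdeal T) 1 (N + 1) one_pos (Nat.succ_pos N)
    (by rwa [pow_one]) hN' T hcT'

end Groth.Agent.Lib.Helper88.SemilocalComplete
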